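import Cfsg.Agent.Lib.Nonconn.Small

/-!
The small case is impossible.

Blueprint: `blueprint/S0503.md`, case A8.
-/

set_option autoImplicit false
set_option linter.unusedSectionVars false

namespace CfsgLib.Nonconn

open Subgroup
open scoped Pointwise

variable {G : Type*} [Group G] [Finite G]

/-- A fixed exponent for the swapped pair. -/
theorem exists_shift {N : ℕ} {m x : ℤ} (hm : Odd m) (hx : Even x) (h1 : (2 : ℤ) ^ (N + 1) ∣ x * (1 + m))
    (h2 : (2 : ℤ) ^ (N + 1) ∣ m * m - 1 - 2 ^ N) : ∃ i : ℤ, Even i ∧ (2 : ℤ) ^ N ∣ x + (m - 1) * i := by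
  obtain ⟨n, hn⟩ := hm
  obtain ⟨x₁, hx₁⟩ := hx
  have hcop : ∀ {o : ℤ}, Odd o → IsCoprime ((2 : ℤ) ^ N) o := fun {o} ⟨q, hq⟩ =>
    IsCoprime.pow_left ⟨-q, 1, by rw [hq]; ring⟩
  rcases Int.even_or_odd n with ⟨p, hp⟩ | hodd
  · refine ⟨0, ⟨0, rfl⟩, ?_⟩
    rw [mul_zero, add_zero]
    refine (hcop (o := 2 * p + 1) ⟨p, rfl⟩).dvd_of_dvd_mul_right ?_
    have : (2 : ℤ) ^ N * 2 ∣ x * (2 * p + 1) * 2 := by
      rw [← pow_succ]
      rwa [show x * (2 * p + 1) * 2 = x * (1 + m) by rw [hn, hp]; ring]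
    exact Int.dvd_of_mul_dvd_mul_right (by norm_num) this
  · obtain ⟨a, b, hab⟩ := hcop hodd
    have h4 : Even x₁ := by
      rcases Int.even_or_odd x₁ with h | ⟨q, hq⟩
      · exact h
      exfalso
      have h1' : (2 : ℤ) ^ (N + 1) ∣ (4 * (n + 1)) * (2 * q + 1) := by
        rwa [show 4 * (n + 1) * (2 * q + 1) = x * (1 + m) by rw [hn, hx₁, hq]; ring]
      have h3 : (2 : ℤ) ^ (N + 1) ∣ 4 * (n + 1) :=
        (IsCoprime.pow_left (⟨-q, 1, by ring⟩ : IsCoprime (2 : ℤ) (2 * q + 1))).dvd_of_dvd_mul_right h1'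
      have h5 : (2 : ℤ) ^ (N + 1) ∣ m * m - 1 := by
        rw [show m * m - 1 = 4 * (n + 1) * n by rw [hn]; ring]
        exact h3.mul_right n
      have h6 := dvd_sub h5 h2
      rw [show m * m - 1 - (m * m - 1 - 2 ^ N) = (2 : ℤ) ^ N by ring] at h6
      have := Int.le_of_dvd (pow_pos (by norm_num) N) h6
      rw [pow_succ] at this
      have := pow_pos (show (0 : ℤ) < 2 by norm_num) N
      omega
    obtain ⟨x₂, hx₂⟩ := h4
    refine ⟨2 * (-x₂ * b), ⟨-x₂ * b, by ring⟩, 4 * x₂ * a, ?_⟩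
    rw [hn, hx₁, hx₂]
    linear_combination (-4 * x₂) * hab

namespace SmallCase

variable {c : Ctx G} (h : SmallCase c)
include h

theorem exists_gen : ∃ (k : ℕ) (d : G), d ∈ h.D ∧ d ^ (2 ^ (k + 1)) = c.z ∧
    ((∃ e ∈ c.U, d ^ (2 ^ k) = h.a * e)) ∧ ∀ x ∈ h.D, ∃ (i : ℤ), ∃ e ∈ c.U, x = d ^ i * e := by
  classical
  haveI := Fact.mk Nat.prime_two
  obtain ⟨d, hd, hmax⟩ := Set.exists_max_image (h.D : Set G) orderOf (Set.toFinite _) ⟨1, one_mem _⟩
  have hp : ∀ {x}, x ∈ h.D → ∃ n, orderOf x = 2 ^ n := fun {x} hx => by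
    obtain ⟨n, hn⟩ := IsPGroup.iff_orderOf.1 c.S.2 ⟨x, c.T_le (h.mem_D.1 hx).1⟩
    exact ⟨n, (orderOf_mk x _).symm.trans hn⟩
  have hoa : orderOf h.a = 2 ^ 2 := orderOf_eq_prime_pow (by rw [pow_one, pow_two, h.aa]; exact c.z1)
    (by rw [show (2 : ℕ) ^ (1 + 1) = 4 by norm_num]; exact h.a4)
  obtain ⟨n, hn⟩ := hp hd
  obtain ⟨k, rfl⟩ : ∃ k, n = k + 2 := by
    have := hmax _ h.aD
    rw [hoa, hn, Nat.pow_le_pow_iff_right (by norm_num)] at this
    exact ⟨n - 2, by omega⟩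
  have h4 : (d ^ 2 ^ k) ^ 4 = 1 := by
    rw [← pow_mul, show 2 ^ k * 4 = 2 ^ (k + 2) by ring, ← hn, pow_orderOf_eq_one]
  have h2 : d ^ 2 ^ (k + 1) ≠ 1 := fun e => by
    have := orderOf_dvd_of_pow_eq_one e
    rw [hn, Nat.pow_dvd_pow_iff_le_right (by norm_num)] at this
    omega
  obtain ⟨e₀, he₀, hde | hde⟩ := h.order_four _ (h.mem_D.1 (pow_mem hd _)).1 (h.mem_D.1 (pow_mem hd (2 ^ k))).2 h4
  · exact absurd (by rw [pow_succ, pow_mul, hde, pow_two, c.U_sq he₀]) h2
  have hdz : d ^ 2 ^ (k + 1) = c.z := by rw [pow_succ, pow_mul, hde, pow_two, h.ae_sq he₀]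
  refine ⟨k, d, hd, hdz, ⟨e₀, he₀, hde⟩, fun x hx => ?_⟩
  obtain ⟨j, hj⟩ := c.S.2 ⟨x, c.T_le (h.mem_D.1 hx).1⟩
  have hj' : x ^ 2 ^ j = 1 := congrArg Subtype.val hj
  clear hj
  induction j generalizing x with
  | zero => exact ⟨0, 1, one_mem _, by rw [zpow_zero, one_mul]; simpa using hj'⟩
  | succ j ih =>
    obtain ⟨i, e, he, hxx⟩ := ih (x * x) (mul_mem hx hx) (by rw [← pow_two, ← pow_mul, ← pow_succ']; exact hj')
    have hce : ∀ {p}, p ∈ h.D → Commute p e := fun {p} hp => c.T_U (h.mem_D.1 hp).1 he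
    rcases Int.even_or_odd i with ⟨q, rfl⟩ | ⟨q, rfl⟩
    · have hxdd : d * (x * x) = x * x * d := by
        rw [hxx]; exact (((Commute.refl d).zpow_right _).mul_right (hce hd)).eq
      obtain ⟨f, hf, hfd⟩ := h.D_comm hx hd hxdd
      have hxd : x * d * x⁻¹ = d * f := by
        have hdx : d * x = x * f * d := by rw [← hfd]; group
        have hfT : f * d = d * f := (c.T_U (h.mem_D.1 hd).1 hf).symm
        rw [mul_assoc, hfT, ← mul_assoc] at hdx
        calc x * d * x⁻¹ = (x * d * f) * f⁻¹ * x⁻¹ := by group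
          _ = d * (x * f⁻¹ * x⁻¹) := by rw [← hdx]; group
          _ = d * f := by
            rw [inv_of_sq (c.U_sq hf), c.T_U (h.mem_D.1 hx).1 hf, mul_inv_cancel_right]
      have hcdf : Commute d f := c.T_U (h.mem_D.1 hd).1 hf
      have hxq : x * d ^ (-q) * x⁻¹ = d ^ (-q) * f ^ (-q) := by
        rw [← conj_zpow, hxd, hcdf.mul_zpow]
      set P := x * d ^ (-q) with hP
      have hPD : P ∈ h.D := mul_mem hx (zpow_mem hd _)
      have hsq : P * P = f ^ (-q) * e := by
        have hfq : f ^ (-q) ∈ c.U := zpow_mem hf _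
        have e2 : x * d ^ (-q) = d ^ (-q) * f ^ (-q) * x := by rw [← hxq, hP]; group
        calc P * P = d ^ (-q) * f ^ (-q) * x * (x * d ^ (-q)) := congrArg (fun r => r * P) e2
          _ = d ^ (-q) * f ^ (-q) * (d ^ (q + q) * e) * d ^ (-q) := by rw [← hxx]; group
          _ = d ^ (-q) * ((f ^ (-q) * d ^ (q + q)) * (e * d ^ (-q))) := by group
          _ = d ^ (-q) * ((d ^ (q + q) * f ^ (-q)) * (d ^ (-q) * e)) := by
            rw [c.T_U (h.mem_D.1 (zpow_mem hd (q + q))).1 hfq, c.T_U (h.mem_D.1 (zpow_mem hd (-q))).1 he]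
          _ = d ^ (-q) * d ^ (q + q) * (f ^ (-q) * d ^ (-q)) * e := by group
          _ = f ^ (-q) * e := by
            rw [← c.T_U (h.mem_D.1 (zpow_mem hd (-q))).1 hfq]; group
      have hP4 : P ^ 4 = 1 := by rw [pow_four, hsq, c.U_sq (mul_mem (zpow_mem hf _) he)]
      obtain ⟨e', he', h' | h'⟩ := h.order_four P (h.mem_D.1 hPD).1 (h.mem_D.1 hPD).2 hP4
      · refine ⟨q, e', he', ?_⟩
        rw [c.T_U (h.mem_D.1 (zpow_mem hd q)).1 he', ← h', hP]
        group
      · refine ⟨(2 ^ k : ℕ) + q, e₀ * e', mul_mem he₀ he', ?_⟩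
        rw [zpow_add, zpow_natCast, hde]
        calc x = P * d ^ q := by rw [hP]; group
          _ = h.a * (e' * d ^ q) := by rw [h', mul_assoc]
          _ = h.a * (d ^ q * e') := by rw [c.T_U (h.mem_D.1 (zpow_mem hd q)).1 he']
          _ = h.a * e₀ * (e₀ * d ^ q) * e' := by
            rw [← mul_assoc (h.a * e₀), mul_assoc h.a e₀ e₀, c.U_sq he₀, mul_one, mul_assoc]
          _ = _ := by rw [← c.T_U (h.mem_D.1 (zpow_mem hd q)).1 he₀]; group
    · exfalso
      obtain ⟨m, hm⟩ := hp hx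
      have hle := hmax x hx
      rw [hn, hm, Nat.pow_le_pow_iff_right (by norm_num)] at hle
      have h1 : x ^ 2 ^ (k + 2) = 1 := orderOf_dvd_iff_pow_eq_one.1 (by rw [hm]; exact pow_dvd_pow 2 hle)
      have he2 : e ^ 2 ^ (k + 1) = 1 := by rw [pow_succ', pow_mul, pow_two, c.U_sq he, one_pow]
      rw [pow_succ', pow_mul, pow_two, hxx, ((hce hd).zpow_left _).mul_pow, he2, mul_one, ← zpow_natCast, ← zpow_mul,
        ← orderOf_dvd_iff_zpow_eq_one, hn] at h1
      push_cast at h1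
      rw [show ((2 : ℤ) ^ (k + 2)) = 2 ^ (k + 1) * 2 by ring, mul_comm (2 * q + 1)] at h1
      have := Int.dvd_of_mul_dvd_mul_left (by positivity) h1
      omega

/-- The square of an element of `S` in `D` of order two is `z`, given that on the generators. -/
theorem sq_outside {s : G} (hs : s ∈ (c.S : Subgroup G)) (hsT : s ∉ c.T) : s * s ∈ h.D := by
  refine (h.phi_eq_one (c.sq_mem_T hs)).1 ?_
  have hr : s * c.t ∈ c.T := c.mul_outer hs c.tS hsT c.tT
  have hti : c.t⁻¹ = c.t := inv_of_sq c.tt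
  have e : s * s = s * c.t * (c.t * (s * c.t) * c.t⁻¹) := by
    rw [hti, show s * c.t * (c.t * (s * c.t) * c.t) = s * ((c.t * c.t) * s * (c.t * c.t)) by group, c.tt, one_mul,
      mul_one]
  rw [e, h.phi_mul hr (c.T_normal c.tS hr), h.phi_conj_t hr]
  rcases h.phi_cases hr with h' | h' <;> rw [h']
  · simp
  · rw [c.zc _ c.tS, mul_inv_cancel_right, c.zz]

theorem false_of : False := by
  classical
  haveI := Fact.mk Nat.prime_two
  obtain ⟨k, d, hd, hdz, ⟨e₀, he₀, hda⟩, hgen⟩ := h.exists_gen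
  have hdT : d ∈ c.T := (h.mem_D.1 hd).1
  have hti : c.t⁻¹ = c.t := inv_of_sq c.tt
  have hQ := h.noMove
  set H : ℕ := 2 ^ (k + 1) with hH
  have hdz' : d ^ (H : ℤ) = c.z := by rw [zpow_natCast]; exact hdz
  have hord : (orderOf d : ℤ) = 2 ^ (k + 2) := by
    have : orderOf d = 2 ^ (k + 2) := orderOf_eq_prime_pow (by rw [hdz]; exact c.z1)
      (by rw [pow_succ, pow_mul, hdz, pow_two, c.zz])
    rw [this]; push_cast; rfl
  have hz2 : ∀ {i : ℤ}, (2 : ℤ) ^ (k + 1) ∣ i → d ^ i = 1 ∨ d ^ i = c.z := by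
    intro i ⟨q, hq⟩
    have e : d ^ i = c.z ^ q := by
      rw [hq, zpow_mul]
      congr 1
    rcases Int.even_or_odd q with ⟨r, rfl⟩ | ⟨r, rfl⟩
    · left; rw [e, ← two_mul, zpow_mul, zpow_two, c.zz, one_zpow]
    · right; rw [e, zpow_add, zpow_mul, zpow_two, c.zz, one_zpow, one_mul, zpow_one]
  -- a power of the generator in `U`
  have hUpow : ∀ {i : ℤ}, d ^ i ∈ c.U → d ^ i = 1 ∨ d ^ i = c.z := by
    intro i hi
    refine hz2 ?_
    have h1 : d ^ (i * 2) = 1 := by rw [zpow_mul, zpow_two]; exact c.U_sq hi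
    rw [← orderOf_dvd_iff_zpow_eq_one, hord, pow_succ] at h1
    exact Int.dvd_of_mul_dvd_mul_right (by norm_num) h1
  -- squares
  have hzsq : ∀ {x}, x ∈ c.T → x ∉ h.D → h.phi x = c.z := fun hx hxD =>
    (h.phi_cases hx).resolve_left fun e => hxD ((h.phi_eq_one hx).1 e)
  -- the involution
  obtain ⟨y, hy⟩ := c.exists_top
  obtain ⟨w, hwS, hwu, hww, hw1, hwz, hwu', hwuz⟩ := c.big
  have hwT : w ∈ c.T := c.mem_T.2 ⟨hwS, hwu⟩
  have hwD : w ∉ h.D := fun hw => by
    rcases h.D_inv hw hww with e | e | e | e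
    exacts [hw1 e, hwz e, hwu' e, hwuz e]
  -- how an involution of `T` outside `D` acts
  have hact : ∀ {x}, x ∈ c.T → x ∉ h.D → x * x = 1 →
      ∃ l : ℤ, x * d * x⁻¹ = d ^ l ∧ (∃ o : ℤ, Odd o ∧ l - 1 = 2 * o) ∧ (2 : ℤ) ^ (k + 1) ∣ l + 1 := by
    intro x hx hxD hxx
    have hxi : x⁻¹ = x := inv_of_sq hxx
    have hconjD : ∀ {p r : G}, p ∈ h.D → r ∈ c.T → r * p * r⁻¹ ∈ h.D := fun {p r} hp hr => by
      refine (h.phi_eq_one (mul_mem (mul_mem hr (h.mem_D.1 hp).1) (inv_mem hr))).1 ?_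
      rw [h.phi_mul (mul_mem hr (h.mem_D.1 hp).1) (inv_mem hr), h.phi_mul hr (h.mem_D.1 hp).1,
        (h.phi_eq_one (h.mem_D.1 hp).1).2 hp, mul_one, h.phi_inv hr, c.U_sq (h.phi_U (c.T_le hr))]
    have htdD : c.t * d * c.t⁻¹ ∈ h.D := (h.phi_eq_one (c.T_normal c.tS hdT)).1 (by
      rw [h.phi_conj_t hdT, (h.phi_eq_one hdT).2 hd, mul_one, mul_inv_cancel])
    obtain ⟨l, e, he, hl⟩ := hgen _ (hconjD hd hx)
    obtain ⟨m, f, hf, hm⟩ := hgen _ htdD
    have he1 : e = 1 ∨ e = c.z := by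
      have hte : c.t * e * c.t⁻¹ ∈ c.U := c.U_normal c.tS he
      have hmodd : Odd m := by
        rcases Int.even_or_odd m with ⟨q, rfl⟩ | hm'
        · exfalso
          have h1 : d ^ (2 ^ (k + 1)) = 1 := by
            have h2 : (c.t * d * c.t⁻¹) ^ (2 ^ (k + 1)) = 1 := by
              rw [hm, (show Commute (d ^ (q + q)) f from c.T_U (zpow_mem hdT _) hf).mul_pow, ← zpow_natCast,
                ← zpow_mul, show f ^ (2 ^ (k + 1)) = 1 by rw [pow_succ', pow_mul, pow_two, c.U_sq hf, one_pow],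
                mul_one, ← orderOf_dvd_iff_zpow_eq_one, hord]
              exact ⟨q, by push_cast; ring⟩
            rw [conj_pow] at h2
            exact conj_eq_one_iff.1 h2
          exact c.z1 (hdz.symm.trans h1)
        · exact hm'
      -- conjugation by the two conjugates of `x` agrees on `D`
      have hb : c.t * x * c.t⁻¹ * x ∈ h.D := (h.phi_eq_one (mul_mem (c.T_normal c.tS hx) hx)).1 (by
        rw [h.phi_mul (c.T_normal c.tS hx) hx, h.phi_conj_t hx, hzsq hx hxD, c.zc _ c.tS, mul_inv_cancel_right,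
          c.zz])
      obtain ⟨i, g, hg, hbg⟩ := hgen _ hb
      have hbc : Commute (c.t * x * c.t⁻¹ * x) (x * (d ^ m * f) * x) := by
        rw [hbg]
        obtain ⟨i', g', hg', hx'⟩ := hgen _ (hconjD (mul_mem (zpow_mem hd m) (h.U_le_D hf)) hx)
        rw [hxi] at hx'
        rw [hx']
        exact ((Commute.zpow_zpow_self d i i').mul_right (c.T_U (zpow_mem hdT i) hg')).mul_left
          (((show Commute (d ^ i') g from c.T_U (zpow_mem hdT i') hg).symm).mul_right
            (c.T_U (c.U_le hg) hg'))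
      have eA : c.t * (x * d * x) * c.t⁻¹ = x * (d ^ m * f) * x := by
        calc c.t * (x * d * x) * c.t⁻¹
            = (c.t * x * c.t⁻¹) * (c.t * d * c.t⁻¹) * (c.t * x * c.t⁻¹) := by group
          _ = (c.t * x * c.t⁻¹ * x) * (x * (d ^ m * f) * x) * (x * (c.t * x * c.t⁻¹)) := by
            rw [hm, show c.t * x * c.t⁻¹ * x * (x * (d ^ m * f) * x) * (x * (c.t * x * c.t⁻¹)) =
              c.t * x * c.t⁻¹ * ((x * x) * (d ^ m * f) * (x * x)) * (c.t * x * c.t⁻¹) by group, hxx, one_mul, mul_one]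
          _ = _ := by
            rw [hbc.eq, mul_assoc, show c.t * x * c.t⁻¹ * x * (x * (c.t * x * c.t⁻¹)) =
              c.t * x * c.t⁻¹ * (x * x) * (c.t * x * c.t⁻¹) by group, hxx, mul_one,
              show c.t * x * c.t⁻¹ * (c.t * x * c.t⁻¹) = c.t * (x * x) * c.t⁻¹ by group, hxx, mul_one,
              mul_inv_cancel, mul_one]
      rw [hxi] at hl
      have eB : (d ^ m * f) ^ l * (c.t * e * c.t⁻¹) = (d ^ l * e) ^ m * f := by
        have e1 : c.t * (x * d * x) * c.t⁻¹ = (d ^ m * f) ^ l * (c.t * e * c.t⁻¹) := by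
          rw [hl, ← hm, conj_zpow]; group
        have e2 : x * (d ^ m * f) * x = (d ^ l * e) ^ m * f := by
          rw [show x * (d ^ m * f) * x = x * d ^ m * (f * x) by group, ← c.T_U hx hf, ← mul_assoc, mul_assoc _ x f]
          rw [show x * d ^ m * (x * f) = (x * d ^ m * x⁻¹) * (x * x) * f by group, hxx, mul_one, ← conj_zpow, hxi, hl]
        rw [← e1, ← e2, eA]
      rw [(show Commute (d ^ m) f from c.T_U (zpow_mem hdT m) hf).mul_zpow,
        (show Commute (d ^ l) e from c.T_U (zpow_mem hdT l) he).mul_zpow, ← zpow_mul, ← zpow_mul, mul_comm m l] at eB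
      simp only [mul_assoc, mul_right_inj] at eB
      have hlodd : Odd l := by
        rcases Int.even_or_odd l with ⟨q, rfl⟩ | hl'
        · exfalso
          have h1 : d ^ (2 ^ (k + 1)) = 1 := by
            have h2 : (x * d * x⁻¹) ^ (2 ^ (k + 1)) = 1 := by
              rw [hxi, hl, (show Commute (d ^ (q + q)) e from c.T_U (zpow_mem hdT _) he).mul_pow, ← zpow_natCast,
                ← zpow_mul, show e ^ (2 ^ (k + 1)) = 1 by rw [pow_succ', pow_mul, pow_two, c.U_sq he, one_pow],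
                mul_one, ← orderOf_dvd_iff_zpow_eq_one, hord]
              exact ⟨q, by push_cast; ring⟩
            rw [conj_pow] at h2
            exact conj_eq_one_iff.1 h2
          exact c.z1 (hdz.symm.trans h1)
        · exact hl'
      have hoddU : ∀ {p : G} {n : ℤ}, p ∈ c.U → Odd n → p ^ n = p := fun {p n} hp ⟨q, hq⟩ => by
        rw [hq, zpow_add, zpow_mul, zpow_two, c.U_sq hp, one_zpow, one_mul, zpow_one]
      rw [hoddU hf hlodd, hoddU he hmodd, c.T_U (c.U_le he) hf, mul_right_inj, ← mul_assoc] at eB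
      exact c.iso e (c.T_le (c.U_le he)) (c.mem_T.1 (c.U_le he)).2 (c.U_sq he)
        (mul_inv_eq_iff_eq_mul.1 eB).symm
    obtain ⟨l, hl⟩ : ∃ l' : ℤ, x * d * x⁻¹ = d ^ l' := by
      rcases he1 with rfl | rfl
      · exact ⟨l, by rw [hl, mul_one]⟩
      · exact ⟨l + H, by rw [hl, zpow_add, hdz']⟩
    refine ⟨l, hl, ?_⟩
    have hxa : x * (h.a * e₀) * x⁻¹ = h.a * e₀ * c.z := by
      rw [show x * (h.a * e₀) * x⁻¹ = (x * h.a * x⁻¹) * (x * e₀ * x⁻¹) by group, c.T_U hx he₀, mul_inv_cancel_right,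
        h.conj_eq, hzsq hx hxD, mul_assoc, c.T_U c.zT he₀, mul_assoc]
    rw [← hda, ← conj_pow, hl, ← zpow_natCast, ← zpow_mul, ← hdz', ← zpow_natCast, ← zpow_add] at hxa
    have h1 : d ^ (l * ((2 ^ k : ℕ) : ℤ) - (((2 ^ k : ℕ) : ℤ) + (H : ℤ))) = 1 := by
      rw [zpow_sub, hxa, mul_inv_cancel]
    rw [← orderOf_dvd_iff_zpow_eq_one, hord] at h1
    push_cast [hH] at h1
    obtain ⟨q, hq⟩ := h1
    have hl1 : l - 1 = 2 + 4 * q := by
      have hk : (2 : ℤ) ^ k ≠ 0 := pow_ne_zero _ (by norm_num)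
      apply mul_left_cancel₀ hk
      rw [pow_succ, pow_succ, pow_succ] at hq
      linear_combination hq
    refine ⟨⟨1 + 2 * q, ⟨q, by ring⟩, by rw [hl1]; ring⟩, ?_⟩
    have hll : d ^ (l * l) = d := by
      rw [zpow_mul, ← hl, conj_zpow, ← hl, hxi,
        show x * (x * d * x) * x = (x * x) * d * (x * x) by group, hxx, one_mul, mul_one]
    have h2 : d ^ (l * l - 1) = 1 := by rw [zpow_sub, hll, zpow_one, mul_inv_cancel]
    rw [← orderOf_dvd_iff_zpow_eq_one, hord, show l * l - 1 = (l + 1) * (2 * q + 1) * 2 by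
      rw [show l = 3 + 4 * q by linarith]; ring, pow_succ] at h2
    exact (IsCoprime.pow_left (⟨-q, 1, by ring⟩ : IsCoprime (2 : ℤ) (2 * q + 1))).dvd_of_dvd_mul_right
      (Int.dvd_of_mul_dvd_mul_right (by norm_num) h2)
  -- the involutions which are squares
  have hsqz : ∀ {s}, s ∈ (c.S : Subgroup G) → s * s * (s * s) = 1 → s * s ≠ 1 → s * s = c.z := by
    intro s hs h4 h2
    by_cases hsT : s ∈ c.T
    · by_cases hsD : s ∈ h.D
      · obtain ⟨e, he, h' | h'⟩ := h.order_four s hsT (h.mem_D.1 hsD).2 (by rw [pow_four]; exact h4) <;> rw [h']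
        · exact absurd (by rw [h', c.U_sq he]) h2
        · exact h.ae_sq he
      · obtain ⟨l, hl, -, -⟩ := hact hwT hwD hww
        have hws : w * s ∈ h.D := (h.phi_eq_one (mul_mem hwT hsT)).1 (by
          rw [h.phi_mul hwT hsT, hzsq hwT hwD, hzsq hsT hsD, c.zz])
        obtain ⟨i, e, he, hse⟩ := hgen _ hws
        have hs' : s = w * (d ^ i * e) := by rw [← hse, ← mul_assoc, hww, one_mul]
        have hwi : w⁻¹ = w := inv_of_sq hww
        have hss : s * s = d ^ (l * i + i) := by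
          rw [hwi] at hl
          calc s * s = (w * d ^ i * w⁻¹) * (w * e * w) * (d ^ i * e) := by rw [hs']; group
            _ = (w * d * w⁻¹) ^ i * (w * (e * w)) * (d ^ i * e) := by rw [conj_zpow]; group
            _ = (d ^ l) ^ i * e * (d ^ i * e) := by
              rw [hwi, hl, ← c.T_U hwT he, ← mul_assoc w w, hww, one_mul]
            _ = d ^ (l * i) * (e * d ^ i) * e := by rw [zpow_mul]; group
            _ = d ^ (l * i) * d ^ i * (e * e) := by rw [← c.T_U (zpow_mem hdT i) he]; group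
            _ = _ := by rw [c.U_sq he, mul_one, zpow_add]
        have hU : d ^ (l * i + i) ∈ c.U := h.D_inv (zpow_mem hd _) (by rw [← hss]; exact h4)
        rw [hss]
        exact (hUpow hU).resolve_left (hss ▸ h2)
    · have hU : s * s ∈ c.U := h.D_inv (h.sq_outside hs hsT) h4
      rcases hU with e | e | e | e
      · exact absurd e h2
      · exact e
      · exfalso
        apply c.uz_ne_u
        rw [← c.outer hs hsT, ← e]
        group
      · exfalso
        apply c.uz_ne_u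
        have : s * (s * s) * s⁻¹ = s * s := by group
        rw [e, show s * (c.u * c.z) * s⁻¹ = (s * c.u * s⁻¹) * (s * c.z * s⁻¹) by group, c.outer hs hsT, c.zc s hs,
          mul_inv_cancel_right, mul_assoc, c.zz, mul_one] at this
        exact this.symm
  -- a root carried into `S`
  have hkey : ∀ {g r}, g * r * g⁻¹ ∈ (c.S : Subgroup G) → r * r = c.z → g * c.z * g⁻¹ = c.z := by
    intro g r hg hr
    have e : g * c.z * g⁻¹ = g * r * g⁻¹ * (g * r * g⁻¹) := by rw [← hr]; group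
    rw [e]
    refine hsqz hg ?_ ?_
    · rw [← e, show g * c.z * g⁻¹ * (g * c.z * g⁻¹) = g * (c.z * c.z) * g⁻¹ by group, c.zz]; group
    · rw [← e]; exact fun h' => c.z1 (conj_eq_one_iff.1 h')
  have hnoroot : ∀ {p r}, c.Cand p → r ∈ (c.S : Subgroup G) → r * p = p * r → r * r ≠ c.z := by
    intro p r hp hrS hrp hrr
    obtain ⟨g, hg, hgC⟩ := c.extremal hp.1 hp.2.2
    have := hkey (hgC r hrS hrp) hrr
    exact hp.2.1 (mul_left_cancel (mul_right_cancel (hg.trans this.symm)))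
  have hcT : ∀ {p}, c.Cand p → p ∈ c.T := by
    intro p hp
    by_contra hpT
    have hpp := hp.sq
    obtain ⟨e, he, hpe⟩ := h.conj_a p hp.1
    have hpi : p⁻¹ = p := inv_of_sq hpp
    rw [hpi] at hpe
    have hpe2 : p * e * p⁻¹ = e := by
      have h1 : h.a = h.a * (e * (p * e * p)) := by
        calc h.a = (p * p) * h.a * (p * p) := by rw [hpp, one_mul, mul_one]
          _ = p * (p * h.a * p) * p := by group
          _ = p * (h.a * e) * p := by rw [hpe]
          _ = (p * h.a * p) * (p * e * p) := by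
            rw [show p * h.a * p * (p * e * p) = p * h.a * (p * p) * (e * p) by group, hpp, mul_one]; group
          _ = _ := by rw [hpe, mul_assoc]
      rw [left_eq_mul] at h1
      rw [hpi]
      exact (eq_inv_of_mul_eq_one_right h1).trans (inv_of_sq (c.U_sq he))
    have hpu : p * c.u * p⁻¹ = c.u * c.z := c.outer hp.1 hpT
    rcases he with rfl | rfl | rfl | rfl
    · refine hnoroot hp (c.T_le h.aT) ?_ h.aa
      rw [mul_one] at hpe
      calc h.a * p = p * h.a * p * p := by rw [hpe]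
        _ = _ := by rw [mul_assoc, hpp, mul_one]
    · refine hnoroot hp (c.T_le (mul_mem h.aT c.uT)) ?_ (h.ae_sq c.uU)
      have hc : p * (h.a * c.u) * p⁻¹ = h.a * c.u := by
        rw [show p * (h.a * c.u) * p⁻¹ = (p * h.a * p⁻¹) * (p * c.u * p⁻¹) by group, hpu, hpi, hpe,
          show h.a * c.z * (c.u * c.z) = h.a * (c.z * c.u * c.z) by group, ← c.zu_comm, mul_assoc c.u, c.zz, mul_one]
      exact (mul_inv_eq_iff_eq_mul.1 hc).symm
    · exact c.uz_ne_u (hpu.symm.trans hpe2)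
    · rw [show p * (c.u * c.z) * p⁻¹ = (p * c.u * p⁻¹) * (p * c.z * p⁻¹) by group, hpu, c.zc p hp.1,
        mul_inv_cancel_right, mul_assoc, c.zz, mul_one] at hpe2
      exact c.uz_ne_u hpe2.symm
  have hcD : ∀ {p}, c.Cand p → p ∉ h.D := by
    intro p hp hpD
    rcases h.D_inv hpD hp.sq with e | e | e | e
    · exact (Ctx.Cand.ne_one c hp) e
    · exact hp.2.1 e
    · exact hQ (e ▸ hp.2.2)
    · exact hQ (c.uz_conj.symm.trans (e ▸ hp.2.2))
  have hC : ∀ {p s}, c.Cand p → s ∈ (c.S : Subgroup G) → s * p = p * s → ∃ e ∈ c.U, s = e ∨ s = p * e := by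
    intro p s hp hs hsp
    have hpT := hcT hp
    have hCD : ∀ {b}, b ∈ h.D → b * p = p * b → b ∈ c.U := by
      intro b hb hbp
      obtain ⟨l, hl, ⟨o, ho, hlo⟩, -⟩ := hact hpT (hcD hp) hp.sq
      obtain ⟨i, e, he, rfl⟩ := hgen b hb
      have h1 : d ^ (l * i - i) = 1 := by
        rw [zpow_sub, zpow_mul, ← hl, conj_zpow]
        have h2 : p * (d ^ i * e) * p⁻¹ = d ^ i * e := by rw [← hbp, mul_inv_cancel_right]
        rw [show p * (d ^ i * e) * p⁻¹ = (p * d ^ i * p⁻¹) * (p * e * p⁻¹) by group, c.T_U hpT he,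
          mul_inv_cancel_right, mul_left_inj] at h2
        rw [h2, mul_inv_cancel]
      obtain ⟨r, hr⟩ := ho
      rw [← orderOf_dvd_iff_zpow_eq_one, hord, show l * i - i = i * (2 * r + 1) * 2 by
        rw [show l * i - i = i * (l - 1) by ring, hlo, hr]; ring, pow_succ] at h1
      rcases hz2 ((IsCoprime.pow_left (⟨-r, 1, by ring⟩ : IsCoprime (2 : ℤ) (2 * r + 1))).dvd_of_dvd_mul_right
        (Int.dvd_of_mul_dvd_mul_right (by norm_num) h1)) with e' | e' <;> rw [e']
      · exact mul_mem (one_mem _) he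
      · exact mul_mem c.zU he
    by_cases hsT : s ∈ c.T
    · by_cases hsD : s ∈ h.D
      · exact ⟨s, hCD hsD hsp, Or.inl rfl⟩
      · refine ⟨p * s, hCD ((h.phi_eq_one (mul_mem hpT hsT)).1 ?_) ?_, Or.inr ?_⟩
        · rw [h.phi_mul hpT hsT, hzsq hpT (hcD hp), hzsq hsT hsD, c.zz]
        · rw [mul_assoc, hsp]
        · rw [← mul_assoc, hp.sq, one_mul]
    · exfalso
      have hU : s * s ∈ c.U := hCD (h.sq_outside hs hsT)
        ((show Commute s p from hsp).mul_left (show Commute s p from hsp)).eq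
      have hroot : ∀ {r}, r ∈ (c.S : Subgroup G) → r * p = p * r → r * r ≠ c.z := fun hr hrp => hnoroot hp hr hrp
      rcases hU with e | e | e | e
      · refine hroot (mul_mem hs c.uS) ((show Commute s p from hsp).mul_left (c.T_U hpT c.uU).symm).eq ?_
        rw [show s * c.u * (s * c.u) = (s * c.u * s⁻¹) * (s * s) * c.u by group, c.outer hs hsT, e, mul_one,
          mul_assoc, ← c.zu_comm, ← mul_assoc, c.uu, one_mul]
      · exact hroot hs hsp e
      · exact c.uz_ne_u (by rw [← c.outer hs hsT, ← e]; group)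
      · apply c.uz_ne_u
        have : s * (s * s) * s⁻¹ = s * s := by group
        rw [e, show s * (c.u * c.z) * s⁻¹ = (s * c.u * s⁻¹) * (s * c.z * s⁻¹) by group, c.outer hs hsT, c.zc s hs,
          mul_inv_cancel_right, mul_assoc, c.zz, mul_one] at this
        exact this.symm
  have hyT := hcT hy.1
  have hyD := hcD hy.1
  have hyy := hy.1.sq
  have hyi : y⁻¹ = y := inv_of_sq hyy
  have hyU : y ∉ c.U := fun e => hyD (h.U_le_D e)
  have hay : h.a * y * h.a⁻¹ = y * c.z := by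
    have e1 := h.conj_eq y
    rw [hzsq hyT hyD] at e1
    have e1' : y * h.a = h.a * c.z * y := mul_inv_eq_iff_eq_mul.1 e1
    rw [mul_inv_eq_iff_eq_mul, mul_assoc y, ← c.zc h.a (c.T_le h.aT), ← mul_assoc, e1',
      show h.a * c.z * y * c.z = h.a * c.z * (y * c.z) by group, c.zc y hy.1.1,
      show h.a * c.z * (c.z * y) = h.a * (c.z * c.z) * y by group, c.zz, mul_one]
  have hyz : IsConj (y * c.z) c.z :=
    ((isConj_iff.2 ⟨h.a, hay⟩).symm).trans hy.1.2.2
  have hyu : ¬ IsConj (y * c.u) c.z := by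
    intro hYU
    have hYUZ : IsConj (y * (c.u * c.z)) c.z := by
      refine (IsConj.trans ?_ hYU)
      refine (isConj_iff.2 ⟨h.a, ?_⟩).symm
      rw [show h.a * (y * c.u) * h.a⁻¹ = (h.a * y * h.a⁻¹) * (h.a * c.u * h.a⁻¹) by group, hay, h.a_U c.uU,
        mul_inv_cancel_right, mul_assoc, c.zu_comm]
    obtain ⟨n, hny, hn2, hnP, hnC⟩ := c.exists_n hy.1
    refine c.no_move hy hyT hyU hny hn2 hnP hnC ?_
    -- the classes outside that of `z`
    have hmv : ∀ p ∈ ({c.u, c.u * c.z} : Set G), n * p * n⁻¹ = c.u ∨ n * p * n⁻¹ = c.u * c.z := by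
      intro p hp
      have hpU : p ∈ c.U := by
        rcases hp with rfl | rfl
        exacts [c.uU, mul_mem c.uU c.zU]
      have hpZ : ¬ IsConj p c.z := by
        rcases hp with rfl | rfl
        exacts [hQ, fun e => hQ (c.uz_conj.symm.trans e)]
      have hp1 : p ≠ 1 := by
        rcases hp with rfl | rfl
        exacts [c.u1, c.uz1]
      have hpC : p ∈ c.C y := c.mem_C.2 ⟨c.T_le (c.U_le hpU), (c.T_U hyT hpU).symm⟩
      obtain ⟨hqS, hqy⟩ := c.mem_C.1 ((mem_normalizer_iff.1 hnP p).1 hpC)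
      have hnot : ∀ {q}, IsConj q c.z → n * p * n⁻¹ ≠ q := fun {q} hq e =>
        hpZ ((isConj_iff.2 ⟨n, e⟩).trans hq)
      have hn1 : n * p * n⁻¹ ≠ 1 := fun e => hp1 (conj_eq_one_iff.1 e)
      obtain ⟨e, he, h' | h'⟩ := hC hy.1 hqS hqy
      · rcases he with rfl | rfl | rfl | rfl
        exacts [absurd h' hn1, absurd h' (hnot (IsConj.refl _)), Or.inl h', Or.inr h']
      · rcases he with rfl | rfl | rfl | rfl
        · rw [mul_one] at h'; exact absurd h' (hnot hy.1.2.2)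
        · exact absurd h' (hnot hyz)
        · exact absurd h' (hnot hYU)
        · exact absurd h' (hnot hYUZ)
    have hle : ∀ e ∈ c.U, n * e * n⁻¹ ∈ c.U := by
      have h1 : n * c.u * n⁻¹ ∈ c.U := by
        rcases hmv _ (Or.inl rfl) with e | e <;> rw [e]
        exacts [c.uU, mul_mem c.uU c.zU]
      have h2 : n * (c.u * c.z) * n⁻¹ ∈ c.U := by
        rcases hmv _ (Or.inr rfl) with e | e <;> rw [e]
        exacts [c.uU, mul_mem c.uU c.zU]
      rintro e (rfl | rfl | rfl | rfl)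
      · simp
      · rw [show n * c.z * n⁻¹ = (n * c.u * n⁻¹)⁻¹ * (n * (c.u * c.z) * n⁻¹) by group]
        exact mul_mem (inv_mem h1) h2
      · exact h1
      · exact h2
    have heq : c.U.map (MulAut.conj n).toMonoidHom = c.U := eq_of_le_of_card_ge
      (by rintro _ ⟨e, he, rfl⟩; exact hle e he) (card_map_of_injective (MulEquiv.injective _)).ge
    refine mem_normalizer_iff.2 fun q => ⟨fun hq => hle q hq, fun hq => ?_⟩
    rw [← heq] at hq
    obtain ⟨r, hr, e⟩ := hq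
    rwa [← (MulAut.conj n).injective e]
  have hyuz : ¬ IsConj (y * (c.u * c.z)) c.z := by
    intro hYUZ
    apply hyu
    refine (IsConj.trans ?_ hYUZ)
    refine isConj_iff.2 ⟨h.a, ?_⟩
    rw [show h.a * (y * c.u) * h.a⁻¹ = (h.a * y * h.a⁻¹) * (h.a * c.u * h.a⁻¹) by group, hay, h.a_U c.uU,
      mul_inv_cancel_right, mul_assoc, c.zu_comm]
  obtain ⟨l, hl, ⟨o, ho, hlo⟩, hl1⟩ := hact hyT hyD hyy
  -- how `t` acts
  have htdD : c.t * d * c.t⁻¹ ∈ h.D := (h.phi_eq_one (c.T_normal c.tS hdT)).1 (by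
    rw [h.phi_conj_t hdT, (h.phi_eq_one hdT).2 hd, mul_one, mul_inv_cancel])
  have hsplit : ∀ {b}, b ∈ h.D → ∃ (i : ℤ), ∃ f, (f = 1 ∨ f = c.u) ∧ b = d ^ i * f := by
    intro b hb
    obtain ⟨i, e, he, hbe⟩ := hgen b hb
    rcases he with rfl | rfl | rfl | rfl
    · exact ⟨i, 1, Or.inl rfl, hbe⟩
    · exact ⟨i + H, 1, Or.inl rfl, by rw [hbe, zpow_add, hdz', mul_one]⟩
    · exact ⟨i, c.u, Or.inr rfl, hbe⟩
    · exact ⟨i + H, c.u, Or.inr rfl, by rw [hbe, zpow_add, hdz', c.zu_comm, mul_assoc]⟩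
  obtain ⟨m, f, hf, htd⟩ := hsplit htdD
  have hfU : f ∈ c.U := by
    rcases hf with rfl | rfl
    exacts [one_mem _, c.uU]
  have htyT : c.t * y * c.t⁻¹ ∈ c.T := c.T_normal c.tS hyT
  have hb0 : y * (c.t * y * c.t⁻¹) ∈ h.D := (h.phi_eq_one (mul_mem hyT htyT)).1 (by
    rw [h.phi_mul hyT htyT, h.phi_conj_t hyT, hzsq hyT hyD, c.zc _ c.tS, mul_inv_cancel_right, c.zz])
  obtain ⟨x, e, he, hty'⟩ := hsplit hb0
  have heU : e ∈ c.U := by
    rcases he with rfl | rfl
    exacts [one_mem _, c.uU]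
  have hty : c.t * y * c.t⁻¹ = y * (d ^ x * e) := by rw [← hty', ← mul_assoc, hyy, one_mul]
  have htU : c.t * c.u * c.t⁻¹ = c.u * c.z := c.tu
  have hoddp : ∀ {p : G} {n : ℤ}, p ∈ c.U → Odd n → p ^ n = p := fun {p n} hp ⟨q, hq⟩ => by
    rw [hq, zpow_add, zpow_mul, zpow_two, c.U_sq hp, one_zpow, one_mul, zpow_one]
  have hevp : ∀ {p : G} {n : ℤ}, p ∈ c.U → Even n → p ^ n = 1 := fun {p n} hp ⟨q, hq⟩ => by
    rw [hq, ← two_mul, zpow_mul, zpow_two, c.U_sq hp, one_zpow]
  -- the parity of `x`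
  have heu : e = 1 ∨ Odd x := by
    rcases he with rfl | rfl
    · exact Or.inl rfl
    refine Or.inr ((Int.even_or_odd x).resolve_left fun ⟨j, hj⟩ => ?_)
    obtain ⟨a', b', hab⟩ := (IsCoprime.pow_left (m := k + 2) (by
      obtain ⟨r, hr⟩ := ho; exact ⟨-r, 1, by rw [hr]; ring⟩ : IsCoprime (2 : ℤ) o))
    have hdi : d ^ (j * b') * (y * c.u) * (d ^ (j * b'))⁻¹ = c.t * y * c.t⁻¹ := by
      have e1 : y * d ^ (j * b') * y⁻¹ = d ^ (l * (j * b')) := by rw [← conj_zpow, hl, ← zpow_mul]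
      have e2 : d ^ (l * (j * b') - j * b') = d ^ x := by
        have h0 : d ^ ((2 : ℤ) ^ (k + 2)) = 1 := by rw [← hord, zpow_natCast, pow_orderOf_eq_one]
        have : l * (j * b') - j * b' = x + 2 ^ (k + 2) * (-(2 * j * a')) := by
          rw [hj]; linear_combination (j * b') * hlo + (2 * j) * hab
        rw [this, zpow_add, zpow_mul, h0, one_zpow, mul_one]
      calc d ^ (j * b') * (y * c.u) * (d ^ (j * b'))⁻¹
          = y * ((y * d ^ (j * b') * y⁻¹) * (y * y)) * (c.u * (d ^ (j * b'))⁻¹) := by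
            rw [hyi, show y * (y * d ^ (j * b') * y * (y * y)) = (y * y) * d ^ (j * b') * y * (y * y) by group, hyy,
              one_mul, mul_one]
            group
        _ = y * (d ^ (l * (j * b')) * (c.u * (d ^ (j * b'))⁻¹)) := by rw [e1, hyy, mul_one, mul_assoc]
        _ = y * (d ^ (l * (j * b') - j * b') * c.u) := by
            rw [← c.T_U (inv_mem (zpow_mem hdT (j * b'))) c.uU, zpow_sub]; group
        _ = _ := by rw [e2, hty]
    exact hyu ((isConj_iff.2 ⟨_, hdi⟩).trans ((isConj_iff.2 ⟨c.t, rfl⟩).symm.trans hy.1.2.2))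
  rcases hf with rfl | rfl
  · -- `u` is outside the derived subgroup
    obtain ⟨g₀, γ, hγ, hg₀, hge⟩ : ∃ g₀ γ : G, (γ = 1 ∨ γ = c.u) ∧ g₀ = d * γ ∧ g₀ ^ x = d ^ x * e := by
      rcases he with rfl | rfl
      · exact ⟨d, 1, Or.inl rfl, (mul_one d).symm, (mul_one _).symm⟩
      · refine ⟨d * c.u, c.u, Or.inr rfl, rfl, ?_⟩
        rw [(show Commute d c.u from c.T_U hdT c.uU).mul_zpow, hoddp c.uU (heu.resolve_left c.u1)]
    have hγU : γ ∈ c.U := by
      rcases hγ with rfl | rfl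
      exacts [one_mem _, c.uU]
    have hcdγ : Commute d γ := c.T_U hdT hγU
    have hgT : g₀ ∈ c.T := hg₀ ▸ mul_mem hdT (c.U_le hγU)
    have hgD : g₀ ∈ h.D := hg₀ ▸ mul_mem hd (h.U_le_D hγU)
    have hzg : g₀ ^ (H : ℤ) = c.z := by
      rw [hg₀, hcdγ.mul_zpow, hdz', hevp hγU ⟨(2 ^ k : ℕ), by rw [hH]; push_cast; ring⟩, mul_one]
    have hyg : y * g₀ * y⁻¹ = g₀ ^ l := by
      rw [hg₀, show y * (d * γ) * y⁻¹ = (y * d * y⁻¹) * (y * γ * y⁻¹) by group, hl, c.T_U hyT hγU,
        mul_inv_cancel_right, hcdγ.mul_zpow, hoddp hγU ⟨o, by linarith⟩]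
    have htg : c.t * g₀ * c.t⁻¹ ∈ zpowers g₀ := by
      have e1 : c.t * g₀ * c.t⁻¹ = g₀ ^ m * (γ⁻¹ ^ m * (c.t * γ * c.t⁻¹)) := by
        rw [hg₀, show c.t * (d * γ) * c.t⁻¹ = (c.t * d * c.t⁻¹) * (c.t * γ * c.t⁻¹) by group, htd, mul_one,
          hcdγ.mul_zpow, inv_zpow]
        group
      have hmo : Odd m := by
        refine (Int.even_or_odd m).resolve_left fun ⟨q, hq⟩ => c.z1 ?_
        have h2 : (c.t * d * c.t⁻¹) ^ (2 ^ (k + 1)) = 1 := by
          rw [htd, mul_one, ← zpow_natCast, ← zpow_mul, ← orderOf_dvd_iff_zpow_eq_one, hord]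
          exact ⟨q, by rw [hq]; push_cast; ring⟩
        rw [conj_pow] at h2
        exact hdz.symm.trans (conj_eq_one_iff.1 h2)
      rw [e1, hoddp (inv_mem hγU) hmo, inv_of_sq (c.U_sq hγU)]
      refine mul_mem (zpow_mem (mem_zpowers _) _) ?_
      rcases hγ with rfl | rfl
      · simp
      · rw [htU, ← mul_assoc, c.uu, one_mul, ← hzg]; exact zpow_mem (mem_zpowers _) _
    -- the subgroup of index two
    let K0 : Subgroup G := zpowers g₀
    have hnorm : ∀ {r : G}, r * g₀ * r⁻¹ ∈ K0 → r * r = 1 → r ∈ normalizer (K0 : Set G) := by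
      intro r hr hrr
      have key : ∀ q ∈ K0, r * q * r⁻¹ ∈ K0 := by
        rintro q ⟨i, rfl⟩
        show r * g₀ ^ i * r⁻¹ ∈ K0
        rw [← conj_zpow]; exact zpow_mem hr i
      refine mem_normalizer_iff.2 fun q => ⟨key q, fun hq => ?_⟩
      have := key _ hq
      rw [inv_of_sq hrr] at this
      rwa [show r * (r * q * r) * r = (r * r) * q * (r * r) by group, hrr, one_mul, mul_one] at this
    have hK0y : zpowers y ≤ normalizer (K0 : Set G) :=
      zpowers_le.2 (hnorm (hyg ▸ zpow_mem (mem_zpowers _) _) hyy)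
    let K1 : Subgroup G := K0 ⊔ zpowers y
    have hK1 : (K1 : Set G) = (K0 : Set G) * (zpowers y : Set G) := coe_mul_of_right_le_normalizer_left _ _ hK0y
    have hgK1 : g₀ ∈ K1 := mem_sup_left (mem_zpowers _)
    have hyK1 : y ∈ K1 := mem_sup_right (mem_zpowers _)
    have htK1 : zpowers c.t ≤ normalizer (K1 : Set G) := by
      refine zpowers_le.2 ?_
      have key : ∀ q ∈ K1, c.t * q * c.t⁻¹ ∈ K1 := by
        have : K1 ≤ K1.comap (MulAut.conj c.t).toMonoidHom := sup_le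
          (zpowers_le.2 (mem_sup_left htg : c.t * g₀ * c.t⁻¹ ∈ K1))
          (zpowers_le.2 (by
            show c.t * y * c.t⁻¹ ∈ K1
            rw [hty, ← hge]; exact mul_mem hyK1 (zpow_mem hgK1 _)))
        exact fun q hq => this hq
      refine mem_normalizer_iff.2 fun q => ⟨key q, fun hq => ?_⟩
      have := key _ hq
      rw [hti] at this
      rwa [show c.t * (c.t * q * c.t) * c.t = (c.t * c.t) * q * (c.t * c.t) by group, c.tt, one_mul, mul_one] at this
    let K : Subgroup G := K1 ⊔ zpowers c.t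
    have hK : (K : Set G) = (K1 : Set G) * (zpowers c.t : Set G) := coe_mul_of_right_le_normalizer_left _ _ htK1
    have hpow2 : ∀ {r q : G}, r * r = 1 → q ∈ zpowers r → q = 1 ∨ q = r := by
      rintro r q hr ⟨i, rfl⟩
      rcases Int.even_or_odd i with ⟨j, rfl⟩ | ⟨j, rfl⟩
      · left; show r ^ (j + j) = 1; rw [← two_mul, zpow_mul, zpow_two, hr, one_zpow]
      · right; show r ^ (2 * j + 1) = r; rw [zpow_add, zpow_mul, zpow_two, hr, one_zpow, one_mul, zpow_one]
    have huK : c.u ∉ K := by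
      intro hu
      have hu' : c.u ∈ (K1 : Set G) * (zpowers c.t : Set G) := hK ▸ hu
      obtain ⟨p, hp, r, hr, hpr⟩ := hu'
      have hp' : p ∈ (K0 : Set G) * (zpowers y : Set G) := hK1 ▸ hp
      obtain ⟨q, ⟨i, rfl⟩, s, hs, hqs⟩ := hp'
      have hpT : p ∈ c.T := by
        rw [← hqs]; refine mul_mem (zpow_mem hgT i) ?_
        rcases hpow2 hyy hs with e | e <;> rw [e]
        exacts [one_mem _, hyT]
      have hr1 : r = 1 := (hpow2 c.tt hr).resolve_right fun e => c.tT (by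
        have : r = p⁻¹ * c.u := by rw [← hpr]; group
        rw [← e, this]; exact mul_mem (inv_mem hpT) c.uT)
      simp only [hr1, mul_one] at hpr
      subst hpr
      have hs1 : s = 1 := (hpow2 hyy hs).resolve_right fun e => hyD (by
        have : s = (g₀ ^ i)⁻¹ * c.u := by rw [← hqs]; group
        rw [← e, this]; exact mul_mem (inv_mem (zpow_mem hgD i)) (h.U_le_D c.uU))
      simp only [hs1, mul_one] at hqs
      rw [hg₀, hcdγ.mul_zpow] at hqs
      have hdi : d ^ i ∈ c.U := by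
        have : d ^ i = c.u * (γ ^ i)⁻¹ := by rw [← hqs]; group
        rw [this]; exact mul_mem c.uU (inv_mem (zpow_mem hγU i))
      have hiev : Even i := by
        refine (Int.even_or_odd i).resolve_right fun hi => ?_
        have h1 : d ^ (i * 2) = 1 := by rw [zpow_mul, zpow_two]; exact c.U_sq hdi
        rw [← orderOf_dvd_iff_zpow_eq_one, hord, pow_succ] at h1
        have h2 := Int.dvd_of_mul_dvd_mul_right (by norm_num) h1
        obtain ⟨q, hq⟩ := hi
        rw [pow_succ'] at h2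
        have := (dvd_mul_right (2 : ℤ) _).trans h2
        omega
      rw [hevp hγU hiev, mul_one] at hqs
      rcases hUpow hdi with e' | e' <;> rw [e'] at hqs
      exacts [c.u1 hqs.symm, c.uz hqs.symm]
    have hgK : g₀ ∈ K := mem_sup_left hgK1
    have hyK : y ∈ K := mem_sup_left hyK1
    have htK : c.t ∈ K := mem_sup_right (mem_zpowers _)
    have hzK : c.z ∈ K := hzg ▸ zpow_mem hgK _
    have hDK : ∀ b ∈ h.D, b ∈ K ∨ b * c.u ∈ K := by
      intro b hb
      obtain ⟨i, p, hp, rfl⟩ := hgen b hb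
      have hdb : d ^ i = g₀ ^ i * (γ ^ i)⁻¹ := by rw [hg₀, hcdγ.mul_zpow, mul_inv_cancel_right]
      have hq : (γ ^ i)⁻¹ * p ∈ c.U := mul_mem (inv_mem (zpow_mem hγU i)) hp
      rw [hdb, mul_assoc]
      rcases hq with e' | e' | e' | e' <;> rw [e']
      · exact Or.inl (mul_mem (zpow_mem hgK i) (one_mem _))
      · exact Or.inl (mul_mem (zpow_mem hgK i) hzK)
      · refine Or.inr ?_
        rw [mul_assoc, c.uu, mul_one]; exact zpow_mem hgK i
      · refine Or.inr ?_
        rw [mul_assoc, mul_assoc c.u, ← c.zu_comm, ← mul_assoc c.u, c.uu, one_mul]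
        exact mul_mem (zpow_mem hgK i) hzK
    have hTK : ∀ r ∈ c.T, r ∈ K ∨ r * c.u ∈ K := by
      intro r hr
      by_cases hrD : r ∈ h.D
      · exact hDK r hrD
      · rcases hDK (r * y) ((h.phi_eq_one (mul_mem hr hyT)).1 (by
          rw [h.phi_mul hr hyT, hzsq hr hrD, hzsq hyT hyD, c.zz])) with h' | h'
        · left; simpa [mul_assoc, hyy] using mul_mem h' hyK
        · right
          have := mul_mem h' hyK
          rwa [mul_assoc (r * y), ← c.T_U hyT c.uU, show r * y * (y * c.u) = r * (y * y) * c.u by group, hyy,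
            mul_one] at this
    obtain ⟨ψ, hψ⟩ := c.exists_char K huK fun s hs => by
      by_cases hsT : s ∈ c.T
      · exact hTK s hsT
      · rcases hTK _ (c.mul_outer hs c.tS hsT c.tT) with h' | h'
        · left; simpa [mul_assoc, c.tt] using mul_mem h' htK
        · right
          have := mul_mem (mul_mem h' htK) hzK
          rwa [show s * c.t * c.u * c.t * c.z = s * ((c.t * c.u * c.t⁻¹) * (c.t * c.t)) * c.z by group, htU, c.tt,
            mul_one, mul_assoc, mul_assoc c.u, c.zz, mul_one] at this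
    obtain ⟨g, hgS, hgu, hgz⟩ := c.exists_leave hQ ψ hψ
    have hcand : c.Cand (g * y * g⁻¹) := by
      refine ⟨hgS y hyT, fun e' => ?_, (isConj_iff.2 ⟨g, rfl⟩).symm.trans hy.1.2.2⟩
      exact hy.1.2.1 (mul_left_cancel (mul_right_cancel (e'.trans hgz.symm)))
    obtain ⟨p, hp, h' | h'⟩ := hC hcand (hgS _ c.uT) (by
      rw [show g * c.u * g⁻¹ * (g * y * g⁻¹) = g * (c.u * y) * g⁻¹ by group, ← c.T_U hyT c.uU]; group)
    · exact hgu (h' ▸ c.U_le hp)
    · exact hgu (h' ▸ mul_mem (hcT hcand) (c.U_le hp))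
  · -- a fixed involution
    have htt : ∀ p, c.t * (c.t * p * c.t⁻¹) * c.t⁻¹ = p := fun p => by
      rw [hti, ← mul_assoc, ← mul_assoc, c.tt, one_mul, mul_assoc, c.tt, mul_one]
    have htpow : ∀ i : ℤ, c.t * d ^ i * c.t⁻¹ = d ^ (m * i) * c.u ^ i := fun i => by
      rw [← conj_zpow, htd, (show Commute (d ^ m) c.u from c.T_U (zpow_mem hdT m) c.uU).mul_zpow, zpow_mul]
    have hmo : Odd m := by
      refine (Int.even_or_odd m).resolve_left fun ⟨q, hq⟩ => c.z1 ?_
      have h2 : (c.t * d * c.t⁻¹) ^ (2 ^ (k + 1)) = 1 := by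
        rw [htd, (show Commute (d ^ m) c.u from c.T_U (zpow_mem hdT m) c.uU).mul_pow, ← zpow_natCast,
          ← zpow_mul, show c.u ^ (2 ^ (k + 1)) = 1 by rw [pow_succ', pow_mul, pow_two, c.uu, one_pow],
          mul_one, ← orderOf_dvd_iff_zpow_eq_one, hord]
        exact ⟨q, by rw [hq]; push_cast; ring⟩
      rw [conj_pow] at h2
      exact hdz.symm.trans (conj_eq_one_iff.1 h2)
    have hxev : Even x ∧ d ^ (x * (1 + m)) = 1 := by
      have h1 := htt y
      rw [hty, show c.t * (y * (d ^ x * e)) * c.t⁻¹ = (c.t * y * c.t⁻¹) * (c.t * d ^ x * c.t⁻¹) * (c.t * e * c.t⁻¹)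
        by group, hty, htpow, mul_assoc, mul_assoc, mul_eq_left] at h1
      have hU : c.u ^ x * (e * (c.t * e * c.t⁻¹)) ∈ c.U :=
        mul_mem (zpow_mem c.uU x) (mul_mem heU (c.U_normal c.tS heU))
      have h2 : d ^ (x * (1 + m)) * (c.u ^ x * (e * (c.t * e * c.t⁻¹))) = 1 := by
        rw [mul_add, mul_one, zpow_add, mul_comm x m]
        calc d ^ x * d ^ (m * x) * (c.u ^ x * (e * (c.t * e * c.t⁻¹)))
            = d ^ x * (d ^ (m * x) * e) * (c.u ^ x * (c.t * e * c.t⁻¹)) := by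
              rw [← mul_assoc (c.u ^ x), c.T_U (zpow_mem c.uT x) heU]; group
          _ = d ^ x * e * (d ^ (m * x) * c.u ^ x) * (c.t * e * c.t⁻¹) := by
              rw [c.T_U (zpow_mem hdT _) heU]; group
          _ = 1 := by rw [← h1]; group
      have hdU : d ^ (x * (1 + m)) ∈ c.U := by
        rw [eq_inv_of_mul_eq_one_left h2]; exact inv_mem hU
      have htee : e * (c.t * e * c.t⁻¹) = 1 ∨ e * (c.t * e * c.t⁻¹) = c.z := by
        rcases he with rfl | rfl
        · left; simp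
        · right; rw [htU, ← mul_assoc, c.uu, one_mul]
      rcases Int.even_or_odd x with hxe | hxo
      · refine ⟨hxe, ?_⟩
        rcases heu with rfl | hodd
        · rw [hevp c.uU hxe] at h2; simpa using h2
        · exact absurd hxe (Int.not_even_iff_odd.2 hodd)
      · exfalso
        rw [hoddp c.uU hxo] at h2
        rcases htee with e' | e' <;> rw [e'] at h2 <;> rcases hUpow hdU with e'' | e'' <;> rw [e''] at h2
        · exact c.u1 (by simpa using h2)
        · exact c.uz1 (by rw [c.zu_comm]; simpa using h2)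
        · exact c.uz1 (by simpa using h2)
        · exact c.u1 (by rwa [← mul_assoc, ← c.zu_comm, mul_assoc, c.zz, mul_one] at h2)
    obtain ⟨hxe, hxm⟩ := hxev
    have he1 : e = 1 := heu.resolve_right (Int.not_odd_iff_even.2 hxe)
    subst he1
    rw [← orderOf_dvd_iff_zpow_eq_one, hord] at hxm
    have hmm : (2 : ℤ) ^ (k + 2) ∣ m * m - 1 - 2 ^ (k + 1) := by
      have h1 := htt d
      rw [htd, show c.t * (d ^ m * c.u) * c.t⁻¹ = (c.t * d ^ m * c.t⁻¹) * (c.t * c.u * c.t⁻¹) by group, htpow,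
        htU, hoddp c.uU hmo, mul_assoc, ← mul_assoc c.u, c.uu, one_mul] at h1
      rw [← hord, orderOf_dvd_iff_zpow_eq_one, zpow_sub, zpow_sub,
        show d ^ ((2 : ℤ) ^ (k + 1)) = c.z by rw [← hdz']; congr 1, zpow_one,
        eq_mul_inv_of_mul_eq h1, inv_of_sq c.zz, c.zc d (c.T_le hdT)]
      simp [mul_assoc, c.zz]
    obtain ⟨i, hi, hdvd⟩ := exists_shift hmo hxe hxm hmm
    obtain ⟨q, hq, hqt, hqD, hqT⟩ : ∃ q, q * q = 1 ∧ q * c.t = c.t * q ∧ q ∉ h.D ∧ q ∈ c.T := by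
      have hdi : ∀ p ∈ c.U, (y * d ^ i * p) * (y * d ^ i * p) = 1 := by
        intro p hp
        have e1 : y * d ^ i * p * (y * d ^ i * p) = (y * d ^ i * y⁻¹) * (y * y) * d ^ i := by
          calc y * d ^ i * p * (y * d ^ i * p) = y * d ^ i * (p * y) * (d ^ i * p) := by group
            _ = y * d ^ i * (y * p) * (p * d ^ i) := by rw [← c.T_U hyT hp, ← c.T_U (zpow_mem hdT i) hp]
            _ = y * d ^ i * y * (p * p) * d ^ i := by group
            _ = _ := by rw [c.U_sq hp, mul_one]; group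
        rw [e1, hyy, mul_one, ← conj_zpow, hl, ← zpow_mul, ← zpow_add, ← orderOf_dvd_iff_zpow_eq_one, hord]
        obtain ⟨r, hr⟩ := hi
        obtain ⟨s, hs⟩ := hl1
        exact ⟨s * r, by rw [hr, pow_succ]; linear_combination (2 * r) * hs⟩
      have hD : ∀ p ∈ c.U, y * d ^ i * p ∉ h.D := fun p hp h' => hyD (by
        have := mul_mem (mul_mem h' (inv_mem (h.U_le_D hp))) (inv_mem (zpow_mem hd i))
        simpa [mul_assoc] using this)
      have hT : ∀ p ∈ c.U, y * d ^ i * p ∈ c.T := fun p hp =>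
        mul_mem (mul_mem hyT (zpow_mem hdT i)) (c.U_le hp)
      have hconj : ∀ p ∈ c.U, c.t * (y * d ^ i * p) * c.t⁻¹ = y * d ^ i * (d ^ (x + (m - 1) * i) * (c.t * p * c.t⁻¹)) := by
        intro p hp
        rw [show c.t * (y * d ^ i * p) * c.t⁻¹ = (c.t * y * c.t⁻¹) * (c.t * d ^ i * c.t⁻¹) * (c.t * p * c.t⁻¹)
          by group, hty, htpow, hevp c.uU hi, mul_one, mul_one, zpow_add, sub_mul, one_mul, zpow_sub]
        group
      rcases hz2 hdvd with e' | e'
      · refine ⟨y * d ^ i * 1, hdi 1 (one_mem _), ?_, hD 1 (one_mem _), hT 1 (one_mem _)⟩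
        refine (mul_inv_eq_iff_eq_mul.1 ?_).symm
        rw [hconj 1 (one_mem _), e']
        group
      · refine ⟨y * d ^ i * c.u, hdi _ c.uU, ?_, hD _ c.uU, hT _ c.uU⟩
        refine (mul_inv_eq_iff_eq_mul.1 ?_).symm
        rw [hconj _ c.uU, e', htU, c.zu_comm, ← mul_assoc c.z, c.zz, one_mul]
    rcases c.iso q (c.T_le hqT) (c.mem_T.1 hqT).2 hq hqt with rfl | rfl
    exacts [hqD (one_mem _), hqD (h.U_le_D c.zU)]

end SmallCase

end CfsgLib.Nonconn
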