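import Cfsg.Agent.Lib.Nonconn.Four
import Cfsg.Agent.Lib.Nonconn.SmallD
import Cfsg.Agent.Lib.Nonconn.Moved.Finish

/-!
The dispatch on the squares in normal abelian subgroups of exponent four over `U`.

Blueprint: `blueprint/S0503.md`, part Q.
-/

set_option autoImplicit false
set_option linter.unusedSectionVars false
set_option maxRecDepth 8000

namespace CfsgLib.Nonconn

open Subgroup MacWilliams

variable {G : Type*} [Group G] [Finite G]

/-- A maximal one above a given normal abelian subgroup of exponent four. -/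
theorem exists_maxFour_ge {P : Type*} [Group P] [Finite P] {B : Subgroup P} (hn : B.Normal)
    (hc : ∀ a ∈ B, ∀ b ∈ B, a * b = b * a) (h4 : ∀ a ∈ B, a ^ 4 = 1) : ∃ A, MaxFour A ∧ B ≤ A := by
  obtain ⟨A, ⟨h1, h2, h3, h0⟩, hmax⟩ := (Set.toFinite {X : Subgroup P | X.Normal ∧
    (∀ a ∈ X, ∀ b ∈ X, a * b = b * a) ∧ (∀ a ∈ X, a ^ 4 = 1) ∧ B ≤ X}).exists_maximal ⟨B, hn, hc, h4, le_rfl⟩
  exact ⟨A, ⟨h1, h2, h3, fun X hX hcX hfX hle => le_antisymm (hmax ⟨hX, hcX, hfX, h0.trans hle⟩ hle) hle⟩, h0⟩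

namespace Ctx

variable (c : Ctx G)

theorem exists_maxFour_over {B : Subgroup G} (hBS : B ≤ (c.S : Subgroup G)) (hUB : c.U ≤ B)
    (hn : ∀ s ∈ (c.S : Subgroup G), ∀ b ∈ B, s * b * s⁻¹ ∈ B) (hc : ∀ p ∈ B, ∀ q ∈ B, p * q = q * p)
    (h4 : ∀ b ∈ B, b ^ 4 = 1) :
    ∃ (A : Subgroup ↥(c.S : Subgroup G)) (hA : MaxFour A), B.subgroupOf (c.S : Subgroup G) ≤ A ∧
      (∀ e : ↥(c.S : Subgroup G), e ∈ omA hA ↔ (e : G) ∈ c.U) := by
  have hnorm : (B.subgroupOf (c.S : Subgroup G)).Normal := ⟨fun x hx s => hn s s.2 x hx⟩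
  obtain ⟨A, hA, hle⟩ := exists_maxFour_ge hnorm (fun a ha b hb => Subtype.ext (hc _ ha _ hb))
    (fun a ha => Subtype.ext (by simpa using h4 _ ha))
  refine ⟨A, hA, hle, ?_⟩
  have hUle : c.U.subgroupOf (c.S : Subgroup G) ≤ omA hA := fun e he =>
    ⟨hle (hUB he), Subtype.ext (by simpa [pow_two] using c.U_sq he)⟩
  have hcard : Nat.card (c.U.subgroupOf (c.S : Subgroup G)) = 4 := by
    rw [Nat.card_congr (subgroupOfEquivOfLe (c.U_le.trans c.T_le)).toEquiv, c.card_U]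
  have heq := eq_of_le_of_card_ge hUle (hcard.symm ▸ card_omA hA c.noEightS)
  intro e
  rw [← heq]
  rfl

/-- The case in which `u` is not a conjugate of `z`. -/
theorem false_of_noMove (hP : ¬ IsConj c.u c.z) : False := by
  by_cases h1 : ∀ B : Subgroup G, B ≤ (c.S : Subgroup G) → c.U ≤ B →
    (∀ s ∈ (c.S : Subgroup G), ∀ b ∈ B, s * b * s⁻¹ ∈ B) → (∀ p ∈ B, ∀ q ∈ B, p * q = q * p) →
    (∀ b ∈ B, b ^ 4 = 1) → ∀ b ∈ B, b * b = 1 ∨ b * b = c.z
  · obtain ⟨A, hA, hUA, hom⟩ := c.exists_maxFour_over (c.U_le.trans c.T_le) le_rfl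
      (fun s hs e he => c.U_normal hs he) (fun p hp q hq => c.T_U (c.U_le hp) hq)
      (fun e he => by rw [pow_four e, c.U_sq he, one_mul])
    let AG := A.map (c.S : Subgroup G).subtype
    have hAS : AG ≤ (c.S : Subgroup G) := map_subtype_le _
    have hUAG : c.U ≤ AG := fun e he => ⟨⟨e, c.T_le (c.U_le he)⟩, hUA he, rfl⟩
    have hAn : ∀ s ∈ (c.S : Subgroup G), ∀ b ∈ AG, s * b * s⁻¹ ∈ AG := by
      rintro s hs _ ⟨b, hb, rfl⟩
      exact ⟨⟨s, hs⟩ * b * ⟨s, hs⟩⁻¹, hA.normal.conj_mem _ hb _, rfl⟩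
    have hAc : ∀ p ∈ AG, ∀ q ∈ AG, p * q = q * p := by
      rintro _ ⟨p, hp, rfl⟩ _ ⟨q, hq, rfl⟩
      rw [← map_mul, ← map_mul, hA.comm p hp q hq]
    have hA4 : ∀ b ∈ AG, b ^ 4 = 1 := by
      rintro _ ⟨b, hb, rfl⟩
      rw [← map_pow, hA.four b hb, map_one]
    have hsq := h1 AG hAS hUAG hAn hAc hA4
    have hinvU : ∀ p ∈ AG, p * p = 1 → p ∈ c.U := by
      rintro _ ⟨p, hp, rfl⟩ hpp
      exact (hom p).1 ⟨hp, Subtype.ext (by simpa [pow_two] using hpp)⟩
    obtain ⟨a, haA, haa⟩ : ∃ a ∈ AG, a * a = c.z := by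
      by_contra hno
      push Not at hno
      obtain ⟨w, hwS, hwu, hww, hw1, hwz, hwu', hwuz⟩ := c.big
      have hwT : w ∈ c.T := c.mem_T.2 ⟨hwS, hwu⟩
      have hwA : (⟨w, hwS⟩ : ↥(c.S : Subgroup G)) ∈ A := hA.mem_of_four c.S.2 (fun p hp => Subtype.ext (by
          have hpU : (p : G) ∈ c.U := hinvU _ ⟨p, hp, rfl⟩ ((hsq _ ⟨p, hp, rfl⟩).resolve_right (hno _ ⟨p, hp, rfl⟩))
          exact (c.T_U hwT hpU).symm))
        (Subtype.ext (by simp [pow_four w, hww]))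
      rcases hinvU w ⟨_, hwA, rfl⟩ hww with h | h | h | h
      exacts [hw1 h, hwz h, hwu' h, hwuz h]
    have haT : a ∈ c.T := c.mem_T.2 ⟨hAS haA, hAc a haA _ (hUAG c.uU)⟩
    have hcov : ∀ p ∈ AG, ∃ e ∈ c.U, p = e ∨ p = a * e := by
      intro p hp
      rcases hsq p hp with h | h
      · exact ⟨p, hinvU p hp h, Or.inl rfl⟩
      · refine ⟨a⁻¹ * p, hinvU _ (mul_mem (inv_mem haA) hp) ?_, Or.inr (mul_inv_cancel_left a p).symm⟩
        have hc' : p * a⁻¹ = a⁻¹ * p := hAc p hp _ (inv_mem haA)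
        rw [show a⁻¹ * p * (a⁻¹ * p) = a⁻¹ * (p * a⁻¹) * p by group, hc',
          show a⁻¹ * (a⁻¹ * p) * p = (a * a)⁻¹ * (p * p) by group, haa, h, inv_mul_cancel]
    refine (SmallCase.false_of
      { a := a, aT := haT, aa := haa, one_square := h1, noMove := hP, conj_a := ?_, order_four := ?_ } : False)
    · intro s hs
      obtain ⟨e, he, h | h⟩ := hcov _ (hAn s hs a haA)
      · exfalso
        have : s * a * s⁻¹ * (s * a * s⁻¹) = 1 := h ▸ c.U_sq he
        rw [show s * a * s⁻¹ * (s * a * s⁻¹) = s * (a * a) * s⁻¹ by group, haa, c.zc s hs,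
          mul_inv_cancel_right] at this
        exact c.z1 this
      · exact ⟨e, he, h⟩
    · intro x hx hxa hx4
      have hxA : (⟨x, c.T_le hx⟩ : ↥(c.S : Subgroup G)) ∈ A := hA.mem_of_four c.S.2 (fun p hp => Subtype.ext (by
          show (p : G) * x = x * p
          obtain ⟨e, he, h | h⟩ := hcov _ ⟨p, hp, rfl⟩
          · rw [show (p : G) = e from h]
            exact (c.T_U hx he).symm
          · rw [show (p : G) = a * e from h]
            exact ((show Commute x a from hxa).mul_right (c.T_U hx he)).eq.symm))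
        (Subtype.ext (by simpa using hx4))
      exact hcov x ⟨_, hxA, rfl⟩
  · push Not at h1
    obtain ⟨B, hBS, hUB, hn, hc, h4, b, hb, hb1, hbz⟩ := h1
    obtain ⟨A, hA, hBA, hom⟩ := c.exists_maxFour_over hBS hUB hn hc h4
    have hbU : b * b ∈ c.U := (hom ⟨b * b, mul_mem (hBS hb) (hBS hb)⟩).1 ⟨hBA (mul_mem hb hb), Subtype.ext (by
      show (b * b) ^ 2 = 1
      rw [← h4 b hb]; simp [pow_succ, mul_assoc])⟩
    have htt : c.t * (c.u * c.z) * c.t⁻¹ = c.u := by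
      rw [show c.t * (c.u * c.z) * c.t⁻¹ = (c.t * c.u * c.t⁻¹) * (c.t * c.z * c.t⁻¹) by group, c.tu,
        c.zc _ c.tS, mul_inv_cancel_right, mul_assoc, c.zz, mul_one]
    obtain ⟨a₁, ha₁, hsq₁⟩ : ∃ a : ↥(c.S : Subgroup G), a ∈ A ∧ (a : G) * a = c.u := by
      rcases hbU with h | h | h | h
      · exact absurd h hb1
      · exact absurd h hbz
      · exact ⟨⟨b, hBS hb⟩, hBA hb, h⟩
      · refine ⟨⟨c.t, c.tS⟩ * ⟨b, hBS hb⟩ * ⟨c.t, c.tS⟩⁻¹, hA.normal.conj_mem _ (hBA hb) _, ?_⟩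
        show c.t * b * c.t⁻¹ * (c.t * b * c.t⁻¹) = c.u
        rw [show c.t * b * c.t⁻¹ * (c.t * b * c.t⁻¹) = c.t * (b * b) * c.t⁻¹ by group, h, htt]
    let F : Frame hA :=
      { e₁ := ⟨c.u, c.uS⟩
        e₂ := ⟨c.u * c.z, mul_mem c.uS c.zS⟩
        a₁ := a₁
        a₂ := ⟨c.t, c.tS⟩ * a₁ * ⟨c.t, c.tS⟩⁻¹
        he₁ := (hom _).2 c.uU
        he₂ := (hom _).2 (mul_mem c.uU c.zU)
        ne₁ := fun h => c.u1 (congrArg Subtype.val h)
        ne₂ := fun h => c.uz1 (congrArg Subtype.val h)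
        ne := fun h => c.uz_ne_u (congrArg Subtype.val h).symm
        all := fun e he => by
          rcases (hom e).1 he with h | h | h | h
          · exact Or.inl (Subtype.ext h)
          · refine Or.inr (Or.inr (Or.inr (Subtype.ext (h.trans ?_))))
            show c.z = c.u * (c.u * c.z)
            rw [← mul_assoc, c.uu, one_mul]
          · exact Or.inr (Or.inl (Subtype.ext h))
          · exact Or.inr (Or.inr (Or.inl (Subtype.ext h)))
        ha₁ := ha₁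
        ha₂ := hA.normal.conj_mem _ ha₁ _
        sq₁ := Subtype.ext (by simpa [pow_two] using hsq₁)
        sq₂ := Subtype.ext (by
          rw [conj_pow]
          show c.t * ((a₁ ^ 2 : ↥(c.S : Subgroup G)) : G) * c.t⁻¹ = c.u * c.z
          rw [show ((a₁ ^ 2 : ↥(c.S : Subgroup G)) : G) = c.u by simpa [pow_two] using hsq₁, c.tu])
        act := fun g => by
          by_cases hg : (g : G) ∈ c.T
          · exact Or.inl fun e he => Subtype.ext (c.T_U hg ((hom e).1 he)).symm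
          · refine Or.inr ⟨Subtype.ext (c.outer g.2 hg), Subtype.ext ?_⟩
            show (g : G) * (c.u * c.z) * (g : G)⁻¹ = c.u
            rw [show (g : G) * (c.u * c.z) * (g : G)⁻¹ = ((g : G) * c.u * (g : G)⁻¹) * ((g : G) * c.z * (g : G)⁻¹)
              by group, c.outer g.2 hg, c.zc _ g.2, mul_inv_cancel_right, mul_assoc, c.zz, mul_one] }
    let B' : BigCase c := { A := A, hA := hA, F := F, e1 := rfl, e2 := rfl, noMove := hP }
    obtain ⟨y, M, hy, hM, hj⟩ := B'.exists_top_moving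
    exact B'.false_of_inv ⟨y, M, hy, hM, B'.inv_of_top hy hM hj⟩

include c in
/-- The conclusion. -/
theorem conclude : Cfsg.IsJ2 G ∨ Cfsg.IsJ3 G := by
  by_cases hP : IsConj c.u c.z
  · exact c.janko hP
  · exact (c.false_of_noMove hP).elim

end Ctx

end CfsgLib.Nonconn
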