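import Cfsg.Agent.Lib.Nonconn.Setup
import Cfsg.Agent.Lib.MacWilliams.Setup

/-!
The data from the hypotheses of S0503; maximal conjugates of `z`, the move lemma and the transfer lemma.

Blueprint: `blueprint/S0503.md`, sections 0 and (M).
-/

set_option autoImplicit false
set_option linter.unusedSectionVars false

namespace CfsgLib.Nonconn

open Subgroup

variable {G : Type*} [Group G] [Finite G]

/-- The four-group of two commuting involutions. -/
theorem exists_four {R : Type*} [Group R] [Finite R] {a b : R} (ha : a * a = 1) (hb : b * b = 1)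
    (hab : a * b = b * a) (ha1 : a ≠ 1) (hb1 : b ≠ 1) (hne : a ≠ b) :
    ∃ W : Subgroup R, IsKleinFour W ∧ a ∈ W ∧ b ∈ W ∧ ∀ x ∈ W, x = 1 ∨ x = a ∨ x = b ∨ x = a * b := by
  classical
  have hA : ∀ x, a * (a * x) = x := fun x => by rw [← mul_assoc, ha, one_mul]
  have hB : ∀ x, b * (b * x) = x := fun x => by rw [← mul_assoc, hb, one_mul]
  have hBA : ∀ x, b * (a * x) = a * (b * x) := fun x => by rw [← mul_assoc, ← mul_assoc, hab]
  let W : Subgroup R :=
    { carrier := {x | x = 1 ∨ x = a ∨ x = b ∨ x = a * b}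
      one_mem' := Or.inl rfl
      mul_mem' := by
        rintro x y (rfl | rfl | rfl | rfl) (rfl | rfl | rfl | rfl) <;>
          simp [mul_assoc, ha, hb, hA, hB, hBA, ← hab]
      inv_mem' := by
        rintro x (rfl | rfl | rfl | rfl)
        · exact Or.inl inv_one
        · exact Or.inr (Or.inl (inv_of_sq ha))
        · exact Or.inr (Or.inr (Or.inl (inv_of_sq hb)))
        · refine Or.inr (Or.inr (Or.inr (inv_of_sq ?_)))
          simp [mul_assoc, ha, hb, hBA, hA] }
  have hab1 : a * b ≠ 1 := fun h => hne ((eq_inv_of_mul_eq_one_left h).trans (inv_of_sq hb))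
  have hab2 : a * b ≠ a := fun h => hb1 (mul_eq_left.1 h)
  have hab3 : a * b ≠ b := fun h => ha1 (mul_eq_right.1 h)
  have hcard : Nat.card W = 4 := by
    show Nat.card ({x | x = 1 ∨ x = a ∨ x = b ∨ x = a * b} : Set R) = 4
    rw [show {x | x = 1 ∨ x = a ∨ x = b ∨ x = a * b} = ({1, a, b, a * b} : Set R) from rfl,
      Nat.card_coe_set_eq, Set.ncard_insert_of_notMem, Set.ncard_insert_of_notMem, Set.ncard_insert_of_notMem,
      Set.ncard_singleton] <;> simp [Ne.symm ha1, Ne.symm hb1, Ne.symm hab1, Ne.symm hab2, Ne.symm hab3, hne]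
  refine ⟨W, ⟨hcard, ?_⟩, Or.inr (Or.inl rfl), Or.inr (Or.inr (Or.inl rfl)), fun x hx => hx⟩
  have hd : Monoid.exponent W ∣ 2 := Monoid.exponent_dvd_of_forall_pow_eq_one fun x => Subtype.ext (by
    rw [SubmonoidClass.coe_pow, pow_two]
    rcases x.2 with h | h | h | h <;> rw [h]
    · simp
    · simp [ha]
    · simp [hb]
    · simp [mul_assoc, hBA, hA, ha, hb])
  refine ((Nat.dvd_prime Nat.prime_two).1 hd).resolve_left fun h => ?_
  haveI := Monoid.exp_eq_one_iff.1 h
  rw [Nat.card_unique] at hcard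
  omega

/-- The data from the hypotheses. -/
theorem exists_ctx [IsSimpleGroup G] (h3 : ¬ Cfsg.PRankLE 2 2 G) (S : Sylow 2 G)
    (hS : ¬ Cfsg.IsFourConnected (S : Subgroup G)) : ∃ c : Ctx G, c.S = S := by
  classical
  haveI := Fact.mk Nat.prime_two
  obtain ⟨A, hA, hA2, hA8⟩ : ∃ A : Subgroup G, IsMulCommutative A ∧ (∀ a ∈ A, a ^ 2 = 1) ∧ 4 < Nat.card A := by
    simp only [Cfsg.PRankLE, not_forall, not_le] at h3
    obtain ⟨A, h1, h2, h⟩ := h3
    exact ⟨A, h1, h2, by simpa using h⟩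
  have hns : ¬ Group.IsSolvable G := fun h => by
    haveI := h
    have hc : ∀ a b : G, a * b = b * a := IsSimpleGroup.comm_iff_isSolvable.2 h
    letI : CommGroup G := { (inferInstance : Group G) with mul_comm := hc }
    have hp := IsSimpleGroup.prime_card (α := G)
    have hdvd : 2 ∣ Nat.card G := by
      obtain ⟨k, hk⟩ := IsPGroup.iff_card.1 (fun a : A => ⟨1, Subtype.ext (by simpa using hA2 a a.2)⟩ : IsPGroup 2 A)
      have : 2 ∣ Nat.card A := by
        rw [hk]
        refine dvd_pow_self 2 fun h0 => ?_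
        rw [hk, h0] at hA8
        omega
      exact this.trans (Subgroup.card_subgroup_dvd_card A)
    have := (Nat.prime_dvd_prime_iff_eq Nat.prime_two hp).1 hdvd
    have := Subgroup.card_le_card_group A
    omega
  -- a subgroup of order eight of the Sylow subgroup
  have hAp : IsPGroup 2 A := fun a => ⟨1, Subtype.ext (by simpa using hA2 a a.2)⟩
  obtain ⟨k, -, hk⟩ := NormalRankTwo.exists_conj_into S (H := (⊤ : Subgroup G)) le_top hAp le_top
  let A' : Subgroup ↥(S : Subgroup G) := (A.map (MulAut.conj k).toMonoidHom).subgroupOf (S : Subgroup G)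
  have hA'2 : ∀ a ∈ A', a ^ 2 = 1 := by
    rintro ⟨a, ha⟩ hm
    obtain ⟨b, hb, rfl⟩ : a ∈ A.map (MulAut.conj k).toMonoidHom := hm
    refine Subtype.ext ?_
    show (MulAut.conj k b) ^ 2 = 1
    rw [← map_pow, hA2 b hb, map_one]
  have hA'c : 4 < Nat.card A' := by
    have hle : A.map (MulAut.conj k).toMonoidHom ≤ (S : Subgroup G) := by
      rintro _ ⟨b, hb, rfl⟩; exact hk b hb
    rwa [Nat.card_congr (subgroupOfEquivOfLe hle).toEquiv, card_map_of_injective (MulEquiv.injective _)]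
  haveI : IsPGroup 2 ↥(S : Subgroup G) := S.2
  obtain ⟨E, hEA, hE8⟩ : ∃ E ≤ A', Nat.card E = 8 := by
    obtain ⟨j, hj⟩ := IsPGroup.iff_card.1 (S.2.to_subgroup A')
    obtain ⟨E₀, hE₀⟩ := Sylow.exists_subgroup_card_pow_prime (G := ↥A') 2 (n := 3) (by
      rw [hj]
      refine pow_dvd_pow 2 ?_
      by_contra h
      rw [hj] at hA'c
      have := Nat.pow_le_pow_right two_pos (show j ≤ 2 by omega)
      omega)
    exact ⟨E₀.map A'.subtype, map_subtype_le E₀, by rw [card_map_of_injective A'.subtype_injective, hE₀]; norm_num⟩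
  have hE2 : ∀ e ∈ E, e ^ 2 = 1 := fun e he => hA'2 e (hEA he)
  obtain ⟨U, hUn, hU4, hU2⟩ := RankThreeCent.exists_normal_four S.2 E hE8 hE2
  have hUc : ∀ a ∈ U, ∀ b ∈ U, a * b = b * a := fun a ha b hb => RankThreeCent.commute_of_exp_two hU2 ha hb
  have hUk : IsKleinFour U := ⟨hU4, by
    have hd : Monoid.exponent U ∣ 2 := Monoid.exponent_dvd_of_forall_pow_eq_one fun x => Subtype.ext (hU2 x x.2)
    refine ((Nat.dvd_prime Nat.prime_two).1 hd).resolve_left fun h => ?_
    haveI := Monoid.exp_eq_one_iff.1 h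
    rw [Nat.card_unique] at hU4
    omega⟩
  -- a four-group away from `U`
  let Adj := fun P Q : Subgroup ↥(S : Subgroup G) => IsKleinFour P ∧ IsKleinFour Q ∧ ∀ a ∈ P, ∀ b ∈ Q, a * b = b * a
  obtain ⟨V, hV, hUV⟩ : ∃ V : Subgroup ↥(S : Subgroup G), IsKleinFour V ∧ ¬ Relation.ReflTransGen Adj U V := by
    by_contra h
    push Not at h
    refine hS fun P Q hP hQ => (?_ : Relation.ReflTransGen Adj P Q)
    have hsymm : ∀ {a b}, Relation.ReflTransGen Adj a b → Relation.ReflTransGen Adj b a := by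
      intro a b hab
      induction hab with
      | refl => exact .refl
      | tail _ h ih => exact .head ⟨h.2.1, h.1, fun x hx y hy => (h.2.2 y hy x hx).symm⟩ ih
    exact (hsymm (h P hP)).trans (h Q hQ)
  obtain ⟨t, htV, u, huU, htu⟩ : ∃ t ∈ V, ∃ u ∈ U, t * u ≠ u * t := by
    by_contra h
    push Not at h
    exact hUV (.single ⟨hUk, hV, fun a ha b hb => (h b hb a ha).symm⟩)
  have ht2 : t * t = 1 := by
    haveI := hV
    exact congrArg Subtype.val (IsKleinFour.mul_self (⟨t, htV⟩ : V))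
  have hu2 : u * u = 1 := by rw [← pow_two]; exact hU2 u huU
  have hu1 : u ≠ 1 := fun h => htu (by rw [h, mul_one, one_mul])
  -- the central involution of `U`
  have hcen : ∃ z ∈ U, z ≠ 1 ∧ ∀ s, s * z = z * s := by
    letI : MulAction ↥(S : Subgroup G) U :=
      { smul := fun g x => ⟨g * x * g⁻¹, hUn.conj_mem x x.2 g⟩
        one_smul := fun x => Subtype.ext (show (1 : ↥(S : Subgroup G)) * x * 1⁻¹ = x by simp)
        mul_smul := fun g h x => Subtype.ext
          (show g * h * x * (g * h)⁻¹ = g * (h * x * h⁻¹) * g⁻¹ by group) }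
    obtain ⟨z, hz, hz1⟩ := S.2.exists_fixed_point_of_prime_dvd_card_of_fixed_point U (by rw [hU4]; norm_num)
      (a := (1 : U)) (fun g => Subtype.ext (show g * (1 : U) * g⁻¹ = (1 : ↥(S : Subgroup G)) by simp))
    exact ⟨z, z.2, fun e => hz1 (Subtype.ext e.symm), fun g =>
      mul_inv_eq_iff_eq_mul.1 (congrArg Subtype.val (hz g) : g * (z : ↥(S : Subgroup G)) * g⁻¹ = z)⟩
  obtain ⟨z, hzU, hz1, hzc⟩ := hcen
  have hz2 : z * z = 1 := by rw [← pow_two]; exact hU2 z hzU
  have huz : u ≠ z := fun h => htu (h ▸ hzc t)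
  obtain ⟨W, hW, huW, hzW, hWm⟩ := exists_four hu2 hz2 (hzc u).symm.symm hu1 hz1 huz
  have hUm : ∀ x ∈ U, x = 1 ∨ x = u ∨ x = z ∨ x = u * z := by
    have hWU : W ≤ U := fun x hx => by
      rcases hWm x hx with rfl | rfl | rfl | rfl
      exacts [one_mem _, huU, hzU, mul_mem huU hzU]
    intro x hx
    exact hWm x ((eq_of_le_of_card_ge hWU (by rw [hU4, hW.card_four])).symm ▸ hx)
  have hor : ∀ s : ↥(S : Subgroup G), s * u * s⁻¹ = u ∨ s * u * s⁻¹ = u * z := by
    intro s
    rcases hUm _ (hUn.conj_mem u huU s) with h | h | h | h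
    · exact absurd (conj_eq_one_iff.1 h) hu1
    · exact Or.inl h
    · exact absurd ((mul_inv_eq_iff_eq_mul.1 h).trans (hzc s).symm) (fun h' => huz (mul_left_cancel h'))
    · exact Or.inr h
  refine ⟨{
    S := S, u := u, z := z, t := t, uS := u.2, zS := z.2, tS := t.2
    uu := congrArg Subtype.val hu2, zz := congrArg Subtype.val hz2, tt := congrArg Subtype.val ht2
    u1 := fun h => hu1 (Subtype.ext h), z1 := fun h => hz1 (Subtype.ext h)
    uz := fun h => huz (Subtype.ext h)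
    zc := fun s hs => congrArg Subtype.val (hzc ⟨s, hs⟩)
    Uor := fun s hs => (hor ⟨s, hs⟩).imp (congrArg Subtype.val) (congrArg Subtype.val)
    tu := congrArg Subtype.val ((hor t).resolve_left fun h => htu (mul_inv_eq_iff_eq_mul.1 h))
    noEight := ?_
    iso := ?_
    big := ?_
    simple := inferInstance
    hns := hns }, rfl⟩
  · intro F hF hFn hFc hF2
    by_contra h
    let F' := F.subgroupOf (S : Subgroup G)
    haveI : F'.Normal := ⟨fun x hx s => hFn s s.2 x hx⟩
    refine hS (Cfsg.Agent.S0502.result S.2 F' ⟨⟨fun a b => Subtype.ext (Subtype.ext (hFc _ a.2 _ b.2))⟩⟩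
      (fun e he => Subtype.ext (by rw [SubmonoidClass.coe_pow, pow_two]; exact hF2 _ he)) ?_)
    rw [Nat.card_congr (subgroupOfEquivOfLe hF).toEquiv]
    obtain ⟨j, hj⟩ := IsPGroup.iff_card.1 (S.2.to_le hF)
    rw [hj] at h ⊢
    rcases Nat.lt_or_ge j 3 with hj3 | hj3
    · exact absurd ((Nat.pow_le_pow_right two_pos (show j ≤ 2 by omega)).trans (by norm_num)) h
    · exact le_trans (by norm_num) (Nat.pow_le_pow_right two_pos hj3)
  · intro x hx hxu hx2 hxt
    by_contra h
    push Not at h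
    let x' : ↥(S : Subgroup G) := ⟨x, hx⟩
    have hxu' : x' * u = u * x' := Subtype.ext hxu
    have hxt' : x' * t = t * x' := Subtype.ext hxt
    obtain ⟨X, hX, -, -, hXm⟩ := exists_four (a := x') (b := z) (Subtype.ext hx2) hz2 (hzc x')
      (fun e => h.1 (congrArg Subtype.val e)) hz1 (fun e => h.2 (congrArg Subtype.val e))
    obtain ⟨Y, hY, -, -, hYm⟩ := exists_four (a := t) (b := z) ht2 hz2 (hzc t)
      (fun e => htu (by rw [e, one_mul, mul_one])) hz1 (fun e => htu (by rw [e, hzc u]))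
    have hzc' : ∀ s, Commute z s := fun s => (hzc s).symm
    suffices h3' : Adj U X ∧ Adj X Y ∧ Adj Y V from
      hUV (((Relation.ReflTransGen.single h3'.1).tail h3'.2.1).tail h3'.2.2)
    refine ⟨⟨hUk, hX, ?_⟩, ⟨hX, hY, ?_⟩, hY, hV, ?_⟩
    · have hpair : ∀ {p q r w : ↥(S : Subgroup G)}, Commute p w → Commute q w →
          r = 1 ∨ r = p ∨ r = q ∨ r = p * q → Commute r w := by
        intro p q r w h₁ h₂ h
        rcases h with h | h | h | h <;> rw [h]
        exacts [Commute.one_left _, h₁, h₂, h₁.mul_left h₂]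
      intro a ha b hb
      refine (hpair (hpair (show Commute x' u from hxu') (hzc' u) (hXm b hb)).symm ?_ (hUm a ha)).eq
      exact hzc' b
    · have hpair : ∀ {p q r w : ↥(S : Subgroup G)}, Commute p w → Commute q w →
          r = 1 ∨ r = p ∨ r = q ∨ r = p * q → Commute r w := by
        intro p q r w h₁ h₂ h
        rcases h with h | h | h | h <;> rw [h]
        exacts [Commute.one_left _, h₁, h₂, h₁.mul_left h₂]
      intro a ha b hb
      refine (hpair ?_ (hzc' b) (hXm a ha)).eq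
      exact (hpair (show Commute t x' from hxt'.symm) (hzc' x') (hYm b hb)).symm
    · intro a ha b hb
      have hc : Commute t b := by
        haveI := hV
        exact congrArg Subtype.val (mul_comm_of_exponent_two hV.exponent_two (⟨t, htV⟩ : V) ⟨b, hb⟩)
      rcases hYm a ha with h' | h' | h' | h' <;> rw [h']
      exacts [(Commute.one_left _).eq, hc.eq, (hzc' b).eq, (hc.mul_left (hzc' b)).eq]
  · by_contra hno
    push Not at hno
    have hin : ∀ e ∈ E, e * u = u * e → e ∈ U := by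
      intro e he heu
      by_contra hne
      refine hne ?_
      have h1 := hno (e : G) e.2 (congrArg Subtype.val heu)
        (congrArg Subtype.val (show e * e = 1 by rw [← pow_two]; exact hE2 e he))
      by_cases a1 : e = 1
      · rw [a1]; exact one_mem _
      by_cases a2 : e = z
      · rw [a2]; exact hzU
      by_cases a3 : e = u
      · rw [a3]; exact huU
      have := h1 (fun h => a1 (Subtype.ext h)) (fun h => a2 (Subtype.ext h)) (fun h => a3 (Subtype.ext h))
      rw [show e = u * z from Subtype.ext this]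
      exact mul_mem huU hzU
    have hall : ∀ e ∈ E, e * u = u * e := by
      by_contra h
      push Not at h
      obtain ⟨e₀, he₀, hne⟩ := h
      have he0 : e₀ * u * e₀⁻¹ = u * z := (hor e₀).resolve_left fun h => hne (mul_inv_eq_iff_eq_mul.1 h)
      have hcov : ∀ e ∈ E, e ∈ U ∨ e * e₀ ∈ U := by
        intro e he
        by_cases hh : e * u = u * e
        · exact Or.inl (hin e he hh)
        · refine Or.inr (hin _ (mul_mem he he₀) (mul_inv_eq_iff_eq_mul.1 ?_))
          have he1 : e * u * e⁻¹ = u * z := (hor e).resolve_left fun h => hh (mul_inv_eq_iff_eq_mul.1 h)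
          rw [show e * e₀ * u * (e * e₀)⁻¹ = e * (e₀ * u * e₀⁻¹) * e⁻¹ by group, he0,
            show e * (u * z) * e⁻¹ = (e * u * e⁻¹) * (e * z * e⁻¹) by group, he1, hzc e, mul_inv_cancel_right,
            mul_assoc, hz2, mul_one]
      have hsub : (E : Set ↥(S : Subgroup G)) ⊆
          ((E ⊓ U : Subgroup _) : Set ↥(S : Subgroup G)) ∪ (fun x => x * e₀⁻¹) '' ((E ⊓ U : Subgroup _) : Set ↥(S : Subgroup G)) := by
        intro e he
        rcases hcov e he with h | h
        · exact Or.inl ⟨he, h⟩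
        · exact Or.inr ⟨e * e₀, ⟨mul_mem he he₀, h⟩, by simp⟩
      have hc := (Set.ncard_le_ncard hsub (Set.toFinite _)).trans (Set.ncard_union_le _ _)
      rw [Set.ncard_image_of_injective _ (mul_left_injective _)] at hc
      simp only [← Nat.card_coe_set_eq] at hc
      have h4 : Nat.card U ≤ Nat.card (E ⊓ U : Subgroup _) := by
        rw [hU4]
        have : (8 : ℕ) ≤ Nat.card (E ⊓ U : Subgroup _) + Nat.card (E ⊓ U : Subgroup _) := hE8 ▸ hc
        omega
      have hUE : U ≤ E := (eq_of_le_of_card_ge inf_le_right h4) ▸ inf_le_left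
      exact hne (RankThreeCent.commute_of_exp_two hE2 he₀ (hUE huU))
    have hEU : E ≤ U := fun e he => hin e he (hall e he)
    have := Subgroup.card_le_of_le hEU
    omega

namespace Ctx

variable (c : Ctx G)

/-- The Sylow centraliser. -/
def C (y : G) : Subgroup G := (c.S : Subgroup G) ⊓ centralizer ({y} : Set G)

theorem mem_C {x y : G} : x ∈ c.C y ↔ x ∈ (c.S : Subgroup G) ∧ x * y = y * x := by
  rw [C, mem_inf, mem_centralizer_singleton_iff]

/-- A conjugate of `z` other than `z` in the Sylow subgroup. -/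
def Cand (y : G) : Prop := y ∈ (c.S : Subgroup G) ∧ y ≠ c.z ∧ IsConj y c.z

/-- The Sylow subgroup has no normal elementary abelian subgroup of order eight. -/
theorem noEightS : MacWilliams.NoEight ↥(c.S : Subgroup G) := by
  intro A hAn hA hA2
  have h := c.noEight (A.map (c.S : Subgroup G).subtype) (map_subtype_le A)
    (fun s hs e he => by
      obtain ⟨a, ha, rfl⟩ := he
      exact ⟨⟨s, hs⟩ * a * ⟨s, hs⟩⁻¹, hAn.conj_mem a ha ⟨s, hs⟩, rfl⟩)
    (fun _ ha _ hb => by
      obtain ⟨a, ha, rfl⟩ := ha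
      obtain ⟨b, hb, rfl⟩ := hb
      rw [← map_mul, ← map_mul, show a * b = b * a from MacWilliams.exp_two_comm (V := A)
        (fun v => Subtype.ext (by simpa using hA2 v v.2)) ⟨a, ha⟩ ⟨b, hb⟩ |> congrArg Subtype.val])
    (fun _ he => by
      obtain ⟨a, ha, rfl⟩ := he
      rw [← map_mul, ← pow_two, hA2 a ha, map_one])
  rwa [card_map_of_injective (c.S : Subgroup G).subtype_injective] at h

/-- A candidate with largest centraliser. -/
def Top (y : G) : Prop := c.Cand y ∧ ∀ y', c.Cand y' → Nat.card (c.C y') ≤ Nat.card (c.C y)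

theorem exists_top : ∃ y, c.Top y := by
  obtain ⟨y, hy⟩ := c.exists_other
  obtain ⟨m, hm, hmax⟩ := Set.exists_max_image {y | c.Cand y} (fun y => Nat.card (c.C y)) (Set.toFinite _)
    ⟨y, hy.1, hy.2.1, hy.2.2⟩
  exact ⟨m, hm, hmax⟩

theorem Cand.sq {y : G} (hy : c.Cand y) : y * y = 1 := by
  obtain ⟨g, hg⟩ := isConj_iff.1 hy.2.2
  apply (MulAut.conj g).injective
  rw [map_mul, map_one, MulAut.conj_apply, hg, c.zz]

theorem Cand.ne_one {y : G} (hy : c.Cand y) : y ≠ 1 := fun h => c.z1 (isConj_one_right.1 (h ▸ hy.2.2))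

/-- A candidate has an element normalising its Sylow centraliser from outside. -/
theorem exists_n {y : G} (hy : c.Cand y) :
    ∃ n : G, n * y = y * n ∧ (∃ k, n ^ 2 ^ k = 1) ∧ n ∈ normalizer (c.C y : Set G) ∧ n ∉ c.C y := by
  haveI := Fact.mk Nat.prime_two
  obtain ⟨g, hgy, hgP⟩ := c.extremal hy.1 hy.2.2
  let P' : Subgroup ↥(c.S : Subgroup G) := ((c.C y).map (MulAut.conj g).toMonoidHom).subgroupOf (c.S : Subgroup G)
  have hle : (c.C y).map (MulAut.conj g).toMonoidHom ≤ (c.S : Subgroup G) := by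
    rintro _ ⟨x, hx, rfl⟩
    exact hgP x (c.mem_C.1 hx).1 (c.mem_C.1 hx).2
  have hlt : P' < ⊤ := by
    refine lt_top_iff_ne_top.2 fun h => ?_
    have hcard : Nat.card (c.C y) = Nat.card (c.S : Subgroup G) := by
      rw [← card_map_of_injective (f := (MulAut.conj g).toMonoidHom) (MulEquiv.injective (MulAut.conj g)), ← Nat.card_congr (subgroupOfEquivOfLe hle).toEquiv]
      show Nat.card P' = _
      rw [h, card_top]
    have hCS : c.C y = (c.S : Subgroup G) := eq_of_le_of_card_ge inf_le_left hcard.ge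
    exact hy.2.1 (c.eq_z hy.1 hy.sq hy.ne_one fun s hs => (c.mem_C.1 (hCS.symm ▸ hs : s ∈ c.C y)).2)
  haveI : Group.IsNilpotent ↥(c.S : Subgroup G) := c.S.2.isNilpotent
  obtain ⟨⟨s, hs⟩, hsn, hsP⟩ := SetLike.exists_of_lt (normalizerCondition_of_isNilpotent P' hlt)
  have key : ∀ x, (x ∈ c.C y ↔ g⁻¹ * s * g * x * (g⁻¹ * s * g)⁻¹ ∈ c.C y) := by
    intro x
    have hm : ∀ w : G, w ∈ c.C y ↔ ∃ h : g * w * g⁻¹ ∈ (c.S : Subgroup G), (⟨_, h⟩ : ↥(c.S : Subgroup G)) ∈ P' := by
      intro w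
      constructor
      · exact fun hw => ⟨hle ⟨w, hw, rfl⟩, ⟨w, hw, rfl⟩⟩
      · rintro ⟨h, x, hx, e⟩
        have : g * x * g⁻¹ = g * w * g⁻¹ := e
        rwa [← mul_left_cancel (mul_right_cancel this)]
    rw [hm x, hm (g⁻¹ * s * g * x * (g⁻¹ * s * g)⁻¹)]
    have e : g * (g⁻¹ * s * g * x * (g⁻¹ * s * g)⁻¹) * g⁻¹ = s * (g * x * g⁻¹) * s⁻¹ := by group
    constructor
    · rintro ⟨h, hP⟩
      refine ⟨e ▸ mul_mem (mul_mem hs h) (inv_mem hs), ?_⟩
      have := (mem_normalizer_iff.1 hsn _).1 hP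
      convert this using 1
      exact Subtype.ext e
    · rintro ⟨h, hP⟩
      have h0 : g * x * g⁻¹ ∈ (c.S : Subgroup G) := by
        have := mul_mem (mul_mem (inv_mem hs) (e ▸ h)) hs
        simpa [mul_assoc] using this
      refine ⟨h0, (mem_normalizer_iff.1 hsn ⟨_, h0⟩).2 ?_⟩
      convert hP using 1
      exact Subtype.ext e.symm
  refine ⟨g⁻¹ * s * g, ?_, ?_, mem_normalizer_iff.2 key, fun hn => hsP ⟨_, hn, ?_⟩⟩
  · have h1 : y = g⁻¹ * c.z * g := by rw [← hgy]; group
    rw [h1, show g⁻¹ * s * g * (g⁻¹ * c.z * g) = g⁻¹ * (s * c.z) * g by group, c.zc s hs]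
    group
  · obtain ⟨k, hk⟩ := c.S.2 ⟨s, hs⟩
    refine ⟨k, ?_⟩
    rw [show g⁻¹ * s * g = g⁻¹ * s * g⁻¹⁻¹ by group, conj_pow, show s ^ 2 ^ k = 1 from congrArg Subtype.val hk]
    group
  · show g * (g⁻¹ * s * g) * g⁻¹ = s
    group

/-- (M): nothing outside the centraliser of a top candidate in `T` moves it while fixing the four-group. -/
theorem no_move {y n : G} (hy : c.Top y) (hyT : y ∈ c.T) (hyU : y ∉ c.U) (hny : n * y = y * n)
    (hn2 : ∃ k, n ^ 2 ^ k = 1) (hnP : n ∈ normalizer (c.C y : Set G)) (hnC : n ∉ c.C y)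
    (hnU : n ∈ normalizer (c.U : Set G)) : False := by
  haveI := Fact.mk Nat.prime_two
  let K := c.C y ⊔ zpowers n
  have hKp : IsPGroup 2 ↥K := by
    refine (c.S.2.to_le inf_le_left).to_sup_of_normal_left' ?_ ((zpowers_le).2 hnP)
    rintro ⟨_, j, rfl⟩
    obtain ⟨k, hk⟩ := hn2
    refine ⟨k, Subtype.ext ?_⟩
    show (n ^ j) ^ 2 ^ k = 1
    rw [← zpow_natCast, ← zpow_mul, mul_comm, zpow_mul, zpow_natCast, hk, one_zpow]
  have hSN : (c.S : Subgroup G) ≤ normalizer (c.U : Set G) := fun s hs => mem_normalizer_iff.2 fun x =>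
    ⟨fun hx => c.U_normal hs hx, fun hx => by
      have := c.U_normal (inv_mem hs) hx
      simpa [mul_assoc] using this⟩
  obtain ⟨k, hkN, hk⟩ := NormalRankTwo.exists_conj_into c.S hSN hKp
    (sup_le (inf_le_left.trans hSN) ((zpowers_le).2 hnU))
  have hyC : y ∈ c.C y := c.mem_C.2 ⟨hy.1.1, rfl⟩
  have hy' : c.Cand (k * y * k⁻¹) := by
    refine ⟨hk y (mem_sup_left hyC), fun h => hyU ?_, ?_⟩
    · exact (mem_normalizer_iff.1 hkN y).2 (h ▸ c.zU)
    · exact (isConj_iff.2 ⟨k, rfl⟩).symm.trans hy.1.2.2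
  have hsub : K.map (MulAut.conj k).toMonoidHom ≤ c.C (k * y * k⁻¹) := by
    have hK : K ≤ centralizer ({y} : Set G) := sup_le inf_le_right
      ((zpowers_le).2 (mem_centralizer_singleton_iff.2 hny))
    rintro _ ⟨x, hx, rfl⟩
    refine c.mem_C.2 ⟨hk x hx, ?_⟩
    have e := mem_centralizer_singleton_iff.1 (hK hx)
    show k * x * k⁻¹ * (k * y * k⁻¹) = k * y * k⁻¹ * (k * x * k⁻¹)
    rw [show k * x * k⁻¹ * (k * y * k⁻¹) = k * (x * y) * k⁻¹ by group, e]
    group
  have h1 := (card_le_of_le hsub).trans (hy.2 _ hy')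
  rw [card_map_of_injective (MulEquiv.injective _)] at h1
  exact hnC ((eq_of_le_of_card_ge le_sup_left h1).symm ▸ mem_sup_right (mem_zpowers n))

/-- L1: an involution of `U` outside the derived subgroup leaves `T`. -/
theorem exists_leave (hQ : ¬ IsConj c.u c.z) {A : Type*} [CommGroup A] (ψ : ↥(c.S : Subgroup G) →* A)
    (hψ : ψ ⟨c.u, c.uS⟩ ≠ 1) :
    ∃ g : G, (∀ x ∈ c.T, g * x * g⁻¹ ∈ (c.S : Subgroup G)) ∧ g * c.u * g⁻¹ ∉ c.T ∧ g * c.z * g⁻¹ = c.z := by
  haveI := c.simple
  obtain ⟨a, b, hab⟩ : ∃ a b : G, a * b ≠ b * a := by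
    by_contra h
    push Not at h
    exact c.hns (IsSimpleGroup.comm_iff_isSolvable.1 h)
  obtain ⟨g, hg, hne⟩ := exists_other_image ⟨a, b, hab⟩ c.S ψ c.T_le c.uS c.uu
    (fun x hx => (c.mem_T.1 hx).2) hψ
  have h1 : g * c.u * g⁻¹ ≠ 1 := fun h => c.u1 (conj_eq_one_iff.1 h)
  have h2 : g * c.u * g⁻¹ ≠ c.z := fun h => hQ (isConj_iff.2 ⟨g, h⟩)
  rcases c.moved_four hg with h | h
  · exfalso
    have hu := h _ c.uU
    rcases hu with h' | h' | h' | h'
    · exact h1 h'
    · exact h2 h'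
    · exact hne (hg _ c.uT) (congrArg ψ (Subtype.ext h'))
    · refine hne (hg _ c.uT) ?_
      rw [show (⟨g * c.u * g⁻¹, hg _ c.uT⟩ : ↥(c.S : Subgroup G)) =
        ⟨c.t, c.tS⟩ * ⟨c.u, c.uS⟩ * ⟨c.t, c.tS⟩⁻¹ from Subtype.ext (by simp [h', c.tu]), map_mul, map_mul, map_inv]
      rw [mul_comm (ψ ⟨c.t, c.tS⟩), mul_inv_cancel_right]
  · refine ⟨g, hg, fun hT => (h _ c.uU hT).elim h1 h2, ?_⟩
    obtain ⟨i, hi, -, hii⟩ := c.exists_root
    refine (h _ c.zU ?_).resolve_left fun h' => c.z1 (conj_eq_one_iff.1 h')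
    rw [← hii, show g * (i * i) * g⁻¹ = (g * i * g⁻¹) * (g * i * g⁻¹) by group]
    exact c.sq_mem_T (hg i hi)

end Ctx

end CfsgLib.Nonconn
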