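import Cfsg.Agent.Lib.Nonconn.Index
import Cfsg.Agent.Lib.MacWilliams.Full
import Mathlib.GroupTheory.Abelianization.Defs

/-!
The case of a homocyclic abelian subgroup of order sixteen over `U`: the endomorphisms in the ambient group.

Blueprint: `blueprint/S0503.md`, case A16.
-/

set_option autoImplicit false
set_option linter.unusedSectionVars false

namespace CfsgLib.Nonconn

open Subgroup MacWilliams

variable {G : Type*} [Group G] [Finite G]

/-- The data of the big case. -/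
structure BigCase (c : Ctx G) where
  A : Subgroup ↥(c.S : Subgroup G)
  hA : MaxFour A
  F : Frame hA
  e1 : (F.e₁ : G) = c.u
  e2 : (F.e₂ : G) = c.u * c.z
  noMove : ¬ IsConj c.u c.z

namespace BigCase

variable {c : Ctx G} (B : BigCase c)

/-- The involution with given coordinates. -/
def pt (v : V2) : G := (B.F.iota v : G)

/-- `x` acts through `M`. -/
def Mu (x : G) (M : M4) : Prop := ∃ hx : x ∈ (c.S : Subgroup G), B.F.Mu ⟨x, hx⟩ M

/-- The abelian subgroup in the ambient group. -/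
def AG : Subgroup G := B.A.map (c.S : Subgroup G).subtype

theorem omA_iff {x : ↥(c.S : Subgroup G)} : x ∈ omA B.hA ↔ (x : G) ∈ c.U := by
  constructor
  · intro hx
    rcases B.F.all x hx with rfl | rfl | rfl | rfl
    · exact one_mem _
    · rw [B.e1]; exact c.uU
    · rw [B.e2]; exact mul_mem c.uU c.zU
    · rw [Subgroup.coe_mul, B.e1, B.e2, ← mul_assoc, c.uu, one_mul]; exact c.zU
  · rintro (h | h | h | h)
    · rw [show x = 1 from Subtype.ext h]; exact one_mem _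
    · rw [show x = B.F.e₁ * B.F.e₂ from Subtype.ext (by
        rw [h, Subgroup.coe_mul, B.e1, B.e2, ← mul_assoc, c.uu, one_mul])]
      exact mul_mem B.F.he₁ B.F.he₂
    · rw [show x = B.F.e₁ from Subtype.ext (h.trans B.e1.symm)]; exact B.F.he₁
    · rw [show x = B.F.e₂ from Subtype.ext (h.trans B.e2.symm)]; exact B.F.he₂

theorem centralizer_iff {x : ↥(c.S : Subgroup G)} :
    x ∈ centralizer (omA B.hA : Set ↥(c.S : Subgroup G)) ↔ (x : G) ∈ c.T := by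
  constructor
  · intro hx
    refine c.mem_T.2 ⟨x.2, ?_⟩
    have := congrArg Subtype.val (hx B.F.e₁ B.F.he₁)
    simp only [Subgroup.coe_mul, B.e1] at this
    exact this.symm
  · intro hx e he
    exact Subtype.ext (c.T_U hx ((B.omA_iff).1 he)).symm

theorem mu_T {x : G} {M : M4} (h : B.Mu x M) : x ∈ c.T := by
  obtain ⟨hx, hM⟩ := h
  exact B.centralizer_iff.1 hM.1

theorem exists_mu {x : G} (hx : x ∈ c.T) : ∃ M, B.Mu x M := by
  obtain ⟨M, hM⟩ := B.F.exists_mu (w := ⟨x, c.T_le hx⟩) (B.centralizer_iff.2 hx)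
  exact ⟨M, c.T_le hx, hM⟩

theorem mu_unique {x : G} {M N : M4} (h : B.Mu x M) (h' : B.Mu x N) : M = N := by
  obtain ⟨hx, hM⟩ := h
  obtain ⟨_, hN⟩ := h'
  exact B.F.mu_unique hM hN

theorem mu_mul {x y : G} {M N : M4} (h : B.Mu x M) (h' : B.Mu y N) : B.Mu (x * y) (M + N) := by
  obtain ⟨hx, hM⟩ := h
  obtain ⟨hy, hN⟩ := h'
  exact ⟨mul_mem hx hy, B.F.mu_mul hM hN⟩

theorem mu_one : B.Mu 1 0 := ⟨one_mem _, B.F.mu_of_centralizer (one_mem _)⟩

theorem mu_inv {x : G} {M : M4} (h : B.Mu x M) : B.Mu x⁻¹ M := by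
  obtain ⟨hx, hM⟩ := h
  exact ⟨inv_mem hx, B.F.mu_inv hM⟩

theorem mu_sq {x : G} {M : M4} (h : B.Mu x M) : B.Mu (x * x) 0 := by
  simpa [m4_self_add] using B.mu_mul h h

theorem mu_pow {x : G} (h : B.Mu x 0) : ∀ n : ℕ, B.Mu (x ^ n) 0
  | 0 => by simpa using B.mu_one
  | n + 1 => by simpa [pow_succ] using B.mu_mul (mu_pow h n) h

theorem mu_zpow {x : G} (h : B.Mu x 0) : ∀ n : ℤ, B.Mu (x ^ n) 0
  | Int.ofNat n => by simpa using B.mu_pow h n
  | Int.negSucc n => by simpa using B.mu_inv (B.mu_pow h (n + 1))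

theorem mu_conj {x g : G} {M : M4} (h : B.Mu x M) (hg : g ∈ c.T) : B.Mu (g * x * g⁻¹) M := by
  obtain ⟨hx, hM⟩ := h
  exact ⟨mul_mem (mul_mem (c.T_le hg) hx) (inv_mem (c.T_le hg)),
    B.F.mu_conj hM (g := ⟨g, c.T_le hg⟩) (B.centralizer_iff.2 hg)⟩

theorem mu_swap {x s : G} {M : M4} (h : B.Mu x M) (hs : s ∈ (c.S : Subgroup G)) (hsT : s ∉ c.T) :
    B.Mu (s * x * s⁻¹) (tc M) := by
  obtain ⟨hx, hM⟩ := h
  exact ⟨mul_mem (mul_mem hs hx) (inv_mem hs),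
    B.F.mu_conj_swap hM (t := ⟨s, hs⟩) (fun e => hsT (B.centralizer_iff.1 e))⟩

theorem tc_eq_of_comm {x s : G} {M : M4} (h : B.Mu x M) (hs : s ∈ (c.S : Subgroup G)) (hsT : s ∉ c.T)
    (hc : s * x = x * s) : tc M = M := by
  have h' := B.mu_swap h hs hsT
  rw [hc, mul_inv_cancel_right] at h'
  exact B.mu_unique h' h

theorem pt_mem (v : V2) : B.pt v ∈ c.U := B.omA_iff.1 (B.F.iota_mem v)

theorem pt_zero : B.pt 0 = 1 := by rw [pt, B.F.iota_zero]; rfl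

theorem pt_add (v w : V2) : B.pt (v + w) = B.pt v * B.pt w := by rw [pt, B.F.iota_add]; rfl

theorem pt_10 : B.pt (1, 0) = c.u := by rw [pt, B.F.iota_one₁, B.e1]

theorem pt_01 : B.pt (0, 1) = c.u * c.z := by rw [pt, B.F.iota_one₂, B.e2]

theorem pt_11 : B.pt (1, 1) = c.z := by
  rw [show ((1, 1) : V2) = (1, 0) + (0, 1) by decide, pt_add, pt_10, pt_01, ← mul_assoc, c.uu, one_mul]

theorem pt_inj {v w : V2} (h : B.pt v = B.pt w) : v = w := B.F.iota_inj (Subtype.ext h)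

theorem pt_surj {e : G} (he : e ∈ c.U) : ∃ v, B.pt v = e := by
  obtain ⟨v, hv⟩ := B.F.iota_surj (e := ⟨e, c.T_le (c.U_le he)⟩) (B.omA_iff.2 he)
  exact ⟨v, congrArg Subtype.val hv⟩

theorem pt_eq_one {v : V2} : B.pt v = 1 ↔ v = 0 :=
  ⟨fun h => B.pt_inj (h.trans B.pt_zero.symm), fun h => h ▸ B.pt_zero⟩

theorem AG_le : B.AG ≤ (c.S : Subgroup G) := map_subtype_le _

theorem AG_comm {a b : G} (ha : a ∈ B.AG) (hb : b ∈ B.AG) : a * b = b * a := by
  obtain ⟨a, ha', rfl⟩ := ha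
  obtain ⟨b, hb', rfl⟩ := hb
  rw [← map_mul, ← map_mul, B.hA.comm a ha' b hb']

theorem AG_conj {s a : G} (hs : s ∈ (c.S : Subgroup G)) (ha : a ∈ B.AG) : s * a * s⁻¹ ∈ B.AG := by
  obtain ⟨a, ha', rfl⟩ := ha
  exact ⟨⟨s, hs⟩ * a * ⟨s, hs⟩⁻¹, B.hA.normal.conj_mem _ ha' _, rfl⟩

theorem U_le_AG : c.U ≤ B.AG := fun e he =>
  ⟨⟨e, c.T_le (c.U_le he)⟩, (B.omA_iff.2 he : _ ∈ omA B.hA).1, rfl⟩

theorem mu_AG {a : G} (ha : a ∈ B.AG) : B.Mu a 0 := by
  obtain ⟨a, ha', rfl⟩ := ha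
  exact ⟨a.2, B.F.mu_of_centralizer fun b hb => B.hA.comm b hb a ha'⟩

theorem AG_T {a : G} (ha : a ∈ B.AG) : a ∈ c.T := B.mu_T (B.mu_AG ha)

theorem mu_U {e : G} (he : e ∈ c.U) : B.Mu e 0 := B.mu_AG (B.U_le_AG he)

theorem root (v : V2) : ∃ b ∈ B.AG, b * b = B.pt v := by
  obtain ⟨b, hb, h⟩ := B.F.exists_root v
  exact ⟨b, ⟨b, hb, rfl⟩, by rw [pt, ← h, pow_two]; rfl⟩

theorem act {x b : G} {M : M4} {v : V2} (h : B.Mu x M) (hb : b ∈ B.AG) (hbv : b * b = B.pt v) :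
    x * b * x⁻¹ = B.pt (app M v) * b := by
  obtain ⟨hx, hM⟩ := h
  obtain ⟨b, hb', rfl⟩ := hb
  exact congrArg Subtype.val (hM.2 b hb' v (Subtype.ext (by rw [pow_two]; exact hbv)))

theorem act_right {x b : G} {M : M4} {v : V2} (h : B.Mu x M) (hb : b ∈ B.AG) (hbv : b * b = B.pt v) :
    b * x * b⁻¹ = x * B.pt (app M v) := by
  have e := B.act (B.mu_inv h) hb hbv
  rw [inv_inv] at e
  calc b * x * b⁻¹ = x * (x⁻¹ * b * x) * b⁻¹ := by group
    _ = _ := by rw [e]; group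

theorem order_four {x : G} (h : B.Mu x 0) (h4 : x ^ 4 = 1) : x ∈ B.AG := by
  obtain ⟨hx, hM⟩ := h
  exact ⟨⟨x, hx⟩, B.hA.mem_of_four c.S.2 (B.F.mem_centralizer_of_mu hM)
    (Subtype.ext (by simpa using h4)), rfl⟩

theorem inv_U {x : G} (h : B.Mu x 0) (hxx : x * x = 1) : x ∈ c.U := by
  obtain ⟨a, ha, rfl⟩ := B.order_four h (by
    rw [show x ^ 4 = x * x * (x * x) by simp [pow_succ, mul_assoc], hxx, one_mul])
  exact B.omA_iff.1 ⟨ha, Subtype.ext (by simpa [pow_two] using hxx)⟩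

theorem AG_sq {a : G} (ha : a ∈ B.AG) : a * a ∈ c.U := by
  refine B.inv_U (B.mu_sq (B.mu_AG ha)) ?_
  obtain ⟨a, ha', rfl⟩ := ha
  have := congrArg Subtype.val (B.hA.four a ha')
  simpa [pow_succ, mul_assoc] using this

theorem sq_eq {x y : G} (hx : B.Mu x 0) (hy : B.Mu y 0) (hxy : x * x = y * y) : x⁻¹ * y ∈ c.U := by
  refine B.inv_U (by simpa using B.mu_mul (B.mu_inv hx) hy) ?_
  obtain ⟨hx', hM⟩ := hx
  obtain ⟨hy', hN⟩ := hy
  set X := centralizer (B.A : Set ↥(c.S : Subgroup G))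
  have key := MacWilliams.sq_inj (c.S.2.to_subgroup X) (fourCentral c.S.2 B.hA (le_refl X))
    (x := ⟨⟨x, hx'⟩, B.F.mem_centralizer_of_mu hM⟩) (y := ⟨⟨y, hy'⟩, B.F.mem_centralizer_of_mu hN⟩)
    (Subtype.ext (Subtype.ext (by simpa [pow_two] using hxy)))
  simpa [pow_two] using congrArg (fun p : X => ((p : ↥(c.S : Subgroup G)) : G)) key

theorem power {x : G} (h : B.Mu x 0) (hxx : x * x ≠ 1) :
    ∃ (n : ℕ) (v : V2), x ^ n ∈ B.AG ∧ x ^ n * x ^ n = B.pt v ∧ v ≠ 0 := by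
  obtain ⟨hx, hM⟩ := h
  obtain ⟨n, hn, hn2⟩ := exists_power c.S.2 B.hA (B.F.mem_centralizer_of_mu hM)
    (fun e => hxx (by simpa [pow_two] using congrArg Subtype.val e))
  obtain ⟨v, hv⟩ := B.F.iota_surj (sq_mem_omA B.hA hn)
  refine ⟨n, v, ⟨_, hn, rfl⟩, ?_, fun e => hn2 ?_⟩
  · rw [pt, hv]; simp [pow_two]
  · rw [← hv, e, B.F.iota_zero]

theorem not_norm_jj {x : G} (h : B.Mu x jj) : x * x * (x * x) ≠ 1 := by
  intro h4
  obtain ⟨hx, hM⟩ := h
  have hG : MacWilliams.NoEight ↥(c.S : Subgroup G) := c.noEightS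
  refine B.F.no_fixed c.S.2 hG jj_props.1 jj_props.2.1
    ⟨_, hM, Subtype.ext (by simpa [pow_two] using h4)⟩ fun g w hw => ?_
  by_cases hg : g ∈ centralizer (omA B.hA : Set ↥(c.S : Subgroup G))
  · exact B.F.mu_conj hw hg
  · have := B.F.mu_conj_swap hw hg
    rwa [jj_props.2.2] at this

/-- The endomorphisms which occur. -/
def E : AddSubgroup M4 where
  carrier := {M | ∃ x, B.Mu x M}
  zero_mem' := ⟨1, B.mu_one⟩
  add_mem' := fun ⟨x, hx⟩ ⟨y, hy⟩ => ⟨x * y, B.mu_mul hx hy⟩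
  neg_mem' := fun {M} ⟨x, hx⟩ => ⟨x, by rwa [show -M = M from neg_eq_of_add_eq_zero_left (m4_self_add M)]⟩

theorem mem_E {x : G} {M : M4} (h : B.Mu x M) : M ∈ B.E := ⟨x, h⟩

theorem E_tc {M : M4} (h : M ∈ B.E) : tc M ∈ B.E := by
  obtain ⟨x, hx⟩ := h
  exact ⟨_, B.mu_swap hx c.tS c.tT⟩

theorem not_om_jj (hom : om ∈ B.E) (hjj : jj ∈ B.E) : False := by
  obtain ⟨x, hx, hM⟩ := hom
  obtain ⟨w, hw, hW⟩ := hjj
  obtain ⟨v, hv, h4⟩ := B.F.norm_all c.S.2 om_props.1 om_props.2.1 hM hW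
  exact B.not_norm_jj (x := v) ⟨v.2, hv⟩ (by simpa [pow_two] using congrArg Subtype.val h4)

/-- The sums of a list. -/
def sums : List M4 → List M4
  | [] => [0]
  | a :: l => sums l ++ (sums l).map (a + ·)

theorem mem_sums : ∀ {l : List M4}, (∀ x ∈ l, x ∈ B.E) → ∀ x ∈ sums l, x ∈ B.E
  | [], _, x, hx => by
    simp only [sums, List.mem_singleton] at hx
    subst hx; exact zero_mem _
  | a :: l, h, x, hx => by
    have ih := mem_sums (l := l) fun y hy => h y (List.mem_cons_of_mem a hy)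
    simp only [sums, List.mem_append, List.mem_map] at hx
    rcases hx with hx | ⟨y, hy, rfl⟩
    · exact ih x hx
    · exact add_mem (h a (List.mem_cons_self ..)) (ih y hy)

/-- Too many endomorphisms. -/
theorem absurd_of_gens (l : List M4) (h : ∀ x ∈ l, x ∈ B.E)
    (hd : om ∈ sums (l ++ l.map tc) ∧ jj ∈ sums (l ++ l.map tc)) : False := by
  have h' : ∀ x ∈ l ++ l.map tc, x ∈ B.E := by
    intro x hx
    rcases List.mem_append.1 hx with hx | hx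
    · exact h x hx
    · obtain ⟨y, hy, rfl⟩ := List.mem_map.1 hx
      exact B.E_tc (h y hy)
  exact B.not_om_jj (B.mem_sums h' _ hd.1) (B.mem_sums h' _ hd.2)

include B in
/-- L1 in this case: `u` dies in every abelian quotient. -/
theorem u_dies {K : Type*} [CommGroup K] (ψ : ↥(c.S : Subgroup G) →* K) : ψ ⟨c.u, c.uS⟩ = 1 := by
  by_contra hne
  obtain ⟨g, hg, hgu, -⟩ := c.exists_leave B.noMove ψ hne
  obtain ⟨b, hb, hbb⟩ := B.root (1, 0)
  refine hgu ?_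
  rw [← B.pt_10, ← hbb, show g * (b * b) * g⁻¹ = g * b * g⁻¹ * (g * b * g⁻¹) by group]
  exact c.sq_mem_T (hg b (B.AG_T hb))

end BigCase

end CfsgLib.Nonconn
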