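import Cfsg.Agent.Lib.Nonconn.Big

/-!
Subsets of the kernel with one involution square are cyclic over `U`; geometric sums with ratio one mod four.

Blueprint: `blueprint/S0503.md`, case A16.
-/

set_option autoImplicit false
set_option linter.unusedSectionVars false

namespace CfsgLib.Nonconn

open Subgroup MacWilliams Finset

variable {G : Type*} [Group G] [Finite G]

namespace BigCase

variable {c : Ctx G} (B : BigCase c)
include B

theorem D_AG {x b : G} (hx : B.Mu x 0) (hb : b ∈ B.AG) : x * b = b * x := by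
  obtain ⟨v, hv⟩ := B.pt_surj (B.AG_sq hb)
  have e := B.act hx hb hv.symm
  rw [app_zero, B.pt_zero, one_mul] at e
  exact mul_inv_eq_iff_eq_mul.1 e

/-- Cyclic modulo `U`. -/
theorem exists_cyclic (P : G → Prop) {w : G} (hμ : ∀ x, P x → B.Mu x 0) (hU : ∀ e ∈ c.U, P e)
    (hmul : ∀ x y, P x → P y → x * y = y * x → P (x * y)) (hinv : ∀ x, P x → P x⁻¹)
    (h4 : ∀ x, P x → x ^ 4 = 1 → x * x = 1 ∨ x * x = w) (hex : ∃ x, P x ∧ x * x ≠ 1) :
    ∃ (k : ℕ) (g : G), P g ∧ g ^ 2 ^ (k + 1) = w ∧ orderOf g = 2 ^ (k + 2) ∧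
      ∀ x, P x → ∃ (i : ℤ), ∃ e ∈ c.U, x = g ^ i * e := by
  classical
  haveI := Fact.mk Nat.prime_two
  have hpow : ∀ {x}, P x → ∀ n : ℕ, P (x ^ n) := fun {x} hx n => by
    induction n with
    | zero => rw [pow_zero]; exact hU 1 (one_mem _)
    | succ n ih => rw [pow_succ]; exact hmul _ _ ih hx ((Commute.refl x).pow_left n).eq
  have hzpow : ∀ {x}, P x → ∀ n : ℤ, P (x ^ n) := fun {x} hx n => by
    cases n with
    | ofNat n => simpa using hpow hx n
    | negSucc n => simpa using hinv _ (hpow hx (n + 1))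
  obtain ⟨g, hg, hmax⟩ := Set.exists_max_image {x | P x} orderOf (Set.toFinite _) ⟨1, hU 1 (one_mem _)⟩
  have hp : ∀ {x}, P x → ∃ n, orderOf x = 2 ^ n := fun {x} hx => by
    obtain ⟨n, hn⟩ := IsPGroup.iff_orderOf.1 c.S.2 ⟨x, c.T_le (B.mu_T (hμ x hx))⟩
    exact ⟨n, (orderOf_mk x _).symm.trans hn⟩
  obtain ⟨n, hn⟩ := hp hg
  obtain ⟨k, rfl⟩ : ∃ k, n = k + 2 := by
    obtain ⟨x, hx, hxx⟩ := hex
    obtain ⟨m, hm⟩ := hp hx
    have hm2 : 2 ≤ m := by
      by_contra hlt
      have h1 : x ^ 2 = 1 := orderOf_dvd_iff_pow_eq_one.1 (by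
        rw [hm]; exact pow_dvd_pow 2 (show m ≤ 1 by omega))
      exact hxx (by rwa [← pow_two])
    have := hmax x hx
    rw [hn, hm, Nat.pow_le_pow_iff_right (by norm_num)] at this
    exact ⟨n - 2, by omega⟩
  have hw : g ^ 2 ^ (k + 1) = w := by
    have h1 : (g ^ 2 ^ k) ^ 4 = 1 := by
      rw [← pow_mul, show 2 ^ k * 4 = 2 ^ (k + 2) by ring, ← hn, pow_orderOf_eq_one]
    have e : g ^ 2 ^ k * g ^ 2 ^ k = g ^ 2 ^ (k + 1) := by rw [← pow_add]; ring_nf
    rcases h4 _ (hpow hg _) h1 with h | h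
    · exfalso
      rw [e] at h
      have := orderOf_dvd_of_pow_eq_one h
      rw [hn, Nat.pow_dvd_pow_iff_le_right (by norm_num)] at this
      omega
    · rwa [e] at h
  refine ⟨k, g, hg, hw, hn, fun x hx => ?_⟩
  obtain ⟨j, hj⟩ := c.S.2 ⟨x, c.T_le (B.mu_T (hμ x hx))⟩
  have hj' : x ^ 2 ^ j = 1 := congrArg Subtype.val hj
  clear hj
  induction j generalizing x with
  | zero => exact ⟨0, 1, one_mem _, by rw [zpow_zero, one_mul]; simpa using hj'⟩
  | succ j ih =>
    obtain ⟨i, e, he, hxx⟩ := ih (x * x) (hmul _ _ hx hx rfl) (by rw [← pow_two, ← pow_mul, ← pow_succ']; exact hj')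
    rcases Int.even_or_odd i with ⟨q, rfl⟩ | ⟨q, rfl⟩
    · have hxT : x ∈ c.T := B.mu_T (hμ x hx)
      set p := g ^ q with hpdef
      have hpP : P p := hzpow hg q
      have hpT : p ∈ c.T := B.mu_T (hμ p hpP)
      have hpp : g ^ (q + q) = p * p := zpow_add g q q
      rw [hpp] at hxx
      have hpi : p * p = x * x * e := by rw [hxx, mul_assoc, c.U_sq he, mul_one]
      -- the conjugate of the half power has the same square
      have hconj : x * p * x⁻¹ * (x * p * x⁻¹) = p * p := by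
        rw [show x * p * x⁻¹ * (x * p * x⁻¹) = x * (p * p) * x⁻¹ by group, hpi]
        rw [show x * (x * x * e) = (x * x) * (x * e) by group, c.T_U hxT he]; group
      have hf : p⁻¹ * (x * p * x⁻¹) ∈ c.U := B.sq_eq (hμ p hpP) (B.mu_conj (hμ p hpP) hxT) hconj.symm
      set f := p⁻¹ * (x * p * x⁻¹) with hfdef
      have hxp : x * p⁻¹ = p⁻¹ * f * x := by
        have : x * p = p * f * x := by rw [hfdef]; group
        calc x * p⁻¹ = (p * f)⁻¹ * (p * f * x) * p⁻¹ := by group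
          _ = (p * f)⁻¹ * x := by rw [← this]; group
          _ = p⁻¹ * f * x := by
            rw [mul_inv_rev, inv_of_sq (c.U_sq hf), c.T_U (inv_mem hpT) hf]
      set r := p⁻¹ * x with hr
      have hrr : r * r ∈ c.U := by
        have : r * r = p⁻¹ * p⁻¹ * f * (x * x) := by
          rw [hr, show p⁻¹ * x * (p⁻¹ * x) = p⁻¹ * (x * p⁻¹) * x by group, hxp]; group
        rw [this, mul_assoc, ← c.T_U (mul_mem hxT hxT) hf, hxx,
          show p⁻¹ * p⁻¹ * (p * p * e * f) = e * f by group]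
        exact mul_mem he hf
      have hrμ : B.Mu r 0 := by simpa using B.mu_mul (B.mu_inv (hμ p hpP)) (hμ x hx)
      have hr4 : r ^ 4 = 1 := by
        rw [show r ^ 4 = r * r * (r * r) by simp [pow_succ, mul_assoc], c.U_sq hrr]
      have hrA : r ∈ B.AG := B.order_four hrμ hr4
      have hpr : p * r = r * p := B.D_AG (hμ p hpP) hrA
      have hcomm : p⁻¹ * x = x * p⁻¹ := by
        calc p⁻¹ * x = (p * r) * p⁻¹ := by rw [hpr, mul_inv_cancel_right, hr]
          _ = x * p⁻¹ := by rw [hr]; group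
      have hrP : P r := hmul _ _ (hinv _ hpP) hx hcomm
      rcases h4 r hrP hr4 with h | h
      · refine ⟨q, r, B.inv_U hrμ h, ?_⟩
        rw [hr, ← hpdef]; group
      · have hu : (g ^ 2 ^ k)⁻¹ * r ∈ c.U := B.sq_eq (hμ _ (hpow hg _)) hrμ (by
          rw [h, ← hw, ← pow_add]; ring_nf)
        refine ⟨q + (2 ^ k : ℕ), (g ^ 2 ^ k)⁻¹ * r, hu, ?_⟩
        rw [zpow_add, zpow_natCast, ← hpdef, hr]; group
    · exfalso
      obtain ⟨m, hm⟩ := hp hx
      have hle := hmax x hx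
      rw [hn, hm, Nat.pow_le_pow_iff_right (by norm_num)] at hle
      have h1 : x ^ 2 ^ (k + 2) = 1 := orderOf_dvd_iff_pow_eq_one.1 (by rw [hm]; exact pow_dvd_pow 2 hle)
      have he2 : e ^ 2 ^ (k + 1) = 1 := by rw [pow_succ', pow_mul, pow_two, c.U_sq he, one_pow]
      rw [pow_succ', pow_mul, pow_two, hxx,
        (show Commute (g ^ (2 * q + 1)) e from c.T_U (zpow_mem (B.mu_T (hμ g hg)) _) he).mul_pow, he2, mul_one,
        ← zpow_natCast, ← zpow_mul, ← orderOf_dvd_iff_zpow_eq_one, hn] at h1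
      push_cast at h1
      rw [show ((2 : ℤ) ^ (k + 2)) = 2 ^ (k + 1) * 2 by ring, mul_comm (2 * q + 1)] at h1
      have := Int.dvd_of_mul_dvd_mul_left (by positivity) h1
      omega

end BigCase

/-- Geometric sums. -/
def geom (l : ℤ) (n : ℕ) : ℤ := ∑ i ∈ range n, l ^ i

theorem geom_succ (l : ℤ) (n : ℕ) : geom l (n + 1) = 1 + l * geom l n := by
  rw [geom, sum_range_succ', geom, Finset.mul_sum, add_comm]
  simp [pow_succ', add_comm]

theorem geom_double (l : ℤ) (n : ℕ) : geom l (2 * n) = geom l n * (1 + l ^ n) := by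
  rw [geom, two_mul, sum_range_add, mul_add, mul_one, geom]
  congr 1
  rw [Finset.sum_mul]
  exact sum_congr rfl fun i _ => by rw [pow_add, mul_comm]

/-- For a ratio one mod four the sum has the two-part of its length. -/
theorem geom_two_part {l : ℤ} (hl : 4 ∣ l - 1) : ∀ (j m : ℕ), Odd m → ∃ o : ℤ, Odd o ∧ geom l (2 ^ j * m) = 2 ^ j * o
  | 0, m, hm => by
    refine ⟨geom l m, ?_, by simp⟩
    have h1 : ∀ n : ℕ, (2 : ℤ) ∣ geom l n - n := by
      intro n
      induction n with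
      | zero => simp [geom]
      | succ n ih =>
        rw [geom_succ]
        obtain ⟨a, ha⟩ := ih
        obtain ⟨b, hb⟩ := hl
        exact ⟨a + 2 * b * geom l n, by push_cast; linear_combination ha + geom l n * hb⟩
    obtain ⟨a, ha⟩ := h1 m
    obtain ⟨b, hb⟩ := hm
    exact ⟨a + b, by rw [show geom l m = m + 2 * a by linarith, hb]; push_cast; ring⟩
  | j + 1, m, hm => by
    obtain ⟨o, ho, hs⟩ := geom_two_part hl j m hm
    obtain ⟨b, hb⟩ : (4 : ℤ) ∣ l ^ (2 ^ j * m) - 1 := hl.trans (sub_one_dvd_pow_sub_one l _)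
    refine ⟨o * (2 * b + 1), ho.mul ⟨b, rfl⟩, ?_⟩
    rw [show 2 ^ (j + 1) * m = 2 * (2 ^ j * m) by ring, geom_double, hs,
      show l ^ (2 ^ j * m) = 4 * b + 1 by linarith]
    ring

end CfsgLib.Nonconn
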