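import Cfsg.Agent.Lib.Nonconn.Invertible

/-!
Elementary subgroups of order sixteen: two of them would be interchanged, which the fusion forbids.

Blueprint: `blueprint/S0503.md`, case A16, B lemma.
-/

set_option autoImplicit false
set_option linter.unusedSectionVars false
set_option maxRecDepth 8000
set_option synthInstance.maxSize 1024

namespace CfsgLib.Nonconn

open Subgroup MacWilliams

variable {G : Type*} [Group G] [Finite G]

theorem fixed_two : ∀ a b : M4, tc a = a → tc b = b → a ≠ 0 → b ≠ 0 → a ≠ jj → b ≠ jj → a ≠ b → a + b = jj := by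
  decide +kernel

/-- The subgroup generated by the other involutions lying in the span of the conjugates of `z`. -/
def Ctx.span (c : Ctx G) (X : Subgroup G) : Subgroup G :=
  closure {x | x ∈ X ∧ ¬ IsConj x c.z ∧ x ∈ closure {w | w ∈ X ∧ IsConj w c.z}}

theorem Ctx.span_map (c : Ctx G) (X : Subgroup G) (g : G) :
    c.span (X.map (MulAut.conj g).toMonoidHom) ≤ (c.span X).map (MulAut.conj g).toMonoidHom := by
  set f := (MulAut.conj g).toMonoidHom with hf
  have hconj : ∀ x : G, IsConj x (f x) := fun x => isConj_iff.2 ⟨g, rfl⟩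
  refine (closure_le _).2 ?_
  rintro _ ⟨⟨x, hx, rfl⟩, hxz, hcl⟩
  refine mem_map_of_mem f (subset_closure ⟨hx, fun h => hxz ((hconj x).symm.trans h), ?_⟩)
  have hle : closure {w | w ∈ X.map f ∧ IsConj w c.z} ≤ (closure {w | w ∈ X ∧ IsConj w c.z}).map f := by
    refine (closure_le _).2 ?_
    rintro _ ⟨⟨w, hw, rfl⟩, hwz⟩
    exact mem_map_of_mem f (subset_closure ⟨hw, (hconj w).trans hwz⟩)
  obtain ⟨x', hx', e⟩ := hle hcl
  rwa [← (MulEquiv.injective (MulAut.conj g)) e]

namespace BigCase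

variable {c : Ctx G} (B : BigCase c)
include B

/-- An elementary subgroup of order sixteen lies in `T`. -/
theorem elem_le_T {X : Subgroup G} (hXS : X ≤ (c.S : Subgroup G)) (h2 : ∀ x ∈ X, x * x = 1)
    (h16 : 16 ≤ Nat.card X) : X ≤ c.T := by
  classical
  intro s hs
  by_contra hsT
  have hcomm : ∀ x ∈ X, x * s = s * x := fun x hx => by
    calc x * s = (x * s)⁻¹ := (inv_of_sq (h2 _ (mul_mem hx hs))).symm
      _ = s * x := by rw [_root_.mul_inv_rev, inv_of_sq (h2 x hx), inv_of_sq (h2 s hs)]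
  let Y := X ⊓ c.T
  let φ : X → Bool × Y := fun x => if h : (x : G) ∈ c.T then (false, ⟨x, x.2, h⟩)
    else (true, ⟨x * s, mul_mem x.2 hs, c.mul_outer (hXS x.2) (hXS hs) h hsT⟩)
  have hφ : Function.Injective φ := by
    intro a b h
    simp only [φ] at h
    split_ifs at h with ha hb hb
    · exact Subtype.ext (congrArg (fun p => ((p.2 : Y) : G)) h :)
    · simp at h
    · simp at h
    · exact Subtype.ext (mul_right_cancel (congrArg (fun p => ((p.2 : Y) : G)) h :))
  have hhalf := Nat.card_le_card_of_injective φ hφ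
  rw [Nat.card_prod, Nat.card_eq_fintype_card (α := Bool), Fintype.card_bool] at hhalf
  have hfix : ∀ M ∈ B.img Y, tc M = M ∧ M ≠ jj := fun M ⟨x, hx, hM⟩ =>
    ⟨B.tc_eq_of_comm hM (hXS hs) hsT (hcomm x hx.1).symm,
      fun e => B.not_norm_jj (e ▸ hM) (by rw [h2 x hx.1, one_mul])⟩
  have himg : Nat.card (B.img Y) ≤ 2 := by
    refine (Nat.card_le_card_of_injective (fun M : B.img Y => decide (M.1 = 0)) fun a b e => ?_).trans (by simp)
    simp only [decide_eq_decide] at e
    apply Subtype.ext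
    by_cases ha : a.1 = 0
    · rw [ha, e.1 ha]
    by_contra hne
    obtain ⟨ta, ja⟩ := hfix _ a.2
    obtain ⟨tb, jb⟩ := hfix _ b.2
    exact (hfix _ (add_mem a.2 b.2)).2 (fixed_two _ _ ta tb ha (fun h => ha (e.2 h)) ja jb hne)
  let K := c.U ⊓ centralizer ({s} : Set G)
  have hK : Nat.card K ≤ 2 := by
    have hKm : ∀ x ∈ K, x = 1 ∨ x = c.z := by
      rintro x ⟨hxU, hxs⟩
      have e := mem_centralizer_singleton_iff.1 hxs
      have ho := c.outer (hXS hs) hsT
      rcases hxU with h | h | h | h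
      · exact Or.inl h
      · exact Or.inr h
      · exfalso
        subst h
        rw [← e, mul_inv_cancel_right] at ho
        exact c.uz_ne_u ho.symm
      · exfalso
        subst h
        have h1 : s * (c.u * c.z) * s⁻¹ = c.u := by
          rw [show s * (c.u * c.z) * s⁻¹ = (s * c.u * s⁻¹) * (s * c.z * s⁻¹) by group, ho,
            c.zc s (hXS hs), mul_inv_cancel_right, mul_assoc, c.zz, mul_one]
        rw [← e, mul_inv_cancel_right] at h1
        exact c.uz_ne_u h1
    refine (Nat.card_le_card_of_injective (fun x : K => decide (x.1 = 1)) fun a b e => ?_).trans (by simp)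
    simp only [decide_eq_decide] at e
    apply Subtype.ext
    rcases hKm _ a.2 with ha | ha <;> rcases hKm _ b.2 with hb | hb
    · rw [ha, hb]
    · rw [ha, e.1 ha]
    · rw [hb, e.2 hb]
    · rw [ha, hb]
  have hY := B.card_le_img (X := Y) inf_le_right (K := K) fun x hx h =>
    ⟨B.inv_U h (h2 x hx.1), mem_centralizer_singleton_iff.2 (hcomm x hx.1)⟩
  have hm := Nat.mul_le_mul himg hK
  omega

/-- An elementary subgroup of order sixteen contains `U`. -/
theorem U_le_elem {X : Subgroup G} (hXS : X ≤ (c.S : Subgroup G)) (h2 : ∀ x ∈ X, x * x = 1)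
    (h16 : 16 ≤ Nat.card X) : c.U ≤ X := by
  have hXT := B.elem_le_T hXS h2 h16
  have h := B.card_le_img hXT (K := X ⊓ c.U) fun x hx h => ⟨hx, B.inv_U h (h2 x hx)⟩
  have hi := B.card_img_le (X := X) fun x hx h' => B.not_norm_jj h' (by rw [h2 x hx, one_mul])
  have hm := Nat.mul_le_mul_right (Nat.card ↥(X ⊓ c.U)) hi
  have hle : 4 ≤ Nat.card ↥(X ⊓ c.U) := by omega
  exact (eq_of_le_of_card_ge inf_le_right (c.card_U.symm ▸ hle)) ▸ inf_le_left

/-- Cosets of `U` outside it are monochrome. -/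
theorem mono (hrank : ∀ b : G, c.Cand b → 32 ≤ Nat.card (c.C b) → ∀ R, B.Mu b R → (∀ v, app R v = 0 → v = 0))
    {X : Subgroup G} (hXS : X ≤ (c.S : Subgroup G)) (h2 : ∀ x ∈ X, x * x = 1) (h16 : 16 ≤ Nat.card X)
    {b : G} (hb : b ∈ X) (hbU : b ∉ c.U) (hbz : IsConj b c.z) {e : G} (he : e ∈ c.U) :
    IsConj (b * e) c.z := by
  haveI := Fact.mk Nat.prime_two
  have hXT := B.elem_le_T hXS h2 h16
  have hcand : c.Cand b := ⟨hXS hb, fun h => hbU (h ▸ c.zU), hbz⟩
  obtain ⟨R, hR⟩ := B.exists_mu (hXT hb)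
  have hinv : ∀ v, app R v = 0 → v = 0 := by
    intro v hv
    by_contra hv0
    obtain ⟨r, hr, hrr⟩ := B.root v
    have hact := B.act hR hr hrr
    rw [hv, B.pt_zero, one_mul] at hact
    have hXC : X ≤ c.C b := fun x hx => c.mem_C.2 ⟨hXS hx, by
      calc x * b = (x * b)⁻¹ := (inv_of_sq (h2 _ (mul_mem hx hb))).symm
        _ = b * x := by rw [_root_.mul_inv_rev, inv_of_sq (h2 x hx), inv_of_sq (h2 b hb)]⟩
    have hrC : r ∈ c.C b := c.mem_C.2 ⟨B.AG_le hr, (mul_inv_eq_iff_eq_mul.1 hact).symm⟩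
    have hrX : r ∉ X := fun h => hv0 (B.pt_eq_one.1 (hrr.symm.trans (h2 r h)))
    have hlt : 16 < Nat.card (c.C b) := by
      refine lt_of_le_of_lt h16 (lt_of_le_of_ne (card_le_of_le hXC) fun heq => hrX ?_)
      rwa [eq_of_le_of_card_ge hXC heq.ge]
    obtain ⟨k, hk⟩ : ∃ k, Nat.card (c.C b) = 2 ^ k :=
      IsPGroup.iff_card.1 (c.S.2.to_le (inf_le_left : c.C b ≤ (c.S : Subgroup G)))
    have h32 : 32 ≤ Nat.card (c.C b) := by
      rw [hk] at hlt ⊢
      by_contra h
      have hk4 : k ≤ 4 := by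
        by_contra h'
        exact h ((show (32 : ℕ) = 2 ^ 5 by norm_num) ▸ Nat.pow_le_pow_right two_pos (by omega))
      have := Nat.pow_le_pow_right two_pos hk4
      omega
    exact hv0 (hrank b hcand h32 R hR v hv)
  obtain ⟨v, hv⟩ := B.pt_surj he
  obtain ⟨w, hw⟩ := surj_of_inv R hinv v
  obtain ⟨r, hr, hrr⟩ := B.root w
  have := B.act_right hR hr hrr
  rw [hw, hv] at this
  exact (isConj_iff.2 ⟨r, this⟩).symm.trans hbz

/-- The invertible case is impossible. -/
theorem false_of_inv (D : InvCase B) : False := by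
  obtain ⟨h16, hexp, hab, hrank⟩ := B.exists_sixteen D
  obtain ⟨g, hgy, hgC⟩ := c.extremal D.top.1.1 D.top.1.2.2
  set f := (MulAut.conj g).toMonoidHom with hf
  have hPS : D.P ≤ (c.S : Subgroup G) := D.P_le.trans c.T_le
  have hS1 : D.P.map f ≤ (c.S : Subgroup G) := by
    rintro _ ⟨x, hx, rfl⟩
    exact hgC x (hPS hx) (D.P_comm hx)
  have h21 : ∀ x ∈ D.P.map f, x * x = 1 := by
    rintro _ ⟨x, hx, rfl⟩
    rw [← map_mul, hexp x hx, map_one]
  have h161 : 16 ≤ Nat.card (D.P.map f) := by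
    rwa [card_map_of_injective (MulEquiv.injective (MulAut.conj g))]
  have hz : c.z ∈ c.span (D.P.map f) := by
    have hyu : IsConj (g * (D.y * c.u) * g⁻¹) c.z :=
      (isConj_iff.2 ⟨g, rfl⟩).symm.trans (D.coset c.uU)
    set b := g * (D.y * c.u) * g⁻¹ with hbdef
    have hb : b ∈ D.P.map f := ⟨_, mul_mem D.yP (D.UP c.uU), rfl⟩
    have hbz : b ≠ c.z := fun h => c.u1 (by
      have h' := mul_left_cancel (mul_right_cancel ((hbdef.symm.trans h).trans hgy.symm))
      exact mul_eq_left.1 h')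
    have hbU : b ∉ c.U := by
      rintro (h | h | h | h)
      · exact c.z1 (isConj_one_right.1 (h ▸ hyu))
      · exact hbz h
      · exact B.noMove (h ▸ hyu)
      · exact B.noMove (c.uz_conj.symm.trans (h ▸ hyu))
    have hmem : ∀ e ∈ c.U, ¬ IsConj e c.z → e ∈ c.span (D.P.map f) := fun e he hne => by
      refine subset_closure ⟨B.U_le_elem hS1 h21 h161 he, hne, ?_⟩
      have h1 : b * (b * e) = e := by rw [← mul_assoc, h21 b hb, one_mul]
      rw [← h1]
      exact mul_mem (subset_closure ⟨hb, hyu⟩) (subset_closure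
        ⟨mul_mem hb (B.U_le_elem hS1 h21 h161 he), B.mono hrank hS1 h21 h161 hb hbU hyu he⟩)
    have := mul_mem (hmem _ c.uU B.noMove)
      (hmem _ (mul_mem c.uU c.zU) fun h => B.noMove (c.uz_conj.symm.trans h))
    rwa [← mul_assoc, c.uu, one_mul] at this
  obtain ⟨x, hx, hxz⟩ := c.span_map D.P g hz
  obtain rfl : x = D.y := mul_left_cancel (mul_right_cancel (hxz.trans hgy.symm))
  clear hxz
  -- `y` is outside the span in `P`
  by_cases hall : ∀ w ∈ D.P, ¬ IsConj w c.z → w ∈ closure {w | w ∈ D.P ∧ IsConj w c.z} → w ∈ c.U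
  · exact D.yU ((closure_le _).2 (fun w hw => hall w hw.1 hw.2.1 hw.2.2) hx)
  push Not at hall
  obtain ⟨w, hwP, hwz, hwcl, hwU⟩ := hall
  obtain ⟨N, hN⟩ := B.exists_mu (D.P_le hwP)
  have hwF : w ∉ D.F := by
    rintro (h | h)
    · exact hwU h
    · refine hwz ?_
      have e : w = D.y * (w * D.y) := by
        rw [c.T_U D.yT h, mul_assoc, D.yy, mul_one]
      exact e ▸ D.coset h
  have h0 : N ≠ 0 := fun e => hwU (B.inv_U (e ▸ hN) (hexp w hwP))
  have hM : N ≠ D.M := fun e => hwF (Or.inr (B.inv_U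
    (by simpa [e, m4_self_add] using B.mu_mul hN D.mu) (hexp _ (mul_mem hwP D.yP))))
  have hcases : ∀ x ∈ D.P, ∀ R, B.Mu x R → R = 0 ∨ R = D.M ∨ R = N ∨ R = N + D.M := by
    rcases D.image_cases with h | ⟨w', N', -, -, -, -, h⟩
    · exact ((h w hwP N hN).elim h0 hM).elim
    · rcases h w hwP N hN with e | e | e | e
      · exact absurd e h0
      · exact absurd e hM
      · subst e; exact h
      · intro x hx R hR
        have e' : N + D.M = N' := by rw [e, add_assoc, m4_self_add, add_zero]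
        rw [e', e]
        rcases h x hx R hR with k | k | k | k
        exacts [Or.inl k, Or.inr (Or.inl k), Or.inr (Or.inr (Or.inr k)), Or.inr (Or.inr (Or.inl k))]
  have hcos := D.P_comm_all hwP hN hcases
  have hH : c.span D.P ≤ c.pair w (D.P_le hwP) (hexp w hwP) := by
    refine (closure_le _).2 ?_
    rintro p ⟨hp, hpz, -⟩
    rcases hcos p hp with ⟨e, he, rfl⟩ | ⟨e, he, rfl⟩ | ⟨e, he, rfl⟩ | ⟨e, he, rfl⟩
    · exact Or.inl he
    · exact absurd (D.coset he) hpz
    · refine Or.inr ?_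
      rw [show w * e * w = w * (e * w) by group, ← c.T_U (D.P_le hwP) he, ← mul_assoc, hexp w hwP, one_mul]
      exact he
    · exfalso
      refine hwF ((closure_le _).2 ?_ hwcl)
      rintro q ⟨hq, hqz⟩
      rcases hcos q hq with ⟨k, hk, rfl⟩ | ⟨k, hk, rfl⟩ | ⟨k, hk, rfl⟩ | ⟨k, hk, rfl⟩
      · exact Or.inl hk
      · refine Or.inr ?_
        rw [show D.y * k * D.y = D.y * (k * D.y) by group, ← c.T_U D.yT hk, ← mul_assoc, D.yy, one_mul]
        exact hk
      · refine absurd ?_ hwz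
        have h' := B.mono hrank hPS hexp h16 hq (fun h => hwU (by simpa using mul_mem h (inv_mem hk))) hqz hk
        rwa [mul_assoc, c.U_sq hk, mul_one] at h'
      · refine absurd ?_ hpz
        have hqU : D.y * (w * k) ∉ c.U := fun h => hwF (by
          have h3 := mul_mem h (inv_mem hk)
          rw [show D.y * (w * k) * k⁻¹ = D.y * w by group, hab _ D.yP _ hwP] at h3
          exact Or.inr h3)
        have h' := B.mono hrank hPS hexp h16 hq hqU hqz (mul_mem hk he)
        rwa [show D.y * (w * k) * (k * e) = D.y * (w * (k * k * e)) by group, c.U_sq hk, one_mul] at h'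
  rcases hH hx with h | h
  · exact D.yU h
  · refine hwF (Or.inr ?_)
    rwa [hab _ hwP _ D.yP]

end BigCase

end CfsgLib.Nonconn
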