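import Cfsg.Agent.Lib.Nonconn.Pairs

/-!
Images of subgroups of `T` and the reduction to invertible endomorphisms.

Blueprint: `blueprint/S0503.md`, case A16.
-/

set_option autoImplicit false
set_option linter.unusedSectionVars false
set_option maxRecDepth 8000
set_option synthInstance.maxSize 1024

namespace CfsgLib.Nonconn

open Subgroup MacWilliams

variable {G : Type*} [Group G] [Finite G]

theorem inv_or_line : ∀ M : M4, app M (1, 1) ≠ 0 →
    (∀ v, app M v = 0 → v = 0) ∨ app M (1, 0) = 0 ∨ app (tc M) (1, 0) = 0 := by decide +kernel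

theorem tc_move : ∀ M : M4, app M (1, 1) ≠ 0 → app (tc M) (1, 1) ≠ 0 := by decide +kernel

/-- Membership in `U ∪ x U`. -/
def Ctx.pair (c : Ctx G) (x : G) (hxT : x ∈ c.T) (hxx : x * x = 1) : Subgroup G where
  carrier := {p | p ∈ c.U ∨ p * x ∈ c.U}
  one_mem' := Or.inl (one_mem _)
  mul_mem' := by
    rintro p q (hp | hp) (hq | hq)
    · exact Or.inl (mul_mem hp hq)
    · exact Or.inr (by rw [mul_assoc]; exact mul_mem hp hq)
    · refine Or.inr ?_
      have e : p * q * x = p * x * q := by rw [mul_assoc, ← c.T_U hxT hq, ← mul_assoc]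
      rw [e]; exact mul_mem hp hq
    · refine Or.inl ?_
      have e : p * q = p * x * (q * x) := by
        have h1 : x * (q * x) = q * x * x := c.T_U hxT hq
        rw [mul_assoc, h1, mul_assoc q, hxx, mul_one]
      rw [e]; exact mul_mem hp hq
  inv_mem' := by
    rintro p (hp | hp)
    · exact Or.inl (inv_mem hp)
    · refine Or.inr ?_
      have e : p⁻¹ * x = (p * x)⁻¹ := by
        have h1 : x * (p * x) = p * x * x := c.T_U hxT hp
        rw [mul_assoc p, hxx, mul_one] at h1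
        calc p⁻¹ * x = p⁻¹ * (x * (p * x)) * (p * x)⁻¹ := by group
          _ = _ := by rw [h1, inv_mul_cancel, one_mul]
      rw [e]; exact inv_mem hp

theorem Ctx.mem_pair (c : Ctx G) {x : G} {hxT : x ∈ c.T} {hxx : x * x = 1} {p : G} :
    p ∈ c.pair x hxT hxx ↔ p ∈ c.U ∨ p * x ∈ c.U := Iff.rfl

namespace BigCase

variable {c : Ctx G} (B : BigCase c)

/-- A maximal candidate moving the roots of `z` acts invertibly. -/
theorem inv_of_top {y : G} {M : M4} (hy : c.Top y) (hM : B.Mu y M) (hj : app M (1, 1) ≠ 0) :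
    ∀ v, app M v = 0 → v = 0 := by
  rcases inv_or_line M hj with h | h | h
  · exact h
  · exact ((B.lineCase hy hM h hj).elim fun L => L.false_of).elim
  · exact ((B.lineCase (Ctx.Top.conj c hy c.tS) (B.mu_swap hM c.tS c.tT) h (tc_move M hj)).elim
      fun L => L.false_of).elim

/-- The endomorphisms of a subgroup. -/
def img (X : Subgroup G) : AddSubgroup M4 where
  carrier := {M | ∃ x ∈ X, B.Mu x M}
  zero_mem' := ⟨1, one_mem _, B.mu_one⟩
  add_mem' := fun ⟨x, hx, hx'⟩ ⟨y, hy, hy'⟩ => ⟨x * y, mul_mem hx hy, B.mu_mul hx' hy'⟩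
  neg_mem' := fun {M} ⟨x, hx, hx'⟩ => ⟨x, hx, by
    rwa [show -M = M from neg_eq_of_add_eq_zero_left (m4_self_add M)]⟩

theorem mem_img {X : Subgroup G} {x : G} {M : M4} (hx : x ∈ X) (h : B.Mu x M) : M ∈ B.img X := ⟨x, hx, h⟩

/-- An image avoiding `jj` has at most four elements. -/
theorem card_img_le {X : Subgroup G} (hj : ∀ x ∈ X, ¬ B.Mu x jj) : Nat.card (B.img X) ≤ 4 := by
  by_contra h
  push Not at h
  have hle : B.img X ≤ B.E := fun M ⟨x, _, hx⟩ => ⟨x, hx⟩
  have hd := (AddSubgroup.card_addSubgroup_dvd_card (B.img X))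
  rw [card_m4] at hd
  obtain ⟨k, hk, hk'⟩ := (Nat.dvd_prime_pow Nat.prime_two).1 (show Nat.card (B.img X) ∣ 2 ^ 4 from hd)
  have h8 : 8 ≤ Nat.card (B.img X) := by
    rw [hk'] at h ⊢
    rcases Nat.lt_or_ge k 3 with hlt | hge
    · interval_cases k <;> omega
    · exact le_trans (by norm_num) (Nat.pow_le_pow_right two_pos hge)
  have hE8 : 8 ≤ Nat.card B.E := h8.trans
    (Nat.card_le_card_of_injective (fun x : B.img X => (⟨x.1, hle x.2⟩ : B.E))
      fun a b e => Subtype.ext (congrArg Subtype.val e :))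
  have hjjE : jj ∈ B.E := jj_mem_of_invariant hE8 fun M hM => B.E_tc hM
  have hom : om ∈ B.E := by
    rcases eq_top_or_card_le (S := B.E) with ht | hc
    · rw [ht]; exact AddSubgroup.mem_top _
    · have heq : B.img X = B.E := AddSubgroup.eq_of_le_of_card_ge hle (hc.trans h8)
      obtain ⟨x, hx, hx'⟩ := (heq.symm ▸ hjjE : jj ∈ B.img X)
      exact absurd hx' (hj x hx)
  exact B.not_om_jj hom hjjE

/-- A subgroup of `T` against its image and its kernel. -/
theorem card_le_img {X : Subgroup G} (hX : X ≤ c.T) {K : Subgroup G} (hK : ∀ x ∈ X, B.Mu x 0 → x ∈ K) :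
    Nat.card X ≤ Nat.card (B.img X) * Nat.card K := by
  classical
  have hσ : ∀ M : B.img X, ∃ x : X, B.Mu (x : G) M.1 := fun M => by
    obtain ⟨x, hx, hx'⟩ := M.2
    exact ⟨⟨x, hx⟩, hx'⟩
  choose σ hσ' using hσ
  choose μ hμ using fun x : X => B.exists_mu (hX x.2)
  let f : X → B.img X × K := fun x => (⟨μ x, B.mem_img x.2 (hμ x)⟩,
    ⟨(σ ⟨μ x, B.mem_img x.2 (hμ x)⟩ : G)⁻¹ * x, hK _ (mul_mem (inv_mem (σ _).2) x.2) (by
      have h0 := B.mu_mul (B.mu_inv (hσ' ⟨μ x, B.mem_img x.2 (hμ x)⟩)) (hμ x)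
      rwa [m4_self_add] at h0)⟩)
  have hf : Function.Injective f := by
    intro a b h
    obtain ⟨h1, h2⟩ := Prod.ext_iff.1 h
    have h2' := congrArg Subtype.val h2
    simp only [f] at h1 h2'
    rw [h1] at h2'
    exact Subtype.ext (mul_left_cancel h2')
  exact (Nat.card_le_card_of_injective f hf).trans (by rw [Nat.card_prod])

end BigCase

end CfsgLib.Nonconn
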