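import Cfsg.Agent.Lib.Nonconn.Basic

/-!
A subgroup of index two of the Sylow subgroup avoiding `u`.
-/

set_option autoImplicit false

namespace CfsgLib.Nonconn

open Subgroup

variable {G : Type*} [Group G] [Finite G]

/-- The character of a subgroup of index two avoiding `u`. -/
theorem Ctx.exists_char (c : Ctx G) (K : Subgroup G) (hu : c.u ∉ K)
    (hK : ∀ s ∈ (c.S : Subgroup G), s ∈ K ∨ s * c.u ∈ K) :
    ∃ ψ : ↥(c.S : Subgroup G) →* Multiplicative (ZMod 2), ψ ⟨c.u, c.uS⟩ ≠ 1 := by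
  classical
  let K' := K.subgroupOf (c.S : Subgroup G)
  have h2 : K'.index = 2 := by
    refine index_eq_two_iff.2 ⟨⟨c.u, c.uS⟩, fun b => ?_⟩
    simp only [K', mem_subgroupOf, coe_mul]
    by_cases hb : (b : G) ∈ K
    · exact Or.inr ⟨hb, fun h => hu (by simpa using mul_mem (inv_mem hb) h)⟩
    · exact Or.inl ⟨(hK b b.2).resolve_left hb, hb⟩
  refine ⟨{ toFun := fun s => if s ∈ K' then 1 else Multiplicative.ofAdd 1
            map_one' := by simp [one_mem]
            map_mul' := fun a b => ?_ }, ?_⟩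
  · have h := mul_mem_iff_of_index_two h2 (a := a) (b := b)
    by_cases ha : a ∈ K' <;> by_cases hb : b ∈ K' <;>
      simp [ha, hb, h, show (Multiplicative.ofAdd (1 : ZMod 2)) * Multiplicative.ofAdd 1 = 1 by decide]
  · have : (⟨c.u, c.uS⟩ : ↥(c.S : Subgroup G)) ∉ K' := hu
    simp [this]

end CfsgLib.Nonconn
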