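import Cfsg.Agent.Lib.Nonconn.Image

/-!
A maximal candidate acting invertibly: an elementary group of order sixteen in its centraliser.

Blueprint: `blueprint/S0503.md`, case A16, invertible.
-/

set_option autoImplicit false
set_option linter.unusedSectionVars false
set_option maxRecDepth 8000
set_option synthInstance.maxSize 1024

namespace CfsgLib.Nonconn

open Subgroup MacWilliams

variable {G : Type*} [Group G] [Finite G]

theorem inv_image : ∀ M N : M4, tc M = M → N ≠ 0 → N ≠ M → N + M ≠ jj → N ≠ jj → M ≠ 0 → M ≠ jj →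
    (tc N = 0 ∨ tc N = M ∨ tc N = N ∨ tc N = N + M) → N + tc N = M ∧ tc N = N + M := by decide +kernel

theorem inv_rank : ∀ M V R : M4, tc M = M → M ≠ 0 → M ≠ jj → V + tc V = M → R ≠ 0 → R ≠ jj →
    app R (1, 1) = 0 →
    om ∈ BigCase.sums ([M, V, R] ++ [M, V, R].map tc) ∧ jj ∈ BigCase.sums ([M, V, R] ++ [M, V, R].map tc) := by
  decide +kernel

/-- The data of the invertible case. -/
structure InvCase {c : Ctx G} (B : BigCase c) where
  y : G
  M : M4
  top : c.Top y
  mu : B.Mu y M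
  inv : ∀ v, app M v = 0 → v = 0

namespace InvCase

variable {c : Ctx G} {B : BigCase c} (D : InvCase B)
include D

theorem yT : D.y ∈ c.T := B.mu_T D.mu

theorem yU : D.y ∉ c.U := B.cand_notU D.top.1

theorem yy : D.y * D.y = 1 := Ctx.Cand.sq c D.top.1

theorem M0 : D.M ≠ 0 := B.mu_cand_ne D.top.1 D.mu

theorem M_jj : D.M ≠ jj := fun e => B.not_norm_jj (e ▸ D.mu) (by rw [D.yy, one_mul])

/-- The centraliser in `T`. -/
def P : Subgroup G := c.C D.y ⊓ c.T

theorem P_le : D.P ≤ c.T := inf_le_right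

theorem P_comm {x : G} (hx : x ∈ D.P) : x * D.y = D.y * x := (c.mem_C.1 hx.1).2

theorem mem_P {x : G} (hx : x ∈ c.T) (hxy : x * D.y = D.y * x) : x ∈ D.P := ⟨c.mem_C.2 ⟨c.T_le hx, hxy⟩, hx⟩

theorem yP : D.y ∈ D.P := D.mem_P D.yT rfl

theorem UP {e : G} (he : e ∈ c.U) : e ∈ D.P := D.mem_P (c.U_le he) (c.T_U D.yT he).symm

theorem ker {x : G} (hx : B.Mu x 0) (hxy : x * D.y = D.y * x) : x ∈ c.U := by
  refine B.inv_U hx (by_contra fun hne => ?_)
  obtain ⟨n, v, hn, hnv, hv⟩ := B.power hx hne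
  have e := B.act D.mu hn hnv
  rw [← ((show Commute x D.y from hxy).pow_left n).eq, mul_inv_cancel_right, right_eq_mul, B.pt_eq_one] at e
  exact hv (D.inv v e)

theorem sq_U {x : G} (hx : x ∈ D.P) : x * x ∈ c.U := by
  obtain ⟨N, hN⟩ := B.exists_mu (D.P_le hx)
  exact D.ker (B.mu_sq hN) ((show Commute x D.y from D.P_comm hx).mul_left (D.P_comm hx)).eq

theorem no_jj {x : G} (hx : x ∈ D.P) : ¬ B.Mu x jj := fun h => B.not_norm_jj h (c.U_sq (D.sq_U hx))

theorem img_le : Nat.card (B.img D.P) ≤ 4 := B.card_img_le fun _ hx => D.no_jj hx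

theorem card_P : Nat.card D.P ≤ 16 := by
  refine (B.card_le_img D.P_le (K := c.U) fun x hx h => D.ker h (D.P_comm hx)).trans ?_
  rw [c.card_U]
  exact Nat.mul_le_mul_right 4 D.img_le

/-- Membership in `U ⟨y⟩`. -/
def F : Subgroup G := c.pair D.y D.yT D.yy

theorem mem_F {f : G} : f ∈ D.F ↔ f ∈ c.U ∨ f * D.y ∈ c.U := Iff.rfl

theorem F_sq {f : G} (hf : f ∈ D.F) : f * f = 1 := by
  rcases hf with hf | hf
  · exact c.U_sq hf
  · have e : f = f * D.y * D.y := by rw [mul_assoc, D.yy, mul_one]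
    have h1 : D.y * (f * D.y) = f * D.y * D.y := c.T_U D.yT hf
    rw [e, show f * D.y * D.y * (f * D.y * D.y) = f * D.y * (D.y * (f * D.y)) * D.y by group, h1,
      show f * D.y * (f * D.y * D.y) * D.y = (f * D.y) * (f * D.y) * (D.y * D.y) by group, c.U_sq hf, D.yy, one_mul]

theorem F_le : D.F ≤ D.P := by
  rintro f (hf | hf)
  · exact D.UP hf
  · have := mul_mem (D.UP hf) D.yP
    rwa [mul_assoc, D.yy, mul_one] at this

/-- Every element of `y U` is fused to `z`. -/
theorem coset {e : G} (he : e ∈ c.U) : IsConj (D.y * e) c.z := by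
  obtain ⟨v, hv⟩ := B.pt_surj he
  obtain ⟨w, hw⟩ := surj_of_inv D.M D.inv v
  obtain ⟨b, hb, hbb⟩ := B.root w
  have := B.act_right D.mu hb hbb
  rw [hw, hv] at this
  exact (isConj_iff.2 ⟨b, this⟩).symm.trans D.top.1.2.2

/-- A normaliser keeping `U` inside `U ⟨y⟩` gives a contradiction. -/
theorem five_false (hfix : ∀ n : G, n * D.y = D.y * n → n ∈ normalizer (c.C D.y : Set G) →
    ∀ f ∈ c.U, n * f * n⁻¹ ∈ D.F) : False := by
  obtain ⟨n, hny, hn2, hnP, hnC⟩ := c.exists_n D.top.1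
  have key : ∀ p ∈ c.U, p ≠ 1 → ¬ IsConj p c.z → n * p * n⁻¹ ∈ c.U := by
    intro p hp hp1 hpz
    rcases hfix n hny hnP p hp with h | h
    · exact h
    · exfalso
      refine hpz ?_
      have e : n * p * n⁻¹ = D.y * (n * p * n⁻¹ * D.y) := by
        have h1 : D.y * (n * p * n⁻¹ * D.y) = n * p * n⁻¹ * D.y * D.y := c.T_U D.yT h
        rw [h1, mul_assoc _ D.y, D.yy, mul_one]
      exact ((isConj_iff.2 ⟨n, e⟩) : IsConj p _).trans (D.coset h)
  exact c.no_move D.top D.yT D.yU hny hn2 hnP hnC (c.mem_normalizer_U (key _ c.uU c.u1 B.noMove)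
    (key _ (mul_mem c.uU c.zU) c.uz1 fun h => B.noMove (c.uz_conj.symm.trans h)))

theorem P_invol {x : G} (hx : x ∈ D.P) (hxx : x * x = 1) (h : ∀ N, B.Mu x N → N = 0 ∨ N = D.M) : x ∈ D.F := by
  obtain ⟨N, hN⟩ := B.exists_mu (D.P_le hx)
  rcases h N hN with rfl | rfl
  · exact Or.inl (B.inv_U hN hxx)
  · refine Or.inr (B.inv_U (by simpa [m4_self_add] using B.mu_mul hN D.mu) ?_)
    rw [show x * D.y * (x * D.y) = x * (D.y * x) * D.y by group, ← D.P_comm hx,
      show x * (x * D.y) * D.y = (x * x) * (D.y * D.y) by group, hxx, D.yy, one_mul]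

/-- With image of order two there is no outer involution. -/
theorem false_of_small (hsmall : ∀ x ∈ D.P, ∀ N, B.Mu x N → N = 0 ∨ N = D.M)
    (hout : ∀ s ∈ c.C D.y, s * s = 1 → s ∈ c.T) : False := by
  refine D.five_false fun n hny hnP f hf => ?_
  have h1 : n * f * n⁻¹ ∈ c.C D.y := (mem_normalizer_iff.1 hnP f).1 (D.UP hf).1
  have h2 : n * f * n⁻¹ * (n * f * n⁻¹) = 1 := by
    rw [show n * f * n⁻¹ * (n * f * n⁻¹) = n * (f * f) * n⁻¹ by group, c.U_sq hf]; group
  exact D.P_invol ⟨h1, hout _ h1 h2⟩ h2 (hsmall _ ⟨h1, hout _ h1 h2⟩)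

theorem P_big {w : G} {N : M4} (hw : w ∈ D.P) (hN : B.Mu w N) (h0 : N ≠ 0) (hM : N ≠ D.M) :
    16 ≤ Nat.card D.P := by
  classical
  let f : V2 × Bool × Bool → D.P := fun p =>
    ⟨B.pt p.1 * ((bif p.2.1 then D.y else 1) * (bif p.2.2 then w else 1)),
      mul_mem (D.UP (B.pt_mem _)) (mul_mem (by cases p.2.1; exacts [one_mem _, D.yP])
        (by cases p.2.2; exacts [one_mem _, hw]))⟩
  have hf : Function.Injective f := by
    rintro ⟨v, b1, b2⟩ ⟨v', b1', b2'⟩ h
    have h' := congrArg Subtype.val h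
    simp only [f] at h'
    have hμ : ∀ (v : V2) (b1 b2 : Bool), B.Mu (B.pt v * ((bif b1 then D.y else 1) * (bif b2 then w else 1)))
        (0 + ((bif b1 then D.M else 0) + (bif b2 then N else 0))) := fun v b1 b2 => by
      refine B.mu_mul (B.mu_U (B.pt_mem v)) (B.mu_mul ?_ ?_)
      · cases b1; exacts [B.mu_one, D.mu]
      · cases b2; exacts [B.mu_one, hN]
    have e := B.mu_unique (h' ▸ hμ v b1 b2) (hμ v' b1' b2')
    have hne : D.M + N ≠ 0 := fun he => hM (by
      calc N = (D.M + N) + D.M := by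
            rw [add_comm D.M N, add_assoc, m4_self_add, add_zero]
        _ = D.M := by rw [he, zero_add])
    have hbb : b1 = b1' ∧ b2 = b2' := by
      have hM0 := D.M0
      cases b1 <;> cases b2 <;> cases b1' <;> cases b2' <;>
        simp_all [eq_comm]
    obtain ⟨rfl, rfl⟩ := hbb
    rw [B.pt_inj (mul_right_cancel h')]
  have hc := Nat.card_le_card_of_injective f hf
  simpa using hc

theorem image_cases : (∀ x ∈ D.P, ∀ N, B.Mu x N → N = 0 ∨ N = D.M) ∨
    ∃ w N, w ∈ D.P ∧ B.Mu w N ∧ N ≠ 0 ∧ N ≠ D.M ∧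
      ∀ x ∈ D.P, ∀ R, B.Mu x R → R = 0 ∨ R = D.M ∨ R = N ∨ R = N + D.M := by
  classical
  by_cases h : ∀ x ∈ D.P, ∀ N, B.Mu x N → N = 0 ∨ N = D.M
  · exact Or.inl h
  push Not at h
  obtain ⟨w, hw, N, hN, h0, hM⟩ := h
  refine Or.inr ⟨w, N, hw, hN, h0, hM, fun x hx R hR => ?_⟩
  by_contra hne
  push Not at hne
  obtain ⟨r0, rM, rN, rNM⟩ := hne
  have hs : ∀ p ∈ ([0, D.M, N, N + D.M, R] : List M4), p ∈ B.img D.P := by
    intro p hp
    simp only [List.mem_cons, List.mem_nil_iff, or_false] at hp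
    rcases hp with rfl | rfl | rfl | rfl | rfl
    exacts [zero_mem _, B.mem_img D.yP D.mu, B.mem_img hw hN,
      add_mem (B.mem_img hw hN) (B.mem_img D.yP D.mu), B.mem_img hx hR]
  let fn : Fin 5 → B.img D.P := fun i => ⟨([0, D.M, N, N + D.M, R] : List M4).get (i.cast rfl), hs _ (List.get_mem _ _)⟩
  have hfn : Function.Injective fn := by
    have hM0 := D.M0
    have hnm : N + D.M ≠ 0 := fun e => hM (by
      calc N = N + D.M + D.M := by rw [add_assoc, m4_self_add, add_zero]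
        _ = D.M := by rw [e, zero_add])
    have hnm1 : N + D.M ≠ D.M := fun e => h0 (add_eq_right.1 e)
    have hnm2 : N + D.M ≠ N := fun e => hM0 (add_eq_left.1 e)
    intro i j e
    have hnd : ([0, D.M, N, N + D.M, R] : List M4).Nodup := by
      simp [hM0.symm, h0.symm, hnm.symm, r0.symm, hM.symm, hnm1.symm, hnm2.symm, rM.symm, rN.symm, rNM.symm]
    exact Fin.cast_injective _ (List.nodup_iff_injective_get.1 hnd (congrArg Subtype.val e))
  have := (Nat.card_le_card_of_injective fn hfn).trans D.img_le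
  simp at this

theorem P_comm_all {w : G} {N : M4} (hw : w ∈ D.P) (hN : B.Mu w N)
    (hall : ∀ x ∈ D.P, ∀ R, B.Mu x R → R = 0 ∨ R = D.M ∨ R = N ∨ R = N + D.M) :
    (∀ x ∈ D.P, (∃ e ∈ c.U, x = e) ∨ (∃ e ∈ c.U, x = D.y * e) ∨ (∃ e ∈ c.U, x = w * e) ∨
      ∃ e ∈ c.U, x = D.y * (w * e)) := by
  intro x hx
  obtain ⟨R, hR⟩ := B.exists_mu (D.P_le hx)
  have hk : ∀ p ∈ D.P, B.Mu p R → p⁻¹ * x ∈ c.U := fun p hp hpR =>
    D.ker (by
      have h0 := B.mu_mul (B.mu_inv hpR) hR
      rwa [m4_self_add] at h0) (D.P_comm (mul_mem (inv_mem hp) hx))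
  rcases hall x hx R hR with rfl | rfl | rfl | rfl
  · exact Or.inl ⟨x, by simpa using hk 1 (one_mem _) B.mu_one, rfl⟩
  · exact Or.inr (Or.inl ⟨_, hk _ D.yP D.mu, (mul_inv_cancel_left _ _).symm⟩)
  · exact Or.inr (Or.inr (Or.inl ⟨_, hk _ hw hN, (mul_inv_cancel_left _ _).symm⟩))
  · refine Or.inr (Or.inr (Or.inr ⟨(D.y * w)⁻¹ * x, hk _ (mul_mem D.yP hw) ?_, by group⟩))
    rw [add_comm]; exact B.mu_mul D.mu hN

theorem P_abelian {w : G} {N : M4} (hw : w ∈ D.P) (hN : B.Mu w N)
    (hall : ∀ x ∈ D.P, ∀ R, B.Mu x R → R = 0 ∨ R = D.M ∨ R = N ∨ R = N + D.M) :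
    ∀ p ∈ D.P, ∀ q ∈ D.P, p * q = q * p := by
  have hcen : ∀ q ∈ D.P, ∀ e ∈ c.U, Commute e q := fun q hq e he => (c.T_U (D.P_le hq) he).symm
  have hy : ∀ q ∈ D.P, Commute D.y q := fun q hq => (D.P_comm hq).symm
  have hwq : ∀ q ∈ D.P, Commute w q := by
    intro q hq
    rcases D.P_comm_all hw hN hall q hq with ⟨e, he, rfl⟩ | ⟨e, he, rfl⟩ | ⟨e, he, rfl⟩ | ⟨e, he, rfl⟩
    · exact (hcen w hw _ he).symm
    · exact (show Commute w D.y from D.P_comm hw).mul_right (hcen w hw e he).symm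
    · exact (Commute.refl w).mul_right (hcen w hw e he).symm
    · exact (show Commute w D.y from D.P_comm hw).mul_right ((Commute.refl w).mul_right (hcen w hw e he).symm)
  intro p hp q hq
  rcases D.P_comm_all hw hN hall p hp with ⟨e, he, rfl⟩ | ⟨e, he, rfl⟩ | ⟨e, he, rfl⟩ | ⟨e, he, rfl⟩
  · exact (hcen q hq _ he).eq
  · exact ((hy q hq).mul_left (hcen q hq e he)).eq
  · exact ((hwq q hq).mul_left (hcen q hq e he)).eq
  · exact ((hy q hq).mul_left ((hwq q hq).mul_left (hcen q hq e he))).eq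

theorem P_sq {w : G} {N : M4} (hw : w ∈ D.P) (hN : B.Mu w N)
    (hall : ∀ x ∈ D.P, ∀ R, B.Mu x R → R = 0 ∨ R = D.M ∨ R = N ∨ R = N + D.M) :
    ∀ p ∈ D.P, p ∈ D.F ∧ p * p = 1 ∨ p * p = w * w := by
  have hab := D.P_abelian hw hN hall
  intro p hp
  rcases D.P_comm_all hw hN hall p hp with ⟨e, he, rfl⟩ | ⟨e, he, rfl⟩ | ⟨e, he, rfl⟩ | ⟨e, he, rfl⟩
  · exact Or.inl ⟨Or.inl he, c.U_sq he⟩
  · have hF : D.y * e ∈ D.F := mul_mem (Or.inr (by rw [D.yy]; exact one_mem _)) (Or.inl he)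
    exact Or.inl ⟨hF, D.F_sq hF⟩
  · right
    rw [show w * e * (w * e) = w * (e * w) * e by group, ← c.T_U (D.P_le hw) he,
      show w * (w * e) * e = (w * w) * (e * e) by group, c.U_sq he, mul_one]
  · right
    rw [show D.y * (w * e) * (D.y * (w * e)) = D.y * ((w * e) * D.y) * (w * e) by group,
      D.P_comm (mul_mem hw (D.UP he)),
      show D.y * (D.y * (w * e)) * (w * e) = (D.y * D.y) * (w * (e * w) * e) by group, D.yy, one_mul,
      ← c.T_U (D.P_le hw) he, show w * (w * e) * e = (w * w) * (e * e) by group, c.U_sq he, mul_one]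

theorem P_outer {s x : G} (hs : s ∈ c.C D.y) (hx : x ∈ D.P) : s * x * s⁻¹ ∈ D.P :=
  ⟨mul_mem (mul_mem hs hx.1) (Subgroup.inv_mem _ hs), c.T_normal (c.mem_C.1 hs).1 hx.2⟩

theorem card_C_outer {s : G} (hs : s ∈ c.C D.y) (hsT : s ∉ c.T) :
    Nat.card (c.C D.y) = 2 * Nat.card D.P := by
  classical
  have h2 : (D.P.subgroupOf (c.C D.y)).index = 2 := by
    refine index_eq_two_iff.2 ⟨⟨s, hs⟩, fun b => ?_⟩
    simp only [mem_subgroupOf, coe_mul]
    by_cases hb : (b : G) ∈ D.P
    · exact Or.inr ⟨hb, fun h => hsT (by simpa using mul_mem (Subgroup.inv_mem _ hb.2) h.2)⟩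
    · exact Or.inl ⟨⟨mul_mem b.2 hs, c.mul_outer (c.mem_C.1 b.2).1 (c.mem_C.1 hs).1 (fun h => hb ⟨b.2, h⟩) hsT⟩, hb⟩
  have h := card_mul_index (D.P.subgroupOf (c.C D.y))
  rw [h2, show Nat.card (D.P.subgroupOf (c.C D.y)) = Nat.card D.P from
    Nat.card_congr (subgroupOfEquivOfLe inf_le_left).toEquiv] at h
  omega

theorem card_F : 8 ≤ Nat.card D.P := by
  classical
  let f : V2 × Bool → D.P := fun p =>
    ⟨B.pt p.1 * (bif p.2 then D.y else 1), mul_mem (D.UP (B.pt_mem _)) (by cases p.2; exacts [one_mem _, D.yP])⟩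
  have hf : Function.Injective f := by
    rintro ⟨v, b⟩ ⟨v', b'⟩ h
    have h' := congrArg Subtype.val h
    simp only [f] at h'
    have hb : b = b' := by
      by_contra hne
      apply D.yU
      cases b <;> cases b' <;> simp_all
      · have e : D.y = (B.pt v')⁻¹ * B.pt v := by rw [h']; group
        rw [e]; exact mul_mem (inv_mem (B.pt_mem _)) (B.pt_mem _)
      · have e : D.y = (B.pt v)⁻¹ * B.pt v' := by rw [← h']; group
        rw [e]; exact mul_mem (inv_mem (B.pt_mem _)) (B.pt_mem _)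
    subst hb
    rw [B.pt_inj (mul_right_cancel h')]
  have hc := Nat.card_le_card_of_injective f hf
  simpa using hc

/-- The centraliser of an outer involution is large. -/
theorem outer_large (hMf : tc D.M = D.M) {s : G} (hs : s ∈ c.C D.y) (hsT : s ∉ c.T) (hss : s * s = 1) :
    16 ≤ Nat.card (c.C s) ∧ ∃ i ∈ c.C s, i * i = c.z := by
  classical
  obtain ⟨hsS, hsy⟩ := c.mem_C.1 hs
  obtain ⟨i, hiA, his, hii⟩ := B.outer_root hsS hsT hss
  have hiC : i ∈ c.C s := c.mem_C.2 ⟨B.AG_le hiA, his⟩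
  refine ⟨?_, i, hiC, hii⟩
  have hyC : D.y ∈ c.C s := c.mem_C.2 ⟨D.top.1.1, hsy.symm⟩
  have hsC : s ∈ c.C s := c.mem_C.2 ⟨hsS, rfl⟩
  let f : Fin 4 × Bool × Bool → c.C s := fun p =>
    ⟨i ^ (p.1 : ℕ) * (bif p.2.1 then D.y else 1) * (bif p.2.2 then s else 1),
      mul_mem (mul_mem (pow_mem hiC _) (by cases p.2.1; exacts [one_mem _, hyC]))
        (by cases p.2.2; exacts [one_mem _, hsC])⟩
  have hf : Function.Injective f := by
    rintro ⟨j, b1, b2⟩ ⟨j', b1', b2'⟩ h
    have h' := congrArg Subtype.val h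
    simp only [f] at h'
    have hT : ∀ (j : ℕ) (b : Bool), i ^ j * (bif b then D.y else 1) ∈ c.T := fun j b =>
      mul_mem (pow_mem (B.AG_T hiA) j) (by cases b; exacts [one_mem _, D.yT])
    have hb2 : b2 = b2' := by
      by_contra hne
      apply hsT
      cases b2 <;> cases b2' <;> simp only [cond_true, cond_false, mul_one] at h' <;> first | exact absurd rfl hne | skip
      · have e : s = (i ^ (j' : ℕ) * (bif b1' then D.y else 1))⁻¹ * (i ^ (j : ℕ) * (bif b1 then D.y else 1)) := by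
          rw [h']; group
        rw [e]; exact mul_mem (inv_mem (hT _ _)) (hT _ _)
      · have e : s = (i ^ (j : ℕ) * (bif b1 then D.y else 1))⁻¹ * (i ^ (j' : ℕ) * (bif b1' then D.y else 1)) := by
          rw [← h']; group
        rw [e]; exact mul_mem (inv_mem (hT _ _)) (hT _ _)
    subst hb2
    have h'' := mul_right_cancel h'
    have hμ : ∀ (j : ℕ) (b : Bool), B.Mu (i ^ j * (bif b then D.y else 1)) (bif b then D.M else 0) := fun j b => by
      cases b
      · simpa using B.mu_pow (B.mu_AG hiA) j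
      · simpa using B.mu_mul (B.mu_pow (B.mu_AG hiA) j) D.mu
    have hb1 : b1 = b1' := by
      have e := B.mu_unique (h'' ▸ hμ j b1) (hμ j' b1')
      cases b1 <;> cases b1'
      · rfl
      · exact absurd e D.M0.symm
      · exact absurd e D.M0
      · rfl
    subst hb1
    have e := mul_right_cancel h''
    have hord : orderOf i = 4 := by
      haveI := Fact.mk Nat.prime_two
      refine (orderOf_eq_prime_pow (p := 2) (n := 1) (by rw [pow_one, pow_two, hii]; exact c.z1) ?_)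
      rw [show i ^ (2 ^ (1 + 1)) = i * i * (i * i) by simp [pow_succ, mul_assoc], hii, c.zz]
    have := pow_injOn_Iio_orderOf (x := i) (show (j : ℕ) ∈ Set.Iio (orderOf i) by rw [hord]; exact j.2)
      (show (j' : ℕ) ∈ Set.Iio (orderOf i) by rw [hord]; exact j'.2) e
    rw [Fin.ext this]
  have hc := Nat.card_le_card_of_injective f hf
  simpa using hc

theorem fixed_M {s : G} (hs : s ∈ c.C D.y) (hsT : s ∉ c.T) : tc D.M = D.M :=
  B.tc_eq_of_comm D.mu (c.mem_C.1 hs).1 hsT (c.mem_C.1 hs).2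

end InvCase

namespace BigCase

variable {c : Ctx G} (B : BigCase c)

/-- An outer involution centralising a maximal candidate of small image is impossible. -/
theorem small_false (D : InvCase B) (hsmall : ∀ x ∈ D.P, ∀ N, B.Mu x N → N = 0 ∨ N = D.M) : False := by
  refine D.false_of_small hsmall fun s hs hss => by_contra fun hsT => ?_
  have hP8 : Nat.card D.P ≤ 8 := by
    have h2 : Nat.card (B.img D.P) ≤ 2 := by
      refine (Nat.card_le_card_of_injective (fun x : B.img D.P => decide (x.1 = 0)) fun a b e => ?_).trans (by simp)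
      simp only [decide_eq_decide] at e
      obtain ⟨x, hx, hxa⟩ := a.2
      obtain ⟨w, hw, hwb⟩ := b.2
      apply Subtype.ext
      rcases hsmall x hx _ hxa with h | h <;> rcases hsmall w hw _ hwb with h' | h'
      · rw [h, h']
      · exact absurd (h'.symm.trans (e.1 h)) D.M0
      · exact absurd (h.symm.trans (e.2 h')) D.M0
      · rw [h, h']
    refine (B.card_le_img D.P_le (K := c.U) fun x hx h => D.ker h (D.P_comm hx)).trans ?_
    rw [c.card_U]
    exact Nat.mul_le_mul_right 4 h2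
  have hMf := D.fixed_M hs hsT
  -- an outer candidate
  obtain ⟨p, hp, hpc, hpT⟩ : ∃ p ∈ c.C D.y, c.Cand p ∧ p ∉ c.T := by
    by_contra hno
    push Not at hno
    refine D.five_false fun n hny hnP f hf => ?_
    have h1 : n * f * n⁻¹ ∈ c.C D.y := (mem_normalizer_iff.1 hnP f).1 (D.UP hf).1
    have h2 : n * f * n⁻¹ * (n * f * n⁻¹) = 1 := by
      rw [show n * f * n⁻¹ * (n * f * n⁻¹) = n * (f * f) * n⁻¹ by group, c.U_sq hf]; group
    have hT : n * f * n⁻¹ ∈ c.T := by
      have e : D.y * (n * f * n⁻¹) = n * (D.y * f) * n⁻¹ := by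
        rw [show n * (D.y * f) * n⁻¹ = (n * D.y * n⁻¹) * (n * f * n⁻¹) by group, hny, mul_inv_cancel_right]
      by_contra hT
      have hC : D.y * (n * f * n⁻¹) ∈ c.C D.y := mul_mem D.yP.1 h1
      have hcand : c.Cand (D.y * (n * f * n⁻¹)) := by
        refine ⟨(c.mem_C.1 hC).1, fun h => hT ?_, e ▸ (isConj_iff.2 ⟨n, rfl⟩).symm.trans (D.coset hf)⟩
        have := mul_mem D.yT c.zT
        rw [← h, ← mul_assoc, D.yy, one_mul] at this
        exact this
      exact hT (by
        have := mul_mem D.yT (hno _ hC hcand)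
        rwa [← mul_assoc, D.yy, one_mul] at this)
    exact D.P_invol ⟨h1, hT⟩ h2 (hsmall _ ⟨h1, hT⟩)
  obtain ⟨h16, i, hi, hii⟩ := D.outer_large hMf hp hpT (Ctx.Cand.sq c hpc)
  have hC16 : Nat.card (c.C D.y) ≤ 16 := by rw [D.card_C_outer hp hpT]; omega
  have hptop : c.Top p := ⟨hpc, fun q hq => (D.top.2 q hq).trans (hC16.trans h16)⟩
  obtain ⟨q, r, M', hq, hM', hIS, hr, hrT, hrr⟩ := B.root_reduce hptop hi hii
  have hinv : ∀ v, app M' v = 0 → v = 0 := by rcases hIS with rfl | rfl <;> decide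
  let D' : InvCase B := ⟨q, M', hq, hM', hinv⟩
  have hrC : r ∈ c.C q := c.mem_C.2 ⟨hr, by rw [← hrr]; group⟩
  have hq16 : Nat.card (c.C q) ≤ 16 := (D.top.2 q hq.1).trans hC16
  have hcard := D'.card_C_outer hrC hrT
  have hqsmall : ∀ x ∈ D'.P, ∀ N, B.Mu x N → N = 0 ∨ N = D'.M := by
    rcases D'.image_cases with h | ⟨w, N, hw, hN, h0, hM, -⟩
    · exact h
    · have := D'.P_big hw hN h0 hM
      have hq16' : Nat.card (c.C D'.y) ≤ 16 := hq16
      omega
  -- no involution outside `T`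
  refine D'.false_of_small hqsmall fun x hx hxx => by_contra fun hxT => ?_
  have hxr : x * r⁻¹ ∈ D'.P := by
    refine ⟨mul_mem hx (Subgroup.inv_mem _ hrC), ?_⟩
    exact c.mul_outer (c.mem_C.1 hx).1 (Subgroup.inv_mem _ hr) hxT fun h => hrT (inv_mem_iff.1 h)
  obtain ⟨e, he, hxe⟩ : ∃ e ∈ c.U, x * r⁻¹ = e ∨ x * r⁻¹ = q * e := by
    obtain ⟨N, hN⟩ := B.exists_mu hxr.2
    rcases hqsmall _ hxr N hN with hN' | hN'
    · exact ⟨_, D'.ker (hN' ▸ hN) (D'.P_comm hxr), Or.inl rfl⟩
    · refine ⟨q⁻¹ * (x * r⁻¹), D'.ker ?_ (D'.P_comm (mul_mem (inv_mem D'.yP) hxr)), Or.inr (mul_inv_cancel_left _ _).symm⟩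
      have h0 := B.mu_mul (B.mu_inv hM') hN
      rwa [hN', show M' + D'.M = 0 from m4_self_add M'] at h0
  have hre : r * e * r⁻¹ ∈ c.U := c.U_normal hr he
  have hsq : (e * r) * (e * r) = e * (r * e * r⁻¹) * q := by rw [← hrr]; group
  have hqU : q ∈ c.U := by
    have key : e * (r * e * r⁻¹) * q = 1 := by
      rcases hxe with h | h
      · rw [← hsq, ← h, show x * r⁻¹ * r * (x * r⁻¹ * r) = x * x by group, hxx]
      · have hx' : x = q * (e * r) := by rw [← mul_assoc, ← h]; group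
        have hqc : (e * r) * q = q * (e * r) := by
          have h1 : r * q = q * r := by rw [← hrr]; group
          rw [mul_assoc, h1, ← mul_assoc, ← c.T_U (B.mu_T hM') he, mul_assoc]
        rw [← hsq, ← hxx, hx', show q * (e * r) * (q * (e * r)) = q * ((e * r) * q) * (e * r) by group, hqc,
          show q * (q * (e * r)) * (e * r) = (q * q) * ((e * r) * (e * r)) by group, Ctx.Cand.sq c hq.1, one_mul]
    rw [eq_inv_of_mul_eq_one_right key]
    exact inv_mem (mul_mem he hre)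
  exact D'.yU hqU

/-- An elementary group of order sixteen in the centraliser of a maximal candidate. -/
theorem exists_sixteen (D : InvCase B) :
    16 ≤ Nat.card D.P ∧ (∀ p ∈ D.P, p * p = 1) ∧ (∀ p ∈ D.P, ∀ q ∈ D.P, p * q = q * p) ∧
      (∀ b : G, c.Cand b → 32 ≤ Nat.card (c.C b) → ∀ R, B.Mu b R → (∀ v, app R v = 0 → v = 0)) := by
  rcases D.image_cases with h | ⟨w, N, hw, hN, h0, hM, hall⟩
  · exact (B.small_false D h).elim
  have h16 := D.P_big hw hN h0 hM
  have hab := D.P_abelian hw hN hall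
  by_cases hw2 : w * w = 1
  swap
  · exfalso
    refine D.five_false fun n hny hnP f hf => ?_
    have hQ : ∀ p ∈ D.P, n * p * n⁻¹ ∈ c.C D.y := fun p hp => (mem_normalizer_iff.1 hnP p).1 hp.1
    have h1 : n * f * n⁻¹ ∈ c.C D.y := hQ f (D.UP hf)
    have hnf : n * f * n⁻¹ * (n * f * n⁻¹) = 1 := by
      rw [show n * f * n⁻¹ * (n * f * n⁻¹) = n * (f * f) * n⁻¹ by group, c.U_sq hf]; group
    have hT : n * f * n⁻¹ ∈ c.T := by
      by_contra hT
      set x := n * f * n⁻¹ with hx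
      have hMf := D.fixed_M h1 hT
      have hNt : N + tc N = D.M ∧ tc N = N + D.M :=
        inv_image D.M N hMf h0 hM
          (fun e => D.no_jj (mul_mem hw D.yP) (e ▸ B.mu_mul hN D.mu)) (fun e => D.no_jj hw (e ▸ hN)) D.M0 D.M_jj
          (hall _ (D.P_outer h1 hw) _ (B.mu_swap hN (c.mem_C.1 h1).1 hT))
      -- the conjugate of `P` meets `T` in at most four elements
      have hfour : ∀ q ∈ D.P, x * q = q * x → q = 1 ∨ q = c.z ∨ q = D.y ∨ q = D.y * c.z := by
        intro q hq hqx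
        have hUfix : ∀ e ∈ c.U, x * e * x⁻¹ = e → e = 1 ∨ e = c.z := by
          rintro e (rfl | rfl | rfl | rfl) he
          · exact Or.inl rfl
          · exact Or.inr rfl
          · exact absurd ((c.outer (c.mem_C.1 h1).1 hT).symm.trans he) c.uz_ne_u
          · rw [show x * (c.u * c.z) * x⁻¹ = (x * c.u * x⁻¹) * (x * c.z * x⁻¹) by group,
              c.outer (c.mem_C.1 h1).1 hT, c.zc x (c.mem_C.1 h1).1, mul_inv_cancel_right, mul_assoc, c.zz,
              mul_one] at he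
            exact absurd he.symm c.uz_ne_u
        obtain ⟨R, hR⟩ := B.exists_mu hq.2
        have htR := B.tc_eq_of_comm hR (c.mem_C.1 h1).1 hT hqx
        rcases hall q hq R hR with rfl | rfl | rfl | rfl
        · rcases hUfix q (D.ker hR (D.P_comm hq)) (by rw [hqx, mul_inv_cancel_right]) with e | e
          exacts [Or.inl e, Or.inr (Or.inl e)]
        · have hU : D.y⁻¹ * q ∈ c.U := D.ker (by
            have h0' := B.mu_mul (B.mu_inv D.mu) hR
            rwa [m4_self_add] at h0') (D.P_comm (mul_mem (inv_mem D.yP) hq))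
          have hfx : x * (D.y⁻¹ * q) * x⁻¹ = D.y⁻¹ * q := by
            have hc1 : Commute x D.y := (c.mem_C.1 h1).2
            rw [(hc1.inv_right.mul_right hqx).eq, mul_inv_cancel_right]
          rcases hUfix _ hU hfx with e | e
          · exact Or.inr (Or.inr (Or.inl (inv_mul_eq_one.1 e).symm))
          · exact Or.inr (Or.inr (Or.inr (by rw [← e, mul_inv_cancel_left])))
        · exact absurd (hNt.2.symm.trans htR) (fun e => D.M0 (add_eq_left.1 e))
        · rw [tc_add, hNt.2, hMf, add_assoc, m4_self_add, add_zero] at htR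
          exact absurd htR.symm (fun e => D.M0 (add_eq_left.1 e))
      classical
      have hxP : ∀ p ∈ D.P, x * (n * p * n⁻¹) = n * p * n⁻¹ * x := fun p hp => by
        rw [hx, show n * f * n⁻¹ * (n * p * n⁻¹) = n * (f * p) * n⁻¹ by group, hab f (D.UP hf) p hp]; group
      let s : Finset G := {1, c.z, D.y, D.y * c.z}
      have hxC : x ∈ c.C D.y := h1
      let φ : D.P → Bool × s := fun p =>
        if hpT : n * (p : G) * n⁻¹ ∈ c.T then
          (false, ⟨n * (p : G) * n⁻¹, by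
            simp only [s, Finset.mem_insert, Finset.mem_singleton]
            exact hfour _ ⟨hQ p p.2, hpT⟩ (hxP p p.2)⟩)
        else (true, ⟨n * (p : G) * n⁻¹ * x, by
            simp only [s, Finset.mem_insert, Finset.mem_singleton]
            refine hfour _ ⟨mul_mem (hQ p p.2) hxC, c.mul_outer (c.mem_C.1 (hQ p p.2)).1 (c.mem_C.1 h1).1 hpT hT⟩ ?_
            rw [← mul_assoc, hxP p p.2, mul_assoc]⟩)
      have hφ : Function.Injective φ := by
        intro p q hpq
        simp only [φ] at hpq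
        split_ifs at hpq with hp hq hq
        · have e := congrArg (fun r => ((r.2 : s) : G)) hpq
          exact Subtype.ext (mul_left_cancel (mul_right_cancel e))
        · simp at hpq
        · simp at hpq
        · have e := congrArg (fun r => ((r.2 : s) : G)) hpq
          exact Subtype.ext (mul_left_cancel (mul_right_cancel (mul_right_cancel e)))
      have hc := (Nat.card_le_card_of_injective φ hφ)
      rw [Nat.card_prod, Nat.card_eq_fintype_card (α := Bool), Nat.card_eq_fintype_card (α := s), Fintype.card_coe] at hc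
      have hs : s.card ≤ 4 := by
        simp only [s]
        exact (Finset.card_insert_le _ _).trans (Nat.succ_le_succ ((Finset.card_insert_le _ _).trans
          (Nat.succ_le_succ ((Finset.card_insert_le _ _).trans (by simp)))))
      simp only [Fintype.card_bool] at hc
      omega
    rcases D.P_sq hw hN hall _ ⟨h1, hT⟩ with ⟨h, -⟩ | h
    · exact h
    · exact absurd (h.symm.trans hnf) hw2
  refine ⟨h16, fun p hp => ?_, hab, fun b hb hb32 R hR => ?_⟩
  · rcases D.P_sq hw hN hall p hp with ⟨-, h⟩ | h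
    exacts [h, h.trans hw2]
  have hle := D.top.2 b hb
  obtain ⟨s, hs, hsT⟩ : ∃ s ∈ c.C D.y, s ∉ c.T := by
    by_contra hno
    push Not at hno
    have : c.C D.y ≤ D.P := fun x hx => ⟨hx, hno x hx⟩
    have := (card_le_of_le this).trans D.card_P
    omega
  have hC32 := D.card_C_outer hs hsT
  have hcP := D.card_P
  have hbtop : c.Top b := ⟨hb, fun q hq => (D.top.2 q hq).trans (by omega)⟩
  by_cases hj : app R (1, 1) = 0
  · exfalso
    have hMf := D.fixed_M hs hsT
    have hNt : N + tc N = D.M ∧ tc N = N + D.M :=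
      inv_image D.M N hMf h0 hM
        (fun e => D.no_jj (mul_mem hw D.yP) (e ▸ B.mu_mul hN D.mu)) (fun e => D.no_jj hw (e ▸ hN)) D.M0 D.M_jj
        (hall _ (D.P_outer hs hw) _ (B.mu_swap hN (c.mem_C.1 hs).1 hsT))
    refine B.absurd_of_gens [D.M, N, R] ?_
      (inv_rank D.M N R hMf D.M0 D.M_jj hNt.1 (B.mu_cand_ne hb hR)
        (fun e => B.not_norm_jj (e ▸ hR) (by rw [Ctx.Cand.sq c hb, one_mul])) hj)
    simp only [List.mem_cons, List.mem_nil_iff, or_false]
    rintro p (rfl | rfl | rfl)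
    exacts [B.mem_E D.mu, B.mem_E hN, B.mem_E hR]
  · exact B.inv_of_top hbtop hR hj

end BigCase

end CfsgLib.Nonconn
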