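import Cfsg.Agent.Lib.Nonconn.Reduce

/-!
A maximal candidate fixing the roots of `u`: the fused coset and the translations.

Blueprint: `blueprint/S0503.md`, case A16, line.
-/

set_option autoImplicit false
set_option linter.unusedSectionVars false
set_option maxRecDepth 8000
set_option synthInstance.maxSize 1024
set_option synthInstance.maxHeartbeats 200000

namespace CfsgLib.Nonconn

open Subgroup MacWilliams

variable {G : Type*} [Group G] [Finite G]

theorem line_tc : ∀ M : M4, app M (1, 0) = 0 → tc M = M → app M (1, 1) = 0 := by decide +kernel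

theorem line_span : ∀ M N : M4, app M (1, 0) = 0 → app M (1, 1) ≠ 0 → app N (1, 0) = 0 → N = 0 ∨ N = M ∨
    (om ∈ BigCase.sums ([M, N] ++ [M, N].map tc) ∧ jj ∈ BigCase.sums ([M, N] ++ [M, N].map tc)) := by
  decide +kernel

/-- The data of the line case. -/
structure LineCase {c : Ctx G} (B : BigCase c) where
  y : G
  M : M4
  top : c.Top y
  mu : B.Mu y M
  ker : app M (1, 0) = 0
  move : app M (1, 1) ≠ 0
  a : G
  b : G
  aA : a ∈ B.AG
  bA : b ∈ B.AG
  aa : a * a = c.u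
  bb : b * b = c.u * c.z

namespace BigCase

variable {c : Ctx G} (B : BigCase c)

/-- The line case from a candidate. -/
theorem lineCase {y : G} {M : M4} (hy : c.Top y) (hM : B.Mu y M) (hk : app M (1, 0) = 0)
    (hj : app M (1, 1) ≠ 0) : Nonempty (LineCase B) := by
  obtain ⟨a, ha, haa⟩ := B.root (1, 0)
  obtain ⟨b, hb, hbb⟩ := B.root (0, 1)
  exact ⟨⟨y, M, hy, hM, hk, hj, a, b, ha, hb, haa.trans B.pt_10, hbb.trans B.pt_01⟩⟩

end BigCase

namespace LineCase

variable {c : Ctx G} {B : BigCase c} (L : LineCase B)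
include L

theorem yT : L.y ∈ c.T := B.mu_T L.mu

theorem yU : L.y ∉ c.U := B.cand_notU L.top.1

theorem yy : L.y * L.y = 1 := Ctx.Cand.sq c L.top.1

theorem M0 : L.M ≠ 0 := B.mu_cand_ne L.top.1 L.mu

theorem ya : L.y * L.a = L.a * L.y := by
  have e := B.act L.mu L.aA (v := (1, 0)) (L.aa.trans B.pt_10.symm)
  rw [L.ker, B.pt_zero, one_mul] at e
  exact mul_inv_eq_iff_eq_mul.1 e

theorem C_T {x : G} (hx : x ∈ c.C L.y) : x ∈ c.T := by
  by_contra hxT
  obtain ⟨hxS, hxy⟩ := c.mem_C.1 hx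
  exact L.move (line_tc L.M L.ker (B.tc_eq_of_comm L.mu hxS hxT hxy))

theorem aC : L.a ∈ c.C L.y := c.mem_C.2 ⟨B.AG_le L.aA, L.ya.symm⟩

theorem fix_a {x : G} {N : M4} (hx : B.Mu x N) (hxa : x * L.a = L.a * x) : N = 0 ∨ N = L.M := by
  have e := B.act hx L.aA (v := (1, 0)) (L.aa.trans B.pt_10.symm)
  rw [hxa, mul_inv_cancel_right, right_eq_mul, B.pt_eq_one] at e
  rcases line_span L.M N L.ker L.move e with h | h | h
  · exact Or.inl h
  · exact Or.inr h
  · exact (B.absurd_of_gens [L.M, N] (by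
      simp only [List.mem_cons, List.mem_nil_iff, or_false]
      rintro p (rfl | rfl)
      exacts [B.mem_E L.mu, B.mem_E hx]) h).elim

/-- The elementary group `U ⟨y⟩`. -/
def InF (f : G) : Prop := f ∈ c.U ∨ f * L.y ∈ c.U

theorem inF_cases {f : G} (h : L.InF f) : ∃ e ∈ c.U, f = e ∨ f = L.y * e := by
  rcases h with h | h
  · exact ⟨f, h, Or.inl rfl⟩
  · refine ⟨f * L.y, h, Or.inr ?_⟩
    rw [c.T_U L.yT h, mul_assoc, L.yy, mul_one]

theorem inF_iff {f : G} :
    L.InF f ↔ f ∈ c.C L.y ∧ f * f = 1 ∧ ∀ p ∈ c.C L.y, p * f = f * p := by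
  constructor
  · intro hf
    obtain ⟨e, he, rfl | rfl⟩ := L.inF_cases hf
    · exact ⟨c.mem_C.2 ⟨c.T_le (c.U_le he), (c.T_U L.yT he).symm⟩, c.U_sq he, fun p hp => c.T_U (L.C_T hp) he⟩
    · refine ⟨c.mem_C.2 ⟨mul_mem L.top.1.1 (c.T_le (c.U_le he)), ?_⟩, ?_, fun p hp => ?_⟩
      · rw [mul_assoc, ← c.T_U L.yT he]
      · rw [show L.y * e * (L.y * e) = L.y * (e * L.y) * e by group, ← c.T_U L.yT he,
          show L.y * (L.y * e) * e = (L.y * L.y) * (e * e) by group, L.yy, c.U_sq he, one_mul]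
      · exact ((show Commute p L.y from (c.mem_C.1 hp).2).mul_right (c.T_U (L.C_T hp) he)).eq
  · rintro ⟨hf, hff, hc⟩
    obtain ⟨N, hN⟩ := B.exists_mu (L.C_T hf)
    rcases L.fix_a hN (hc _ L.aC).symm with rfl | rfl
    · exact Or.inl (B.inv_U hN hff)
    · refine Or.inr (B.inv_U (by simpa [m4_self_add] using B.mu_mul hN L.mu) ?_)
      rw [show f * L.y * (f * L.y) = f * (L.y * f) * L.y by group, ← (c.mem_C.1 hf).2,
        show f * (f * L.y) * L.y = (f * f) * (L.y * L.y) by group, hff, L.yy, one_mul]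

/-- The normalising element fixes `u` and fuses `z` into `y U`. -/
theorem exists_fuse : ∃ n : G, n * L.y = L.y * n ∧ n ∈ normalizer (c.C L.y : Set G) ∧ n * c.u * n⁻¹ = c.u ∧
    ((n * c.z * n⁻¹ = L.y * c.z ∧ ¬ IsConj (L.y * (c.u * c.z)) c.z) ∨
      (n * c.z * n⁻¹ = L.y * (c.u * c.z) ∧ ¬ IsConj (L.y * c.z) c.z)) := by
  obtain ⟨n, hny, hn2, hnP, hnC⟩ := c.exists_n L.top.1
  have hmv : ∀ {f}, L.InF f → L.InF (n * f * n⁻¹) := by
    intro f hf
    obtain ⟨h1, h2, h3⟩ := L.inF_iff.1 hf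
    refine L.inF_iff.2 ⟨(mem_normalizer_iff.1 hnP f).1 h1, ?_, fun p hp => ?_⟩
    · rw [show n * f * n⁻¹ * (n * f * n⁻¹) = n * (f * f) * n⁻¹ by group, h2]; group
    · have hp' : n⁻¹ * p * n ∈ c.C L.y := (mem_normalizer_iff.1 hnP _).2 (by simpa [mul_assoc] using hp)
      rw [show p = n * (n⁻¹ * p * n) * n⁻¹ by group,
        show n * (n⁻¹ * p * n) * n⁻¹ * (n * f * n⁻¹) = n * (n⁻¹ * p * n * f) * n⁻¹ by group, h3 _ hp']
      group
  have hsq : ∀ {f w}, L.InF f → w ∈ c.C L.y → w * w = f → f ∈ c.U := by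
    intro f w hf hw hwf
    obtain ⟨N, hN⟩ := B.exists_mu (L.C_T hw)
    exact B.inv_U (hwf ▸ B.mu_sq hN) (L.inF_iff.1 hf).2.1
  have hn1 : ∀ {f w}, L.InF f → w ∈ c.C L.y → w * w = f → n * f * n⁻¹ ∈ c.U := fun {f w} hf hw hwf =>
    hsq (w := n * w * n⁻¹) (hmv hf) ((mem_normalizer_iff.1 hnP w).1 hw) (by rw [← hwf]; group)
  have hu : n * c.u * n⁻¹ ∈ c.U := hn1 (Or.inl c.uU) L.aC L.aa
  have hnu : n * c.u * n⁻¹ = c.u := by
    rcases hu with h | h | h | h
    · exact absurd (conj_eq_one_iff.1 h) c.u1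
    · exact absurd (isConj_iff.2 ⟨n, h⟩) B.noMove
    · exact h
    · exfalso
      refine c.no_move L.top L.yT L.yU hny hn2 hnP hnC (c.mem_normalizer_U (h ▸ mul_mem c.uU c.zU) ?_)
      rw [← h]
      refine hn1 (hmv (Or.inl c.uU)) ((mem_normalizer_iff.1 hnP L.a).1 L.aC) ?_
      rw [show n * L.a * n⁻¹ * (n * L.a * n⁻¹) = n * (L.a * L.a) * n⁻¹ by group, L.aa]
  refine ⟨n, hny, hnP, hnu, ?_⟩
  have hny' : n * L.y * n⁻¹ = L.y := by rw [hny, mul_inv_cancel_right]
  have hZ : IsConj (n * c.z * n⁻¹) c.z := (isConj_iff.2 ⟨n, rfl⟩).symm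
  have huzn : n * (c.u * c.z) * n⁻¹ = c.u * (n * c.z * n⁻¹) := by
    rw [show n * (c.u * c.z) * n⁻¹ = (n * c.u * n⁻¹) * (n * c.z * n⁻¹) by group, hnu]
  have hnotUZ : ¬ IsConj (c.u * (n * c.z * n⁻¹)) c.z := fun h =>
    B.noMove (c.uz_conj.symm.trans ((isConj_iff.2 ⟨n, huzn⟩).trans h))
  obtain ⟨e, he, hne | hne⟩ := L.inF_cases (hmv (Or.inl c.zU))
  · refine (c.no_move L.top L.yT L.yU hny hn2 hnP hnC (c.mem_normalizer_U hu ?_)).elim
    rw [huzn, hne]; exact mul_mem c.uU he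
  · rcases he with rfl | rfl | rfl | rfl
    · exfalso
      rw [mul_one] at hne
      exact L.top.1.2.1 (mul_left_cancel (mul_right_cancel (hny'.trans hne.symm)))
    · refine Or.inl ⟨hne, ?_⟩
      rw [hne] at hnotUZ
      rwa [show L.y * (c.u * c.z) = c.u * (L.y * c.z) by rw [← mul_assoc, c.T_U L.yT c.uU, mul_assoc]]
    · exfalso
      refine hnotUZ ?_
      rw [hne, c.T_U L.yT c.uU, ← mul_assoc, c.uu, one_mul]
      exact L.top.1.2.2
    · refine Or.inr ⟨hne, ?_⟩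
      rw [hne] at hnotUZ
      rwa [show c.u * (L.y * (c.u * c.z)) = (c.u * L.y) * c.u * c.z by group, ← c.T_U L.yT c.uU,
        show L.y * c.u * c.u * c.z = L.y * (c.u * c.u) * c.z by group, c.uu, mul_one] at hnotUZ

theorem translate {g e : G} (he : g * L.y * g⁻¹ = L.y * e) : IsConj (L.y * e) c.z :=
  (isConj_iff.2 ⟨g, he⟩).symm.trans L.top.1.2.2

/-- The translation by the root of `u z`. -/
theorem b_y (e : G) (he : e ∈ c.U) : L.b * (L.y * e) * L.b⁻¹ = L.y * (B.pt (app L.M (0, 1)) * e) := by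
  have h1 := B.act_right L.mu L.bA (v := (0, 1)) (L.bb.trans B.pt_01.symm)
  rw [show L.b * (L.y * e) * L.b⁻¹ = (L.b * L.y * L.b⁻¹) * (L.b * e * L.b⁻¹) by group, h1,
    c.T_U (B.AG_T L.bA) he, mul_inv_cancel_right, mul_assoc]

/-- The two sub-cases. -/
theorem two_cases :
    (app L.M (0, 1) = (1, 1) ∧ (∃ n : G, n * L.y = L.y * n ∧ n ∈ normalizer (c.C L.y : Set G) ∧
        n * c.u * n⁻¹ = c.u ∧ n * c.z * n⁻¹ = L.y * c.z) ∧
      ∀ g : G, ∀ e ∈ c.U, g * L.y * g⁻¹ = L.y * e → e = 1 ∨ e = c.z) ∨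
    (app L.M (0, 1) = (0, 1) ∧
      ∀ g : G, ∀ e ∈ c.U, g * L.y * g⁻¹ = L.y * e → e = 1 ∨ e = c.u * c.z) := by
  have hm0 : app L.M (0, 1) ≠ 0 := fun e => L.move (by
    rw [show ((1, 1) : V2) = (1, 0) + (0, 1) by decide, app_add_right, L.ker, e, add_zero])
  have hby := L.b_y 1 (one_mem _)
  rw [mul_one, mul_one] at hby
  have hmy : IsConj (L.y * B.pt (app L.M (0, 1))) c.z := L.translate hby
  have hconj : ∀ {p q : G}, p ∈ c.U → L.b * (L.y * p) * L.b⁻¹ = L.y * q → IsConj (L.y * p) (L.y * q) :=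
    fun _ h => isConj_iff.2 ⟨L.b, h⟩
  obtain ⟨n, hny, hnP, hnu, ⟨hne, hno⟩ | ⟨hne, hno⟩⟩ := L.exists_fuse
  · left
    have hyz : IsConj (L.y * c.z) c.z := hne ▸ (isConj_iff.2 ⟨n, rfl⟩).symm
    rcases v2_cases (app L.M (0, 1)) with h | h | h | h
    · exact absurd h hm0
    · exfalso
      have e := hconj (p := c.z) c.zU (q := c.u * c.z) (by rw [L.b_y _ c.zU, h, B.pt_10])
      exact hno (e.symm.trans hyz)
    · rw [h, B.pt_01] at hmy; exact absurd hmy hno
    · have h' : app L.M (0, 1) = (1, 1) := h.trans (by decide)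
      refine ⟨h', ⟨n, hny, hnP, hnu, hne⟩, ?_⟩
      rintro g e (rfl | rfl | rfl | rfl) hg
      · exact Or.inl rfl
      · exact Or.inr rfl
      · exfalso
        have e := hconj (p := c.u) c.uU (q := c.u * c.z) (by rw [L.b_y _ c.uU, h', B.pt_11, ← c.zu_comm])
        exact hno (e.symm.trans (L.translate hg))
      · exact absurd (L.translate hg) hno
  · right
    have hyz : IsConj (L.y * (c.u * c.z)) c.z := hne ▸ (isConj_iff.2 ⟨n, rfl⟩).symm
    rcases v2_cases (app L.M (0, 1)) with h | h | h | h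
    · exact absurd h hm0
    · exfalso
      have e := hconj (p := c.u * c.z) (mul_mem c.uU c.zU) (q := c.z)
        (by rw [L.b_y _ (mul_mem c.uU c.zU), h, B.pt_10, ← mul_assoc c.u, c.uu, one_mul])
      exact hno (e.symm.trans hyz)
    · refine ⟨h, ?_⟩
      rintro g e (rfl | rfl | rfl | rfl) hg
      · exact Or.inl rfl
      · exact absurd (L.translate hg) hno
      · exfalso
        have e := hconj (p := c.u) c.uU (q := c.z)
          (by rw [L.b_y _ c.uU, h, B.pt_01, mul_assoc, ← c.zu_comm, ← mul_assoc c.u, c.uu, one_mul])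
        exact hno (e.symm.trans (L.translate hg))
      · exact Or.inr rfl
    · rw [h, show ((1, 0) : V2) + (0, 1) = (1, 1) by decide, B.pt_11] at hmy; exact absurd hmy hno

/-- The second sub-case is impossible. -/
theorem false_of_e22 (hm : app L.M (0, 1) = (0, 1))
    (htr : ∀ g : G, ∀ e ∈ c.U, g * L.y * g⁻¹ = L.y * e → e = 1 ∨ e = c.u * c.z) : False := by
  have hMe : L.M = ((0, 0), (0, 1)) := app_ext _ _ fun v => by
    rcases v2_cases v with rfl | rfl | rfl | rfl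
    · simp [app]
    · rw [L.ker]; decide
    · rw [hm]; decide
    · rw [app_add_right, L.ker, hm]; decide
  set y' := c.t * L.y * c.t⁻¹ with hy'
  have hμ' : B.Mu y' (tc L.M) := B.mu_swap L.mu c.tS c.tT
  set w := L.y * y' with hw
  have hμw : B.Mu w ((1, 0), (0, 1)) := by
    have := B.mu_mul L.mu hμ'
    rwa [hMe, show (((0, 0), (0, 1)) : M4) + tc ((0, 0), (0, 1)) = ((1, 0), (0, 1)) by decide] at this
  have hd2 : w * w * (w * w) = 1 := by
    by_contra hne
    obtain ⟨n, v, hn, hnv, hv⟩ := B.power (B.mu_sq hμw) hne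
    have e := B.act hμw hn hnv
    rw [(((Commute.refl w).mul_right (Commute.refl w)).pow_right n).eq, mul_inv_cancel_right, right_eq_mul,
      B.pt_eq_one] at e
    apply hv
    rcases v2_cases v with rfl | rfl | rfl | rfl <;> first | rfl | exact absurd e (by decide)
  have hdU : w * w ∈ c.U := B.inv_U (B.mu_sq hμw) hd2
  have htw : c.t * w * c.t⁻¹ = w⁻¹ := by
    have hti : c.t⁻¹ = c.t := inv_of_sq c.tt
    have e1 : c.t * y' * c.t⁻¹ = L.y := by
      rw [hy', hti, ← mul_assoc, ← mul_assoc, c.tt, one_mul, mul_assoc, c.tt, mul_one]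
    have hy'i : y'⁻¹ = y' := inv_of_sq (by rw [hy', show c.t * L.y * c.t⁻¹ * (c.t * L.y * c.t⁻¹) =
      c.t * (L.y * L.y) * c.t⁻¹ by group, L.yy]; group)
    rw [hw, show c.t * (L.y * y') * c.t⁻¹ = (c.t * L.y * c.t⁻¹) * (c.t * y' * c.t⁻¹) by group, ← hy', e1,
      mul_inv_rev, hy'i, inv_of_sq L.yy]
  have htd : c.t * (w * w) * c.t⁻¹ = w * w := by
    rw [show c.t * (w * w) * c.t⁻¹ = (c.t * w * c.t⁻¹) * (c.t * w * c.t⁻¹) by group, htw, ← mul_inv_rev,
      inv_of_sq hd2]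
  rcases c.iso _ (c.T_le (c.U_le hdU)) (c.mem_T.1 (c.U_le hdU)).2 hd2 (mul_inv_eq_iff_eq_mul.1 htd).symm with h | h
  · rcases c.iso w (c.T_le (B.mu_T hμw)) (c.mem_T.1 (B.mu_T hμw)).2 h
      (mul_inv_eq_iff_eq_mul.1 (htw.trans (inv_of_sq h))).symm with e | e
    · exact absurd (B.mu_unique (e ▸ hμw) B.mu_one) (by decide)
    · exact absurd (B.mu_unique (e ▸ hμw) (B.mu_U c.zU)) (by decide)
  · have hy'' : y' * L.y * y'⁻¹ = L.y * c.z := by
      have hy'y' : y' * y' = 1 := by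
        rw [hy', show c.t * L.y * c.t⁻¹ * (c.t * L.y * c.t⁻¹) = c.t * (L.y * L.y) * c.t⁻¹ by group, L.yy]; group
      rw [inv_of_sq hy'y', ← h, hw, show L.y * (L.y * y' * (L.y * y')) = (L.y * L.y) * (y' * L.y * y') by group,
        L.yy, one_mul]
    rcases htr y' c.z c.zU hy'' with e | e
    · exact c.z1 e
    · exact c.uz_ne_z e.symm

end LineCase

end CfsgLib.Nonconn
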