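import Cfsg.Agent.Lib.Nonconn.Line
import Cfsg.Agent.Lib.Nonconn.Cyclic

/-!
The line case with translation `z` is impossible.

Blueprint: `blueprint/S0503.md`, case A16, Pz.
-/

set_option autoImplicit false
set_option linter.unusedSectionVars false
set_option maxRecDepth 8000
set_option synthInstance.maxSize 1024
set_option maxHeartbeats 800000

namespace CfsgLib.Nonconn

open Subgroup MacWilliams
open scoped Pointwise

variable {G : Type*} [Group G] [Finite G]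

theorem pairs_facts : (((0, 0), (1, 1)) : M4) + tc ((0, 0), (1, 1)) = jj ∧
    app (tc ((0, 0), (1, 1))) (1, 0) = (1, 1) ∧ (jj : M4) ≠ 0 ∧ app (((1, 0), (0, 1)) : M4) (1, 1) = (1, 1) ∧
    tc (((1, 0), (0, 1)) : M4) = ((1, 0), (0, 1)) ∧ jj + ((0, 0), (1, 1)) ≠ (0 : M4) := by decide +kernel

theorem pairs_root_J : ∀ w : V2, app (((0, 0), (1, 1)) : M4) w = w → w = 0 ∨ w = (1, 1) := by decide +kernel

theorem pairs_root_C : ∀ w : V2, app (((0, 0), (1, 1)) : M4) w = 0 → w = 0 ∨ w = (1, 0) := by decide +kernel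

theorem pairs_span : ∀ N : M4, app N (1, 0) = (1, 0) →
    N = ((1, 0), (0, 1)) ∨ N + ((0, 0), (1, 1)) = ((1, 0), (0, 1)) ∨
    (om ∈ BigCase.sums ([((0, 0), (1, 1)), N] ++ [((0, 0), (1, 1)), N].map tc) ∧
      jj ∈ BigCase.sums ([((0, 0), (1, 1)), N] ++ [((0, 0), (1, 1)), N].map tc)) := by decide +kernel

namespace LineCase

variable {c : Ctx G} {B : BigCase c} (L : LineCase B)
include L

/-- The first sub-case is impossible. -/
theorem false_of_pairs (hm : app L.M (0, 1) = (1, 1))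
    (hn : ∃ n : G, n * L.y = L.y * n ∧ n ∈ normalizer (c.C L.y : Set G) ∧
        n * c.u * n⁻¹ = c.u ∧ n * c.z * n⁻¹ = L.y * c.z)
    (htr : ∀ g : G, ∀ e ∈ c.U, g * L.y * g⁻¹ = L.y * e → e = 1 ∨ e = c.z) : False := by
  classical
  obtain ⟨n, hny, hnP, hnu, hnz⟩ := hn
  obtain ⟨hfsum, hftc, hjj0, hfI, hftI, hfjM⟩ := pairs_facts
  have hti : c.t⁻¹ = c.t := inv_of_sq c.tt
  have htt : ∀ p, c.t * (c.t * p * c.t⁻¹) * c.t⁻¹ = p := fun p => by
    rw [hti, ← mul_assoc, ← mul_assoc, c.tt, one_mul, mul_assoc, c.tt, mul_one]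
  have hM : L.M = ((0, 0), (1, 1)) := app_ext _ _ fun v => by
    rcases v2_cases v with rfl | rfl | rfl | rfl
    · simp [app]
    · rw [L.ker]; decide
    · rw [hm]; decide
    · rw [app_add_right, L.ker, hm]; decide
  have hμy : B.Mu L.y ((0, 0), (1, 1)) := hM ▸ L.mu
  have hyT := L.yT
  have hyy := L.yy
  have hyi : L.y⁻¹ = L.y := inv_of_sq hyy
  set y := L.y with hy
  set y' := c.t * y * c.t⁻¹ with hy'
  have hμy' : B.Mu y' (tc ((0, 0), (1, 1))) := B.mu_swap hμy c.tS c.tT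
  have hy'y' : y' * y' = 1 := by
    rw [hy', show c.t * y * c.t⁻¹ * (c.t * y * c.t⁻¹) = c.t * (y * y) * c.t⁻¹ by group, hyy]; group
  have hy'i : y'⁻¹ = y' := inv_of_sq hy'y'
  have hty' : c.t * y' * c.t⁻¹ = y := htt y
  set v := y * y' with hv
  have hμv : B.Mu v jj := hfsum ▸ B.mu_mul hμy hμy'
  set d := v * v with hd
  have hμd : B.Mu d 0 := B.mu_sq hμv
  have hdd : d * d ≠ 1 := B.not_norm_jj hμv
  have hyd : y * d * y⁻¹ = d⁻¹ := by
    rw [hd, hv, hyi, show y * (y * y' * (y * y')) * y = (y * y) * (y' * y * y' * y) by group, hyy, one_mul,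
      mul_inv_rev, mul_inv_rev, hyi, hy'i]
    group
  have htd : c.t * d * c.t⁻¹ = d⁻¹ := by
    rw [hd, hv, show c.t * (y * y' * (y * y')) * c.t⁻¹ =
      (c.t * y * c.t⁻¹) * (c.t * y' * c.t⁻¹) * ((c.t * y * c.t⁻¹) * (c.t * y' * c.t⁻¹)) by group, ← hy', hty',
      show (y * y' * (y * y'))⁻¹ = y'⁻¹ * y⁻¹ * (y'⁻¹ * y⁻¹) by group, hyi, hy'i]
  have hdT : d ∈ c.T := B.mu_T hμd
  -- elements of the centraliser of `y` keep `a` up to `u`
  have hP : ∀ {g : G} {N : M4}, g ∈ c.C y → B.Mu g N → app N (1, 0) = 0 ∨ app N (1, 0) = (1, 0) := by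
    intro g N hg hN
    have he := B.act hN L.aA (v := (1, 0)) (L.aa.trans B.pt_10.symm)
    have hmem : n * B.pt (app N (1, 0)) * n⁻¹ ∈ c.T ∧ B.Mu (n * B.pt (app N (1, 0)) * n⁻¹) 0 := by
      have e : B.pt (app N (1, 0)) = g * L.a * g⁻¹ * L.a⁻¹ := by rw [he, mul_inv_cancel_right]
      have e2 : n * B.pt (app N (1, 0)) * n⁻¹ =
          (n * g * n⁻¹) * (n * L.a * n⁻¹) * (n * g * n⁻¹)⁻¹ * (n * L.a * n⁻¹)⁻¹ := by rw [e]; group
      obtain ⟨P, hP'⟩ := B.exists_mu (L.C_T ((mem_normalizer_iff.1 hnP g).1 hg))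
      obtain ⟨Q, hQ'⟩ := B.exists_mu (L.C_T ((mem_normalizer_iff.1 hnP L.a).1 L.aC))
      have h0 := B.mu_mul (B.mu_mul (B.mu_mul hP' hQ') (B.mu_inv hP')) (B.mu_inv hQ')
      rw [show P + Q + P + Q = 0 by rw [show P + Q + P + Q = (P + P) + (Q + Q) by abel, m4_self_add, m4_self_add,
        add_zero], ← e2] at h0
      exact ⟨B.mu_T h0, h0⟩
    have hno : ∀ e ∈ c.U, ¬ B.Mu (y * e) 0 := by
      intro e he' h
      exact L.M0 (B.mu_unique (by simpa using B.mu_mul L.mu (B.mu_U he')) h)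
    rcases v2_cases (app N (1, 0)) with h | h | h | h
    · exact Or.inl h
    · exact Or.inr h
    · exfalso
      rw [h, B.pt_01, show n * (c.u * c.z) * n⁻¹ = (n * c.u * n⁻¹) * (n * c.z * n⁻¹) by group, hnu, hnz,
        ← mul_assoc, ← c.T_U hyT c.uU, mul_assoc] at hmem
      exact hno _ (mul_mem c.uU c.zU) hmem.2
    · exfalso
      rw [h, B.pt_add, B.pt_10, B.pt_01, ← mul_assoc c.u, c.uu, one_mul, hnz] at hmem
      exact hno _ c.zU hmem.2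
  -- the elements of the kernel inverted by `y`
  let J : G → Prop := fun x => B.Mu x 0 ∧ y * x * y⁻¹ = x⁻¹
  obtain ⟨K₀, g₀, hg₀, hg₀z, hg₀o, hg₀gen⟩ := B.exists_cyclic J (w := c.z) (fun x hx => hx.1)
    (fun e he => ⟨B.mu_U he, by rw [c.T_U hyT he, mul_inv_cancel_right, inv_of_sq (c.U_sq he)]⟩)
    (fun p q hp hq hpq => ⟨by simpa using B.mu_mul hp.1 hq.1, by
      rw [show y * (p * q) * y⁻¹ = (y * p * y⁻¹) * (y * q * y⁻¹) by group, hp.2, hq.2, ← mul_inv_rev, hpq]⟩)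
    (fun p hp => ⟨B.mu_inv hp.1, by rw [← conj_inv, hp.2]⟩)
    (fun p hp h4 => by
      have hpA := B.order_four hp.1 h4
      obtain ⟨w, hw⟩ := B.pt_surj (B.AG_sq hpA)
      have e := B.act hμy hpA hw.symm
      rw [hp.2] at e
      have e2 : B.pt (app (((0, 0), (1, 1)) : M4) w) = B.pt w := by
        rw [eq_mul_inv_of_mul_eq e.symm, ← mul_inv_rev, ← hw]
        exact inv_of_sq (c.U_sq (B.pt_mem w))
      rcases pairs_root_J w (B.pt_inj e2) with rfl | rfl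
      · left; rw [← hw, B.pt_zero]
      · right; rw [← hw, B.pt_11])
    ⟨d, ⟨hμd, hyd⟩, hdd⟩
  have hg₀T : g₀ ∈ c.T := B.mu_T hg₀.1
  -- `d` is a generator
  obtain ⟨i₀, e₀, he₀, hde⟩ := hg₀gen d ⟨hμd, hyd⟩
  have hodd : Odd i₀ := by
    refine (Int.even_or_odd i₀).resolve_left ?_
    rintro ⟨q, hq⟩
    -- an element of the centraliser moving `a` by `z`
    have hconjpow : ∀ m : ℤ, y * g₀ ^ m * y⁻¹ = (g₀ ^ m)⁻¹ := fun m => by rw [← conj_zpow, hg₀.2, inv_zpow]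
    have key : ∀ m : ℤ, g₀ ^ (m + m) = d * e₀ ∨ g₀ ^ (m + m) = d * e₀ * c.z →
        (g₀ ^ m * y') * y * (g₀ ^ m * y')⁻¹ = y * (g₀ ^ (m + m))⁻¹ * d := by
      intro m _
      rw [mul_inv_rev, hy'i]
      calc g₀ ^ m * y' * y * (y' * (g₀ ^ m)⁻¹) = g₀ ^ m * (y * (y * y' * (y * y'))) * (g₀ ^ m)⁻¹ := by
            rw [show y * (y * y' * (y * y')) = (y * y) * (y' * y * y') by group, hyy, one_mul]; group
        _ = g₀ ^ m * (y * d) * (g₀ ^ m)⁻¹ := by rw [hd, hv]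
        _ = y * ((y⁻¹ * g₀ ^ m * y) * d * (g₀ ^ m)⁻¹) := by group
        _ = y * ((g₀ ^ m)⁻¹ * d * (g₀ ^ m)⁻¹) := by
            have := hconjpow m
            rw [hyi] at this
            rw [hyi, this]
        _ = _ := by
            have hc : Commute d (g₀ ^ m) := by
              rw [hde]
              exact ((Commute.zpow_zpow_self g₀ i₀ m)).mul_left (c.T_U (zpow_mem hg₀T m) he₀).symm
            rw [mul_assoc _ d, ← (hc.inv_right).eq.symm, zpow_add]; group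
    have hq' : g₀ ^ (q + q) = d * e₀ := by
      rw [← hq, hde, mul_assoc, c.U_sq he₀, mul_one]
    have h1 := key q (Or.inl hq')
    rw [hq', mul_inv_rev d, inv_of_sq (c.U_sq he₀), mul_assoc y, mul_assoc e₀, inv_mul_cancel, mul_one] at h1
    have fix : ∀ g : G, B.Mu g (tc ((0, 0), (1, 1))) → g * y * g⁻¹ = y → False := by
      intro g hg hgy
      rcases hP (c.mem_C.2 ⟨c.T_le (B.mu_T hg), mul_inv_eq_iff_eq_mul.1 hgy⟩) hg with h | h <;>
        rw [hftc] at h <;> exact absurd h (by decide)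
    rcases htr _ e₀ he₀ h1 with rfl | rfl
    · rw [mul_one] at h1
      exact fix _ (by simpa using B.mu_mul (B.mu_zpow hg₀.1 q) hμy') h1
    · have h2' : g₀ ^ ((q + (2 ^ K₀ : ℕ)) + (q + (2 ^ K₀ : ℕ))) = d := by
        rw [show (q + (2 ^ K₀ : ℕ)) + (q + (2 ^ K₀ : ℕ)) = (q + q) + ((2 ^ (K₀ + 1) : ℕ) : ℤ) by push_cast; ring,
          zpow_add, zpow_natCast, hg₀z, hq', mul_assoc, c.zz, mul_one]
      have h2 := key (q + (2 ^ K₀ : ℕ)) (Or.inr (by rw [h2', mul_assoc, c.zz, mul_one]))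
      rw [h2', inv_mul_cancel_right] at h2
      exact fix _ (by simpa using B.mu_mul (B.mu_zpow hg₀.1 (q + (2 ^ K₀ : ℕ))) hμy') h2
  have hdz : d ^ (2 ^ (K₀ + 1)) = c.z := by
    obtain ⟨q, hq⟩ := hodd
    rw [hde, (show Commute (g₀ ^ i₀) e₀ from c.T_U (zpow_mem hg₀T i₀) he₀).mul_pow,
      show e₀ ^ 2 ^ (K₀ + 1) = 1 by rw [pow_succ', pow_mul, pow_two, c.U_sq he₀, one_pow], mul_one,
      ← zpow_natCast, ← zpow_mul, mul_comm, zpow_mul, zpow_natCast, hg₀z, hq, zpow_add, zpow_mul, zpow_two, c.zz,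
      one_zpow, one_mul, zpow_one]
  have hordd : (orderOf d : ℤ) = 2 ^ (K₀ + 2) := by
    have : orderOf d = 2 ^ (K₀ + 2) := haveI := Fact.mk Nat.prime_two; orderOf_eq_prime_pow (by rw [hdz]; exact c.z1)
      (by rw [pow_succ, pow_mul, hdz, pow_two, c.zz])
    rw [this]; push_cast; rfl
  have hdU : ∀ {i : ℤ}, d ^ i ∈ c.U → d ^ i = 1 ∨ d ^ i = c.z := by
    intro i hi
    have h1 : d ^ (i * 2) = 1 := by rw [zpow_mul, zpow_two]; exact c.U_sq hi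
    rw [← orderOf_dvd_iff_zpow_eq_one, hordd, pow_succ] at h1
    obtain ⟨q, hq⟩ := Int.dvd_of_mul_dvd_mul_right (by norm_num) h1
    have e : d ^ i = c.z ^ q := by
      rw [hq, zpow_mul, ← hdz, ← zpow_natCast]; push_cast; rfl
    rcases Int.even_or_odd q with ⟨r, rfl⟩ | ⟨r, rfl⟩
    · left; rw [e, ← two_mul, zpow_mul, zpow_two, c.zz, one_zpow]
    · right; rw [e, zpow_add, zpow_mul, zpow_two, c.zz, one_zpow, one_mul, zpow_one]
  have hJgen : ∀ x, J x → ∃ (i : ℤ), ∃ e ∈ c.U, x = d ^ i * e := by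
    intro x hx
    obtain ⟨i, e, he, hxe⟩ := hg₀gen x hx
    obtain ⟨a', b', hab⟩ := (IsCoprime.pow_right (n := K₀ + 2) (by
      obtain ⟨q, hq⟩ := hodd; exact ⟨1, -q, by rw [hq]; ring⟩ : IsCoprime i₀ (2 : ℤ)))
    have hg : g₀ = d ^ a' * (e₀ ^ a')⁻¹ := by
      rw [hde, (show Commute (g₀ ^ i₀) e₀ from c.T_U (zpow_mem hg₀T i₀) he₀).mul_zpow, mul_inv_cancel_right,
        ← zpow_mul]
      have h0 : g₀ ^ ((2 : ℤ) ^ (K₀ + 2)) = 1 := by
        rw [show ((2 : ℤ) ^ (K₀ + 2)) = ((2 ^ (K₀ + 2) : ℕ) : ℤ) by push_cast; ring, zpow_natCast, ← hg₀o,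
          pow_orderOf_eq_one]
      have : i₀ * a' = 1 + 2 ^ (K₀ + 2) * (-b') := by linear_combination hab
      rw [this, zpow_add, zpow_mul, h0, one_zpow, mul_one, zpow_one]
    have hE : (e₀ ^ a')⁻¹ ∈ c.U := inv_mem (zpow_mem he₀ _)
    refine ⟨a' * i, (e₀ ^ a')⁻¹ ^ i * e, mul_mem (zpow_mem hE _) he, ?_⟩
    rw [hxe, hg, (show Commute (d ^ a') ((e₀ ^ a')⁻¹) from c.T_U (zpow_mem hdT a') hE).mul_zpow, zpow_mul, mul_assoc]
  have hypow : ∀ i : ℤ, y * d ^ i * y⁻¹ = (d ^ i)⁻¹ := fun i => by rw [← conj_zpow, hyd, inv_zpow]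
  -- translations of `y` by powers of `d`
  have hgk : ∀ k : ℤ, ∃ g : G, ∃ N : M4, B.Mu g N ∧ g * y * g⁻¹ = y * d ^ k ∧
      ((Even k ∧ N = 0) ∨ (Odd k ∧ N = tc ((0, 0), (1, 1)))) ∧
      ∃ i : ℤ, g = d ^ i ∨ g = d ^ i * y' := by
    intro k
    rcases Int.even_or_odd k with ⟨i, rfl⟩ | ⟨i, rfl⟩
    · refine ⟨d ^ (-i), 0, B.mu_zpow hμd _, ?_, Or.inl ⟨⟨i, rfl⟩, rfl⟩, -i, Or.inl rfl⟩
      have h := hypow (-i)
      rw [hyi] at h
      calc d ^ (-i) * y * (d ^ (-i))⁻¹ = y * (y⁻¹ * d ^ (-i) * y) * (d ^ (-i))⁻¹ := by group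
        _ = y * d ^ (i + i) := by rw [hyi, h]; group
    · refine ⟨d ^ (-i) * y', tc ((0, 0), (1, 1)), by simpa using B.mu_mul (B.mu_zpow hμd (-i)) hμy', ?_,
        Or.inr ⟨⟨i, rfl⟩, rfl⟩, -i, Or.inr rfl⟩
      have h := hypow (-i)
      rw [hyi] at h
      have hyd' : y' * y * y'⁻¹ = y * d := by
        rw [hy'i, hd, hv, show y * (y * y' * (y * y')) = (y * y) * (y' * y * y') by group, hyy, one_mul]
      rw [show d ^ (-i) * y' * y * (d ^ (-i) * y')⁻¹ = d ^ (-i) * (y' * y * y'⁻¹) * (d ^ (-i))⁻¹ by group, hyd']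
      calc d ^ (-i) * (y * d) * (d ^ (-i))⁻¹ = y * (y⁻¹ * d ^ (-i) * y) * (d * (d ^ (-i))⁻¹) := by group
        _ = _ := by rw [hyi, h]; group
  have hkey : ∀ x ∈ c.T, ∃ k : ℤ, x * y * x⁻¹ = y * d ^ k := by
    intro x hx
    obtain ⟨N, hN⟩ := B.exists_mu hx
    set δ := y * (x * y * x⁻¹) with hδ
    have hμδ : B.Mu δ 0 := by
      have h0 := B.mu_mul hμy (B.mu_conj hμy hx)
      rwa [m4_self_add] at h0
    have hδJ : J δ := ⟨hμδ, by
      have hxyx : (x * y * x⁻¹)⁻¹ = x * y * x⁻¹ := by rw [conj_inv, hyi]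
      rw [hδ, mul_inv_rev, hxyx, hyi, ← mul_assoc, hyy, one_mul]⟩
    obtain ⟨i, e, he, hδe⟩ := hJgen δ hδJ
    have hx' : x * y * x⁻¹ = y * (d ^ i * e) := by rw [← hδe, hδ, ← mul_assoc, hyy, one_mul]
    obtain ⟨g, P, hg, hgy, -, -⟩ := hgk i
    have hgT : g ∈ c.T := B.mu_T hg
    have h2 : g⁻¹ * x * y * (g⁻¹ * x)⁻¹ = y * e := by
      rw [show g⁻¹ * x * y * (g⁻¹ * x)⁻¹ = g⁻¹ * (x * y * x⁻¹) * g by group, hx', ← mul_assoc y, ← hgy,
        show g⁻¹ * (g * y * g⁻¹ * e) * g = y * (g⁻¹ * e * g⁻¹⁻¹) by group, c.T_U (inv_mem hgT) he,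
        mul_inv_cancel_right]
    rcases htr _ e he h2 with rfl | rfl
    · exact ⟨i, by rw [hx', mul_one]⟩
    · refine ⟨i + (2 ^ (K₀ + 1) : ℕ), ?_⟩
      rw [hx', zpow_add, zpow_natCast, hdz]
  have heven : ∀ {x}, B.Mu x 0 → ∀ {k : ℤ}, x * y * x⁻¹ = y * d ^ k → Even k := by
    intro x hx k hxy
    obtain ⟨g, N, hg, hgy, ⟨hk, -⟩ | ⟨-, rfl⟩, -⟩ := hgk k
    · exact hk
    exfalso
    have hgT : g ∈ c.T := B.mu_T hg
    have hmem : g⁻¹ * x ∈ c.C y := by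
      refine c.mem_C.2 ⟨mul_mem (inv_mem (c.T_le hgT)) (c.T_le (B.mu_T hx)), mul_inv_eq_iff_eq_mul.1 ?_⟩
      rw [show g⁻¹ * x * y * (g⁻¹ * x)⁻¹ = g⁻¹ * (x * y * x⁻¹) * g by group, hxy, ← hgy]
      group
    rcases hP hmem (by simpa using B.mu_mul (B.mu_inv hg) hx) with h | h <;>
      rw [hftc] at h <;> exact absurd h (by decide)
  -- conjugation on `y'` by the kernel
  have hy'D : ∀ {x}, B.Mu x 0 → ∃ r : ℤ, x * y' * x⁻¹ = y' * d ^ (2 * r) := by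
    intro x hx
    have hx' : B.Mu (c.t * x * c.t⁻¹) 0 := by
      have h0 := B.mu_swap hx c.tS c.tT
      rwa [show tc (0 : M4) = 0 by decide] at h0
    obtain ⟨k, hk⟩ := hkey _ (B.mu_T hx')
    obtain ⟨r, rfl⟩ := heven hx' hk
    refine ⟨-r, ?_⟩
    have h0 := congrArg (fun p => c.t * p * c.t⁻¹) hk
    rw [show c.t * (c.t * x * c.t⁻¹ * y * (c.t * x * c.t⁻¹)⁻¹) * c.t⁻¹ =
      (c.t * (c.t * x * c.t⁻¹) * c.t⁻¹) * (c.t * y * c.t⁻¹) * (c.t * (c.t * x * c.t⁻¹) * c.t⁻¹)⁻¹ by group,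
      htt, ← hy', show c.t * (y * d ^ (r + r)) * c.t⁻¹ = (c.t * y * c.t⁻¹) * (c.t * d ^ (r + r) * c.t⁻¹) by group,
      ← hy', ← conj_zpow, htd, inv_zpow, ← zpow_neg] at h0
    rw [h0]; congr 2; ring
  -- the centraliser of `y` in `T`
  have hCT : ∀ {x}, x ∈ c.T → x * y = y * x → ∀ {N}, B.Mu x N → N = 0 ∨ N = ((0, 0), (1, 1)) := by
    intro x hx hxy N hN
    rcases hP (c.mem_C.2 ⟨c.T_le hx, hxy⟩) hN with h | h
    · rw [← hM]
      refine L.fix_a hN ?_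
      have e := B.act hN L.aA (v := (1, 0)) (L.aa.trans B.pt_10.symm)
      rw [h, B.pt_zero, one_mul] at e
      exact mul_inv_eq_iff_eq_mul.1 e
    exfalso
    obtain ⟨g, hg, hgy⟩ : ∃ g, B.Mu g ((1, 0), (0, 1)) ∧ g * y = y * g := by
      rcases pairs_span N h with rfl | e | e
      · exact ⟨x, hN, hxy⟩
      · exact ⟨x * y, e ▸ B.mu_mul hN hμy, ((show Commute x y from hxy).mul_left (Commute.refl y)).eq⟩
      · refine (B.absurd_of_gens [((0, 0), (1, 1)), N] ?_ e).elim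
        simp only [List.mem_cons, List.mem_nil_iff, or_false]
        rintro p (rfl | rfl)
        exacts [B.mem_E hμy, B.mem_E hN]
    have hgT : g ∈ c.T := B.mu_T hg
    have hgyc : g * y * g⁻¹ = y := by rw [hgy, mul_inv_cancel_right]
    have hgd : J (g * d * g⁻¹) := ⟨B.mu_conj hμd hgT, by
      have hh : g⁻¹ * y * g = y := by rw [mul_assoc, ← hgy, inv_mul_cancel_left]
      rw [show y * (g * d * g⁻¹) * y⁻¹ = (y * g) * d * (g⁻¹ * y⁻¹) by group, ← hgy,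
        show g⁻¹ * y⁻¹ = (y * g)⁻¹ by group, ← hgy,
        show g * y * d * (g * y)⁻¹ = g * (y * d * y⁻¹) * g⁻¹ by group, hyd]
      group⟩
    obtain ⟨s, e, he, hse⟩ := hJgen _ hgd
    set g' := c.t * g * c.t⁻¹ with hg'
    have hμg' : B.Mu g' ((1, 0), (0, 1)) := hftI ▸ B.mu_swap hg c.tS c.tT
    have hg'y' : g' * y' * g'⁻¹ = y' := by
      rw [hg', hy', show c.t * g * c.t⁻¹ * (c.t * y * c.t⁻¹) * (c.t * g * c.t⁻¹)⁻¹ =
        c.t * (g * y * g⁻¹) * c.t⁻¹ by group, hgyc]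
    have htdz : ∀ m : ℤ, c.t * d ^ m * c.t⁻¹ = (d ^ m)⁻¹ := fun m => by rw [← conj_zpow, htd, inv_zpow]
    have hg'd : g' * d * g'⁻¹ = d ^ s * (c.t * e * c.t⁻¹) := by
      have h0 := congrArg (fun p => c.t * p⁻¹ * c.t⁻¹) hse
      rw [show c.t * (g * d * g⁻¹)⁻¹ * c.t⁻¹ =
        (c.t * g * c.t⁻¹) * (c.t * d * c.t⁻¹)⁻¹ * (c.t * g * c.t⁻¹)⁻¹ by group, htd, inv_inv, ← hg',
        show c.t * (d ^ s * e)⁻¹ * c.t⁻¹ = (c.t * e⁻¹ * c.t⁻¹) * (c.t * d ^ s * c.t⁻¹)⁻¹ by group, htdz, inv_inv,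
        inv_of_sq (c.U_sq he)] at h0
      rw [h0, c.T_U (zpow_mem hdT s) (c.U_normal c.tS he)]
    have hμδ : B.Mu (g'⁻¹ * g) 0 := by
      have h0 := B.mu_mul (B.mu_inv hμg') hg
      rwa [m4_self_add] at h0
    obtain ⟨r, hr⟩ := hy'D hμδ
    have hE : c.t * e * c.t⁻¹ ∈ c.U := c.U_normal c.tS he
    have hgy' : g * y' * g⁻¹ = y' * d ^ (s * (2 * r)) := by
      rw [show g * y' * g⁻¹ = g' * ((g'⁻¹ * g) * y' * (g'⁻¹ * g)⁻¹) * g'⁻¹ by group, hr,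
        show g' * (y' * d ^ (2 * r)) * g'⁻¹ = (g' * y' * g'⁻¹) * (g' * d ^ (2 * r) * g'⁻¹) by group, hg'y',
        ← conj_zpow, hg'd, (show Commute (d ^ s) _ from c.T_U (zpow_mem hdT s) hE).mul_zpow, ← zpow_mul,
        zpow_mul (c.t * e * c.t⁻¹), zpow_two, c.U_sq hE, one_zpow, mul_one]
    have hvd : Commute v d := (Commute.refl v).mul_right (Commute.refl v)
    set R : ℤ := s * (2 * r) with hR
    have hgd' : g * d * g⁻¹ = d ^ (1 + 2 * R) := by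
      rw [show g * d * g⁻¹ = (g * y * g⁻¹) * (g * y' * g⁻¹) * ((g * y * g⁻¹) * (g * y' * g⁻¹)) by
        rw [hd, hv]; group, hgyc, hgy', ← mul_assoc y, ← hv,
        show v * d ^ R * (v * d ^ R) = v * (d ^ R * v) * d ^ R by group, ← (hvd.zpow_right R).eq,
        show v * (v * d ^ R) * d ^ R = (v * v) * (d ^ R * d ^ R) by group, ← hd, ← zpow_add, zpow_add d 1, zpow_one]
      congr 2; ring
    have hd4 : (d ^ 2 ^ K₀) ^ 4 = 1 := by
      rw [← pow_mul, show 2 ^ K₀ * 4 = 2 ^ (K₀ + 1) * 2 by ring, pow_mul, hdz, pow_two, c.zz]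
    have hbA := B.order_four (B.mu_pow hμd _) hd4
    have hbz : d ^ 2 ^ K₀ * d ^ 2 ^ K₀ = B.pt (1, 1) := by rw [B.pt_11, ← pow_add, ← hdz]; ring_nf
    have e1 := B.act hg hbA hbz
    have h0 : d ^ ((2 : ℤ) ^ (K₀ + 2)) = 1 := by rw [← hordd, zpow_natCast, pow_orderOf_eq_one]
    rw [hfI, B.pt_11, ← conj_pow, hgd', ← zpow_natCast, ← zpow_mul,
      show (1 + 2 * R) * ((2 ^ K₀ : ℕ) : ℤ) = ((2 ^ K₀ : ℕ) : ℤ) + 2 ^ (K₀ + 2) * (s * r) by
        rw [hR]; push_cast; ring,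
      zpow_add, zpow_mul, h0, one_zpow, mul_one, zpow_natCast] at e1
    exact c.z1 (right_eq_mul.1 e1)
  -- the kernel centraliser of `y`
  let CD : G → Prop := fun x => B.Mu x 0 ∧ x * y = y * x
  obtain ⟨K₁, E₀, hE₀, hE₀u, hE₀o, hE₀gen⟩ := B.exists_cyclic CD (w := c.u) (fun x hx => hx.1)
    (fun e he => ⟨B.mu_U he, (c.T_U hyT he).symm⟩)
    (fun p q hp hq _ => ⟨by simpa using B.mu_mul hp.1 hq.1,
      ((show Commute p y from hp.2).mul_left (show Commute q y from hq.2)).eq⟩)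
    (fun p hp => ⟨B.mu_inv hp.1, ((show Commute p y from hp.2).inv_left).eq⟩)
    (fun p hp h4 => by
      have hpA := B.order_four hp.1 h4
      obtain ⟨w, hw⟩ := B.pt_surj (B.AG_sq hpA)
      have e := B.act hμy hpA hw.symm
      rw [← hp.2, mul_inv_cancel_right, right_eq_mul, B.pt_eq_one] at e
      rcases pairs_root_C w e with rfl | rfl
      · left; rw [← hw, B.pt_zero]
      · right; rw [← hw, B.pt_10])
    ⟨L.a, ⟨B.mu_AG L.aA, L.ya.symm⟩, by rw [L.aa]; exact c.u1⟩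
  have hE₀T : E₀ ∈ c.T := B.mu_T hE₀.1
  have hlam : ∀ {x}, B.Mu x 0 → x * y = y * x → ∃ l : ℤ, 4 ∣ l - 1 ∧ x * d * x⁻¹ = d ^ l := by
    intro x hx hxy
    obtain ⟨r, hr⟩ := hy'D hx
    have hvd : Commute v d := (Commute.refl v).mul_right (Commute.refl v)
    have hxyc : x * y * x⁻¹ = y := by rw [hxy, mul_inv_cancel_right]
    refine ⟨1 + 4 * r, ⟨r, by ring⟩, ?_⟩
    rw [show x * d * x⁻¹ = (x * y * x⁻¹) * (x * y' * x⁻¹) * ((x * y * x⁻¹) * (x * y' * x⁻¹)) by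
      rw [hd, hv]; group, hxyc, hr, ← mul_assoc y, ← hv,
      show v * d ^ (2 * r) * (v * d ^ (2 * r)) = v * (d ^ (2 * r) * v) * d ^ (2 * r) by group,
      ← (hvd.zpow_right (2 * r)).eq,
      show v * (v * d ^ (2 * r)) * d ^ (2 * r) = (v * v) * (d ^ (2 * r) * d ^ (2 * r)) by group, ← hd, ← zpow_add,
      zpow_add d 1, zpow_one]
    congr 2; ring
  have hmeet : ∀ {i j : ℤ}, d ^ i = E₀ ^ j → d ^ i = 1 ∧ E₀ ^ j = 1 := by
    intro i j hij
    have hc : y * (E₀ ^ j) * y⁻¹ = E₀ ^ j := by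
      rw [← ((show Commute E₀ y from hE₀.2).zpow_left j).eq, mul_inv_cancel_right]
    have h1 := hypow i
    rw [hij, hc] at h1
    have hU : E₀ ^ j ∈ c.U := B.inv_U (B.mu_zpow hE₀.1 j) (by
      nth_rewrite 2 [h1]; exact mul_inv_cancel _)
    rcases hdU (i := i) (hij.symm ▸ hU) with h | h
    · exact ⟨h, hij ▸ h⟩
    · exfalso
      rw [h] at hij
      -- `z` is not a power of `E₀`
      have h2 : E₀ ^ (j * 2) = 1 := by rw [zpow_mul, zpow_two, ← hij, c.zz]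
      rw [← orderOf_dvd_iff_zpow_eq_one, hE₀o] at h2
      push_cast at h2
      rw [pow_succ] at h2
      obtain ⟨q, hq⟩ := Int.dvd_of_mul_dvd_mul_right (by norm_num) h2
      have e : E₀ ^ j = c.u ^ q := by rw [hq, zpow_mul, ← hE₀u, ← zpow_natCast]; push_cast; rfl
      rcases Int.even_or_odd q with ⟨p, rfl⟩ | ⟨p, rfl⟩
      · rw [← two_mul, zpow_mul, zpow_two, c.uu, one_zpow] at e
        exact c.z1 (hij.trans e)
      · rw [zpow_add, zpow_mul, zpow_two, c.uu, one_zpow, one_mul, zpow_one] at e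
        exact c.uz (hij.trans e).symm
  -- the normal subgroup
  let Δ : Subgroup G := zpowers v ⊔ zpowers y
  have hyv : zpowers y ≤ normalizer (zpowers v : Set G) := by
    have key : ∀ q ∈ zpowers v, y * q * y⁻¹ ∈ zpowers v := by
      rintro q ⟨i, rfl⟩
      show y * v ^ i * y⁻¹ ∈ zpowers v
      rw [← conj_zpow]
      have : y * v * y⁻¹ = v⁻¹ := by
        rw [hv, hyi, show y * (y * y') * y = (y * y) * y' * y by group, hyy, one_mul, mul_inv_rev, hy'i, hyi]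
      rw [this]; exact zpow_mem (inv_mem (mem_zpowers v)) i
    refine zpowers_le.2 (mem_normalizer_iff.2 fun q => ⟨key q, fun hq => ?_⟩)
    have := key _ hq
    rw [hyi] at this
    rwa [show y * (y * q * y) * y = (y * y) * q * (y * y) by group, hyy, one_mul, mul_one] at this
  have hΔ : (Δ : Set G) = (zpowers v : Set G) * (zpowers y : Set G) := coe_mul_of_right_le_normalizer_left _ _ hyv
  have hyΔ : y ∈ Δ := mem_sup_right (mem_zpowers _)
  have hvΔ : v ∈ Δ := mem_sup_left (mem_zpowers _)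
  have hy'Δ : y' ∈ Δ := by
    have := mul_mem hyΔ hvΔ
    rwa [hv, ← mul_assoc, hyy, one_mul] at this
  have hdΔ : d ∈ Δ := mul_mem hvΔ hvΔ
  have htΔ : ∀ p ∈ Δ, c.t * p * c.t⁻¹ ∈ Δ := by
    have : Δ ≤ Δ.comap (MulAut.conj c.t).toMonoidHom := sup_le
      (zpowers_le.2 (by
        show c.t * v * c.t⁻¹ ∈ Δ
        rw [hv, show c.t * (y * y') * c.t⁻¹ = (c.t * y * c.t⁻¹) * (c.t * y' * c.t⁻¹) by group, ← hy', hty']
        exact mul_mem hy'Δ hyΔ))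
      (zpowers_le.2 (by show c.t * y * c.t⁻¹ ∈ Δ; rw [← hy']; exact hy'Δ))
    exact fun p hp => this hp
  have hTy : ∀ x ∈ c.T, x * y * x⁻¹ ∈ Δ := fun x hx => by
    obtain ⟨k, hk⟩ := hkey x hx
    rw [hk]; exact mul_mem hyΔ (zpow_mem hdΔ k)
  have hTΔ : ∀ x ∈ c.T, ∀ p ∈ Δ, x * p * x⁻¹ ∈ Δ := by
    intro x hx
    have h2 : x * y' * x⁻¹ ∈ Δ := by
      have h0 := htΔ _ (hTy _ (c.T_normal c.tS hx))
      rwa [show c.t * (c.t * x * c.t⁻¹ * y * (c.t * x * c.t⁻¹)⁻¹) * c.t⁻¹ =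
        (c.t * (c.t * x * c.t⁻¹) * c.t⁻¹) * (c.t * y * c.t⁻¹) * (c.t * (c.t * x * c.t⁻¹) * c.t⁻¹)⁻¹ by group,
        htt, ← hy'] at h0
    have : Δ ≤ Δ.comap (MulAut.conj x).toMonoidHom := sup_le
      (zpowers_le.2 (by
        show x * v * x⁻¹ ∈ Δ
        rw [hv, show x * (y * y') * x⁻¹ = (x * y * x⁻¹) * (x * y' * x⁻¹) by group]
        exact mul_mem (hTy x hx) h2))
      (zpowers_le.2 (hTy x hx))
    exact fun p hp => this hp
  have hSΔ : ∀ s ∈ (c.S : Subgroup G), ∀ p ∈ Δ, s * p * s⁻¹ ∈ Δ := by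
    intro s hs p hp
    by_cases hsT : s ∈ c.T
    · exact hTΔ s hsT p hp
    · have := hTΔ _ (c.mul_outer hs c.tS hsT c.tT) _ (htΔ p hp)
      rw [hti] at this
      rwa [show s * c.t * (c.t * p * c.t) * (s * c.t)⁻¹ = s * ((c.t * c.t) * p * (c.t * c.t⁻¹)) * s⁻¹ by group,
        c.tt, one_mul, mul_inv_cancel, mul_one] at this
  have huΔ : c.u ∉ Δ := by
    intro hu
    have hu' : c.u ∈ (zpowers v : Set G) * (zpowers y : Set G) := hΔ ▸ hu
    obtain ⟨p, ⟨i, rfl⟩, q, ⟨j, rfl⟩, hpq⟩ := hu'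
    simp only at hpq
    have hj : y ^ j = 1 ∨ y ^ j = y := by
      rcases Int.even_or_odd j with ⟨r, rfl⟩ | ⟨r, rfl⟩
      · left; rw [← two_mul, zpow_mul, zpow_two, hyy, one_zpow]
      · right; rw [zpow_add, zpow_mul, zpow_two, hyy, one_zpow, one_mul, zpow_one]
    have hi : ∃ r : ℤ, v ^ i = d ^ r ∨ v ^ i = d ^ r * v := by
      rcases Int.even_or_odd i with ⟨r, rfl⟩ | ⟨r, rfl⟩
      · exact ⟨r, Or.inl (by rw [← two_mul, zpow_mul, zpow_two, hd])⟩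
      · exact ⟨r, Or.inr (by rw [zpow_add, zpow_mul, zpow_two, zpow_one, hd])⟩
    obtain ⟨r, hr⟩ := hi
    have hu0 := B.mu_U c.uU
    rw [← hpq] at hu0
    rcases hr with hr | hr <;> rcases hj with hj | hj <;> rw [hr, hj] at hu0 hpq
    · rw [mul_one] at hpq
      rcases hdU (i := r) (by rw [hpq]; exact c.uU) with h | h <;> rw [h] at hpq
      exacts [c.u1 hpq.symm, c.uz hpq.symm]
    · exact L.M0 (hM.trans (B.mu_unique (by simpa using B.mu_mul (B.mu_zpow hμd r) hμy) hu0))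
    · exact hjj0 (B.mu_unique (by simpa using B.mu_mul (B.mu_zpow hμd r) hμv) hu0)
    · exact hfjM (B.mu_unique (by simpa using B.mu_mul (B.mu_mul (B.mu_zpow hμd r) hμv) hμy) hu0)
  -- decomposition modulo `Δ`
  have hdecT : ∀ x ∈ c.T, ∃ p ∈ Δ, ∃ i : ℤ, x = p * E₀ ^ i := by
    intro x hx
    obtain ⟨k, hk⟩ := hkey x hx
    obtain ⟨g, N, hg, hgy, -, i, hgi⟩ := hgk k
    have hgT : g ∈ c.T := B.mu_T hg
    have hgΔ : g ∈ Δ := by
      rcases hgi with e | e <;> rw [e]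
      exacts [zpow_mem hdΔ i, mul_mem (zpow_mem hdΔ i) hy'Δ]
    set w := g⁻¹ * x with hw
    have hwy : w * y = y * w := by
      refine mul_inv_eq_iff_eq_mul.1 ?_
      rw [hw, show g⁻¹ * x * y * (g⁻¹ * x)⁻¹ = g⁻¹ * (x * y * x⁻¹) * g by group, hk, ← hgy]
      group
    have hwT : w ∈ c.T := mul_mem (inv_mem hgT) hx
    obtain ⟨P, hP'⟩ := B.exists_mu hwT
    obtain ⟨q, hq, hqμ, hqy, hqw⟩ : ∃ q ∈ Δ, B.Mu (q * w) 0 ∧ q * w * y = y * (q * w) ∧ q⁻¹ ∈ Δ := by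
      rcases hCT hwT hwy hP' with rfl | rfl
      · exact ⟨1, one_mem _, by rwa [one_mul], by rwa [one_mul], inv_mem (one_mem _)⟩
      · refine ⟨y, hyΔ, ?_, by rw [mul_assoc, hwy], inv_mem hyΔ⟩
        have h0 := B.mu_mul hμy hP'
        rwa [m4_self_add] at h0
    obtain ⟨i', e, he, hwe⟩ := hE₀gen _ ⟨hqμ, hqy⟩
    have hzΔ : c.z ∈ Δ := hdz ▸ pow_mem hdΔ _
    have hx2 : x = g * q⁻¹ * (E₀ ^ i' * e) := by rw [← hwe, hw]; group
    have hzc : E₀ ^ i' * c.z = c.z * E₀ ^ i' := c.zc _ (c.T_le (zpow_mem hE₀T i'))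
    rcases he with rfl | rfl | rfl | rfl
    · exact ⟨g * q⁻¹, mul_mem hgΔ hqw, i', by rw [hx2, mul_one]⟩
    · exact ⟨g * q⁻¹ * c.z, mul_mem (mul_mem hgΔ hqw) hzΔ, i', by rw [hx2, hzc]; group⟩
    · exact ⟨g * q⁻¹, mul_mem hgΔ hqw, i' + (2 ^ (K₁ + 1) : ℕ), by rw [hx2, zpow_add, zpow_natCast, hE₀u]⟩
    · refine ⟨g * q⁻¹ * c.z, mul_mem (mul_mem hgΔ hqw) hzΔ, i' + (2 ^ (K₁ + 1) : ℕ), ?_⟩
      rw [hx2, zpow_add, zpow_natCast, hE₀u, c.zu_comm, ← mul_assoc (E₀ ^ i'), hzc]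
      group
  -- `t` fixes `E₀` modulo `Δ`
  have htE : c.t * E₀ * c.t⁻¹ * E₀⁻¹ ∈ Δ := by
    set x := c.t * E₀ * c.t⁻¹ with hx
    have hμx : B.Mu x 0 := by
      have h0 := B.mu_swap hE₀.1 c.tS c.tT
      rwa [show tc (0 : M4) = 0 by decide] at h0
    have hxT : x ∈ c.T := B.mu_T hμx
    obtain ⟨k, hk⟩ := hkey x hxT
    obtain ⟨r, rfl⟩ := heven hμx hk
    have hw : CD (d ^ r * x) := by
      refine ⟨by simpa using B.mu_mul (B.mu_zpow hμd r) hμx, mul_inv_eq_iff_eq_mul.1 ?_⟩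
      rw [show d ^ r * x * y * (d ^ r * x)⁻¹ = d ^ r * (x * y * x⁻¹) * (d ^ r)⁻¹ by group, hk]
      have h1 := hypow r
      calc d ^ r * (y * d ^ (r + r)) * (d ^ r)⁻¹ = y * (y⁻¹ * d ^ r * y) * d ^ r := by group
        _ = y := by
          rw [hyi] at h1 ⊢
          rw [h1]; group
    obtain ⟨i', e, he, hwe⟩ := hE₀gen _ hw
    obtain ⟨γ, al, hxg⟩ : ∃ (γ : ℤ) (al : ℕ), x = d ^ γ * E₀ ^ al := by
      have key : ∀ (γ j : ℤ), x = d ^ γ * E₀ ^ j → ∃ (γ : ℤ) (al : ℕ), x = d ^ γ * E₀ ^ al := by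
        intro γ j hj
        refine ⟨γ, (j % (orderOf E₀ : ℤ)).toNat, ?_⟩
        rw [hj, ← zpow_natCast, Int.toNat_of_nonneg (Int.emod_nonneg _ (by have := orderOf_pos E₀; omega)),
          zpow_mod_orderOf]
      have hx2 : x = d ^ (-r) * (E₀ ^ i' * e) := by rw [← hwe]; group
      have hzc : E₀ ^ i' * c.z = c.z * E₀ ^ i' := c.zc _ (c.T_le (zpow_mem hE₀T i'))
      have hz' : d ^ ((2 ^ (K₀ + 1) : ℕ) : ℤ) = c.z := by rw [zpow_natCast]; exact hdz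
      have hu' : E₀ ^ ((2 ^ (K₁ + 1) : ℕ) : ℤ) = c.u := by rw [zpow_natCast]; exact hE₀u
      rcases he with rfl | rfl | rfl | rfl
      · exact key (-r) i' (by rw [hx2, mul_one])
      · exact key (-r + (2 ^ (K₀ + 1) : ℕ)) i' (by rw [hx2, hzc, zpow_add, hz']; group)
      · exact key (-r) (i' + (2 ^ (K₁ + 1) : ℕ)) (by rw [hx2, zpow_add, hu'])
      · refine key (-r + (2 ^ (K₀ + 1) : ℕ)) (i' + (2 ^ (K₁ + 1) : ℕ)) ?_
        rw [hx2, zpow_add, zpow_add, hz', hu', c.zu_comm, ← mul_assoc (E₀ ^ i'), hzc]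
        group
    have hEal : ∀ {m : ℕ}, (E₀ ^ m) * y = y * E₀ ^ m := fun {m} => ((show Commute E₀ y from hE₀.2).pow_left m).eq
    obtain ⟨l, hl4, hl⟩ := hlam (B.mu_pow hE₀.1 al) hEal
    have hconjd : ∀ m : ℤ, E₀ ^ al * d ^ m * (E₀ ^ al)⁻¹ = d ^ (l * m) := fun m => by
      rw [← conj_zpow, hl, zpow_mul]
    have hpw : ∀ m : ℕ, x ^ m = d ^ (γ * geom l m) * E₀ ^ (al * m) := by
      intro m
      induction m with
      | zero => simp [geom]
      | succ m ih =>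
        rw [pow_succ', ih]
        calc x * (d ^ (γ * geom l m) * E₀ ^ (al * m))
            = d ^ γ * (E₀ ^ al * d ^ (γ * geom l m) * (E₀ ^ al)⁻¹) * (E₀ ^ al * E₀ ^ (al * m)) := by
              rw [hxg]; group
          _ = _ := by
              rw [hconjd, ← zpow_add, ← pow_add, geom_succ]
              congr 1
              · congr 1; ring
              · congr 1; ring
    -- the square root of `u z`
    have hN : x ^ (2 ^ (K₁ + 1)) = c.u * c.z := by rw [hx, conj_pow, hE₀u, c.tu]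
    rw [hpw, mul_comm al, pow_mul, hE₀u] at hN
    have halodd : Odd al := by
      refine (Nat.even_or_odd al).resolve_left fun ⟨p, hp⟩ => ?_
      rw [hp, ← two_mul, pow_mul, pow_two, c.uu, one_pow, mul_one] at hN
      rcases hdU (by rw [hN]; exact mul_mem c.uU c.zU) with h | h <;> rw [h] at hN
      exacts [c.uz1 hN.symm, c.uz_ne_z hN.symm]
    have hNz : d ^ (γ * geom l (2 ^ (K₁ + 1))) = c.z := by
      obtain ⟨p, hp⟩ := halodd
      rw [hp, pow_succ c.u, pow_mul, pow_two, c.uu, one_pow, one_mul] at hN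
      exact mul_right_cancel (hN.trans c.zu_comm)
    -- applying `t` twice
    have h2 : d ^ (-γ) * (d ^ (γ * geom l al) * E₀ ^ (al * al)) = E₀ := by
      have h0 : c.t * x * c.t⁻¹ = E₀ := htt E₀
      nth_rewrite 2 [← h0]
      rw [← hpw al]
      conv_rhs => rw [hxg, show c.t * (d ^ γ * E₀ ^ al) * c.t⁻¹ = (c.t * d ^ γ * c.t⁻¹) * (c.t * E₀ ^ al * c.t⁻¹)
        by group, ← conj_zpow, htd, ← conj_pow, ← hx, inv_zpow, ← zpow_neg]
    have h3 : d ^ (-γ + γ * geom l al) = E₀ ^ (1 - ((al * al : ℕ) : ℤ)) := by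
      rw [zpow_sub, zpow_one, zpow_natCast, zpow_add, eq_mul_inv_iff_mul_eq, mul_assoc]
      exact h2
    obtain ⟨hd1, -⟩ := hmeet h3
    obtain ⟨q, hq⟩ : ∃ q, al = q + 1 := ⟨al - 1, by have := halodd.pos; omega⟩
    have hd2 : d ^ (γ * l * geom l q) = 1 := by
      rw [← hd1, hq, geom_succ]; congr 1; ring
    suffices hqd : 2 ^ (K₁ + 2) ∣ q by
      have hq1 : E₀ ^ q = 1 := orderOf_dvd_iff_pow_eq_one.1 (by rw [hE₀o]; exact hqd)
      rw [hxg, hq, pow_succ, hq1, one_mul, mul_inv_cancel_right]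
      exact zpow_mem hdΔ γ
    by_contra hqn
    have hq0 : q ≠ 0 := by rintro rfl; exact hqn (dvd_zero _)
    obtain ⟨j, m, hm, hqjm⟩ := Nat.exists_eq_pow_mul_and_not_dvd hq0 2 (by norm_num)
    have hj : j ≤ K₁ + 1 := by
      by_contra hj
      exact hqn (hqjm ▸ Dvd.dvd.mul_right (pow_dvd_pow 2 (by omega)) m)
    obtain ⟨o, ho, hgo⟩ := geom_two_part hl4 j m (Nat.odd_iff.2 (Nat.two_dvd_ne_zero.1 hm))
    obtain ⟨o', -, hgo'⟩ := geom_two_part hl4 (K₁ + 1) 1 odd_one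
    rw [mul_one] at hgo'
    rw [hqjm, hgo, ← orderOf_dvd_iff_zpow_eq_one, hordd,
      show γ * l * (2 ^ j * o) = (γ * 2 ^ j) * (l * o) by ring] at hd2
    have hlo : Odd (l * o) := by
      refine Odd.mul ?_ ho
      obtain ⟨w, hw⟩ := hl4
      exact ⟨2 * w, by linarith⟩
    obtain ⟨w, hw⟩ := hlo
    have h5 := (IsCoprime.pow_left (⟨-w, 1, by rw [hw]; ring⟩ : IsCoprime (2 : ℤ) (l * o))).dvd_of_dvd_mul_right hd2
    obtain ⟨s, hs⟩ : (2 : ℤ) ^ j ∣ 2 ^ (K₁ + 1) := pow_dvd_pow 2 hj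
    have h6 : d ^ (γ * geom l (2 ^ (K₁ + 1))) = 1 := by
      rw [hgo', ← orderOf_dvd_iff_zpow_eq_one, hordd, hs, show γ * (2 ^ j * s * o') = γ * 2 ^ j * (s * o') by ring]
      exact h5.mul_right _
    exact c.z1 (hNz.symm.trans h6)
  -- the quotient is abelian
  let S' : Subgroup ↥(c.S : Subgroup G) := Δ.subgroupOf (c.S : Subgroup G)
  haveI : S'.Normal := ⟨fun p hp s => hSΔ s s.2 p hp⟩
  let π := QuotientGroup.mk' S'
  have hπ : ∀ (p : ↥(c.S : Subgroup G)), (p : G) ∈ Δ → π p = 1 := fun p hp => (QuotientGroup.eq_one_iff p).2 hp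
  let Eb := π ⟨E₀, c.T_le hE₀T⟩
  let tb := π ⟨c.t, c.tS⟩
  have hEt : Commute tb Eb := by
    have h0 := hπ (⟨c.t, c.tS⟩ * ⟨E₀, c.T_le hE₀T⟩ * ⟨c.t, c.tS⟩⁻¹ * ⟨E₀, c.T_le hE₀T⟩⁻¹) htE
    rw [map_mul, map_mul, map_mul, map_inv, map_inv, mul_inv_eq_one, mul_inv_eq_iff_eq_mul] at h0
    exact h0
  have hgen : ∀ s : ↥(c.S : Subgroup G), ∃ i j : ℤ, π s = Eb ^ i * tb ^ j := by
    intro s
    by_cases hsT : (s : G) ∈ c.T
    · obtain ⟨p, hp, i, hs⟩ := hdecT s hsT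
      refine ⟨i, 0, ?_⟩
      have hpS : p ∈ (c.S : Subgroup G) := by
        have := mul_mem (c.T_le hsT) (inv_mem (zpow_mem (c.T_le hE₀T) i))
        rwa [hs, mul_inv_cancel_right] at this
      rw [zpow_zero, mul_one, ← map_zpow, show s = ⟨p, hpS⟩ * ⟨E₀, c.T_le hE₀T⟩ ^ i from Subtype.ext
        (by rw [Subgroup.coe_mul, SubgroupClass.coe_zpow]; exact hs), map_mul, hπ _ hp, one_mul]
    · obtain ⟨p, hp, i, hs⟩ := hdecT _ (c.mul_outer s.2 c.tS hsT c.tT)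
      refine ⟨i, 1, ?_⟩
      have hpS : p ∈ (c.S : Subgroup G) := by
        have := mul_mem (mul_mem s.2 c.tS) (inv_mem (zpow_mem (c.T_le hE₀T) i))
        rwa [hs, mul_inv_cancel_right] at this
      rw [zpow_one, ← map_zpow, ← map_mul, show s = ⟨p, hpS⟩ * (⟨E₀, c.T_le hE₀T⟩ ^ i * ⟨c.t, c.tS⟩) from Subtype.ext
        (by rw [Subgroup.coe_mul, Subgroup.coe_mul, SubgroupClass.coe_zpow, ← mul_assoc]; show (s : G) = p * E₀ ^ i * c.t
            rw [← hs, mul_assoc, c.tt, mul_one]), map_mul, hπ _ hp, one_mul]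
  have hcomm : ∀ p q : ↥(c.S : Subgroup G) ⧸ S', p * q = q * p := by
    intro p q
    obtain ⟨p, rfl⟩ := QuotientGroup.mk'_surjective S' p
    obtain ⟨q, rfl⟩ := QuotientGroup.mk'_surjective S' q
    obtain ⟨i, j, hi⟩ := hgen p
    obtain ⟨i', j', hi'⟩ := hgen q
    change π p * π q = π q * π p
    rw [hi, hi']
    exact (((Commute.zpow_zpow_self Eb i i').mul_right (hEt.symm.zpow_zpow i j')).mul_left
      ((hEt.zpow_zpow j i').mul_right (Commute.zpow_zpow_self tb j j'))).eq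
  letI : CommGroup (↥(c.S : Subgroup G) ⧸ S') :=
    { (inferInstance : Group (↥(c.S : Subgroup G) ⧸ S')) with mul_comm := hcomm }
  exact huΔ ((QuotientGroup.eq_one_iff (⟨c.u, c.uS⟩ : ↥(c.S : Subgroup G))).1 (B.u_dies π))

end LineCase

/-- The line case is impossible. -/
theorem LineCase.false_of {c : Ctx G} {B : BigCase c} (L : LineCase B) : False := by
  rcases L.two_cases with ⟨hm, hn, htr⟩ | ⟨hm, htr⟩
  · exact L.false_of_pairs hm hn htr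
  · exact L.false_of_e22 hm htr

end CfsgLib.Nonconn
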