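import Cfsg.Agent.Lib.Nonconn.Big

/-!
A maximal conjugate of `z` in the big case can be chosen to move the roots of `z`.

Blueprint: `blueprint/S0503.md`, case A16, reduction.
-/

set_option autoImplicit false
set_option linter.unusedSectionVars false

namespace CfsgLib.Nonconn

open Subgroup MacWilliams

variable {G : Type*} [Group G] [Finite G]

namespace Ctx

variable (c : Ctx G)

/-- Mapping two generators into `U` normalises it. -/
theorem mem_normalizer_U {n : G} (h1 : n * c.u * n⁻¹ ∈ c.U) (h2 : n * (c.u * c.z) * n⁻¹ ∈ c.U) :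
    n ∈ normalizer (c.U : Set G) := by
  have hle : ∀ e ∈ c.U, n * e * n⁻¹ ∈ c.U := by
    rintro e (rfl | rfl | rfl | rfl)
    · simp
    · rw [show n * c.z * n⁻¹ = (n * c.u * n⁻¹)⁻¹ * (n * (c.u * c.z) * n⁻¹) by group]
      exact mul_mem (inv_mem h1) h2
    · exact h1
    · exact h2
  have heq : c.U.map (MulAut.conj n).toMonoidHom = c.U := eq_of_le_of_card_ge
    (by rintro _ ⟨e, he, rfl⟩; exact hle e he) (card_map_of_injective (MulEquiv.injective _)).ge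
  refine mem_normalizer_iff.2 fun q => ⟨fun hq => hle q hq, fun hq => ?_⟩
  rw [← heq] at hq
  obtain ⟨r, hr, e⟩ := hq
  rwa [← (MulAut.conj n).injective e]

theorem Cand.conj {y s : G} (hy : c.Cand y) (hs : s ∈ (c.S : Subgroup G)) : c.Cand (s * y * s⁻¹) := by
  refine ⟨mul_mem (mul_mem hs hy.1) (inv_mem hs), fun e => hy.2.1 ?_,
    (isConj_iff.2 ⟨s, rfl⟩).symm.trans hy.2.2⟩
  rw [show y = s⁻¹ * (s * y * s⁻¹) * s by group, e, mul_assoc, ← c.zc s hs, inv_mul_cancel_left]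

theorem C_conj {y s : G} (hs : s ∈ (c.S : Subgroup G)) :
    (c.C y).map (MulAut.conj s).toMonoidHom ≤ c.C (s * y * s⁻¹) := by
  rintro _ ⟨x, hx, rfl⟩
  obtain ⟨hxS, hxy⟩ := c.mem_C.1 hx
  refine c.mem_C.2 ⟨mul_mem (mul_mem hs hxS) (inv_mem hs), ?_⟩
  show s * x * s⁻¹ * (s * y * s⁻¹) = s * y * s⁻¹ * (s * x * s⁻¹)
  rw [show s * x * s⁻¹ * (s * y * s⁻¹) = s * (x * y) * s⁻¹ by group, hxy]
  group

theorem Top.conj {y s : G} (hy : c.Top y) (hs : s ∈ (c.S : Subgroup G)) : c.Top (s * y * s⁻¹) := by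
  refine ⟨Cand.conj c hy.1 hs, fun p hp => (hy.2 p hp).trans ?_⟩
  rw [← card_map_of_injective (f := (MulAut.conj s).toMonoidHom) (MulEquiv.injective _)]
  exact card_le_of_le (c.C_conj hs)

end Ctx

namespace BigCase

variable {c : Ctx G} (B : BigCase c)
include B

theorem cand_notU {y : G} (hy : c.Cand y) : y ∉ c.U := by
  rintro (e | e | e | e)
  · exact Ctx.Cand.ne_one c hy e
  · exact hy.2.1 e
  · exact B.noMove (e ▸ hy.2.2)
  · exact B.noMove (c.uz_conj.symm.trans (e ▸ hy.2.2))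

theorem mu_cand_ne {y : G} {M : M4} (hy : c.Cand y) (hM : B.Mu y M) : M ≠ 0 := fun e =>
  B.cand_notU hy (B.inv_U (e ▸ hM) (Ctx.Cand.sq c hy))

/-- The identity and the swap. -/
theorem fixed_cases {M : M4} (h : tc M = M) (h0 : M ≠ 0) (hj : M ≠ jj) :
    M = ((1, 0), (0, 1)) ∨ M = ((0, 1), (1, 0)) := by
  have := tc_fixed M h
  simp only [List.mem_cons, List.mem_nil_iff, or_false] at this
  rcases this with e | e | e | e
  exacts [absurd e h0, Or.inl e, absurd e hj, Or.inr e]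

/-- A root of `z` in the centraliser gives a maximal candidate with an outer root. -/
theorem root_reduce {y i : G} (hy : c.Top y) (hi : i ∈ c.C y) (hii : i * i = c.z) :
    ∃ (q r : G) (M : M4), c.Top q ∧ B.Mu q M ∧ (M = ((1, 0), (0, 1)) ∨ M = ((0, 1), (1, 0))) ∧
      r ∈ (c.S : Subgroup G) ∧ r ∉ c.T ∧ r * r = q := by
  obtain ⟨g, hg, hgC⟩ := c.extremal hy.1.1 hy.1.2.2
  have hgC' : ∀ x ∈ c.C y, g * x * g⁻¹ ∈ (c.S : Subgroup G) := fun x hx =>
    hgC x (c.mem_C.1 hx).1 (c.mem_C.1 hx).2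
  set q := g * c.z * g⁻¹ with hq
  set r := g * i * g⁻¹ with hr
  have hrS : r ∈ (c.S : Subgroup G) := hgC' i hi
  have hrr : r * r = q := by rw [hr, hq, ← hii]; group
  have hcand : c.Cand q := ⟨hrr ▸ mul_mem hrS hrS,
    fun e => hy.1.2.1 (mul_left_cancel (mul_right_cancel (hg.trans e.symm))),
    (isConj_iff.2 ⟨g, rfl⟩).symm⟩
  have hsub : (c.C y).map (MulAut.conj g).toMonoidHom ≤ c.C q := by
    rintro _ ⟨x, hx, rfl⟩
    refine c.mem_C.2 ⟨hgC' x hx, ?_⟩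
    show g * x * g⁻¹ * (g * c.z * g⁻¹) = g * c.z * g⁻¹ * (g * x * g⁻¹)
    rw [show g * x * g⁻¹ * (g * c.z * g⁻¹) = g * (x * c.z) * g⁻¹ by group, c.zc x (c.mem_C.1 hx).1]
    group
  have htop : c.Top q := ⟨hcand, fun p hp => (hy.2 p hp).trans (by
    rw [← card_map_of_injective (f := (MulAut.conj g).toMonoidHom) (MulEquiv.injective _)]
    exact card_le_of_le hsub)⟩
  have hqT : q ∈ c.T := hrr ▸ c.sq_mem_T hrS
  obtain ⟨M, hM⟩ := B.exists_mu hqT
  have hrT : r ∉ c.T := fun h => by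
    obtain ⟨N, hN⟩ := B.exists_mu h
    exact B.mu_cand_ne hcand hM (B.mu_unique hM (hrr ▸ B.mu_sq hN))
  refine ⟨q, r, M, htop, hM, ?_, hrS, hrT, hrr⟩
  refine B.fixed_cases (B.tc_eq_of_comm hM hrS hrT (by rw [← hrr]; group)) (B.mu_cand_ne hcand hM) ?_
  intro e
  refine B.not_norm_jj (e ▸ hM) ?_
  rw [Ctx.Cand.sq c hcand, one_mul]

/-- An outer involution fixes a root of `z`. -/
theorem outer_root {s : G} (hs : s ∈ (c.S : Subgroup G)) (hsT : s ∉ c.T) (hss : s * s = 1) :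
    ∃ i ∈ B.AG, i * s = s * i ∧ i * i = c.z := by
  obtain ⟨b, hb, hbb⟩ := B.root (1, 0)
  rw [B.pt_10] at hbb
  have hsi : s⁻¹ = s := inv_of_sq hss
  have hb' : s * b * s⁻¹ ∈ B.AG := B.AG_conj hs hb
  refine ⟨b * (s * b * s⁻¹), mul_mem hb hb', ?_, ?_⟩
  · rw [hsi]
    calc b * (s * b * s) * s = b * (s * b) * (s * s) := by group
      _ = b * (s * b * s) * s := by group
      _ = (s * b * s) * b * s := by have e := B.AG_comm hb hb'; rw [hsi] at e; rw [e]
      _ = s * (b * (s * b * s)) := by group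
  · rw [show b * (s * b * s⁻¹) * (b * (s * b * s⁻¹)) = b * ((s * b * s⁻¹) * b) * (s * b * s⁻¹) by group,
      ← B.AG_comm hb hb', show b * (b * (s * b * s⁻¹)) * (s * b * s⁻¹) = (b * b) * (s * (b * b) * s⁻¹) by group,
      hbb, c.outer hs hsT, ← mul_assoc, c.uu, one_mul]

/-- A maximal candidate in `T` moving the roots of `z`. -/
theorem exists_top_moving :
    ∃ (y : G) (M : M4), c.Top y ∧ B.Mu y M ∧ app M (1, 1) ≠ 0 := by
  obtain ⟨y, hy⟩ := c.exists_top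
  have fin : ∀ {i}, i ∈ c.C y → i * i = c.z → ∃ (y : G) (M : M4), c.Top y ∧ B.Mu y M ∧ app M (1, 1) ≠ 0 := by
    intro i hi hii
    obtain ⟨q, r, M, hq, hM, hIS, -, -, -⟩ := B.root_reduce hy hi hii
    exact ⟨q, M, hq, hM, by rcases hIS with rfl | rfl <;> decide⟩
  by_cases hyT : y ∈ c.T
  · obtain ⟨M, hM⟩ := B.exists_mu hyT
    by_cases hj : app M (1, 1) = 0
    · obtain ⟨b, hb, hbb⟩ := B.root (1, 1)
      have e := B.act hM hb hbb
      rw [hj, B.pt_zero, one_mul] at e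
      exact fin (c.mem_C.2 ⟨B.AG_le hb, (mul_inv_eq_iff_eq_mul.1 e).symm⟩) (hbb.trans B.pt_11)
    · exact ⟨y, M, hy, hM, hj⟩
  · obtain ⟨i, hi, hiy, hii⟩ := B.outer_root hy.1.1 hyT (Ctx.Cand.sq c hy.1)
    exact fin (c.mem_C.2 ⟨B.AG_le hi, hiy⟩) hii

end BigCase

end CfsgLib.Nonconn
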