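import Cfsg.Agent.Lib.Nonconn.Transfer
import Cfsg.Agent.Lib.RankThreeCentralizer
import Cfsg.Agent.Lib.AlmostCyclic.SylowTypes
import Cfsg.Agent.Lib.NormalRankTwo.AbBig
import Cfsg.Agent.Lib.FpfTwo.ClassTwo
import Cfsg.Agent.S0502

/-!
A simple group whose Sylow 2-subgroups have rank at least three and a disconnected graph of four-groups:
a normal four-group `U`, an involution `t` outside its centraliser `T` with fixed points of rank one.

Blueprint: `blueprint/S0503.md`, section 0.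
-/

set_option autoImplicit false
set_option linter.unusedSectionVars false

namespace CfsgLib.Nonconn

open Subgroup

variable {G : Type*} [Group G] [Finite G]

/-- An element of square one is its own inverse. -/
theorem inv_of_sq {x : G} (h : x * x = 1) : x⁻¹ = x := inv_eq_of_mul_eq_one_right h

/-- The data. -/
structure Ctx (G : Type*) [Group G] [Finite G] where
  S : Sylow 2 G
  u : G
  z : G
  t : G
  uS : u ∈ (S : Subgroup G)
  zS : z ∈ (S : Subgroup G)
  tS : t ∈ (S : Subgroup G)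
  uu : u * u = 1
  zz : z * z = 1
  tt : t * t = 1
  u1 : u ≠ 1
  z1 : z ≠ 1
  uz : u ≠ z
  zc : ∀ s ∈ (S : Subgroup G), s * z = z * s
  Uor : ∀ s ∈ (S : Subgroup G), s * u * s⁻¹ = u ∨ s * u * s⁻¹ = u * z
  tu : t * u * t⁻¹ = u * z
  noEight : ∀ E : Subgroup G, E ≤ (S : Subgroup G) → (∀ s ∈ (S : Subgroup G), ∀ e ∈ E, s * e * s⁻¹ ∈ E) →
    (∀ a ∈ E, ∀ b ∈ E, a * b = b * a) → (∀ e ∈ E, e * e = 1) → Nat.card E ≤ 4
  iso : ∀ x ∈ (S : Subgroup G), x * u = u * x → x * x = 1 → x * t = t * x → x = 1 ∨ x = z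
  big : ∃ w ∈ (S : Subgroup G), w * u = u * w ∧ w * w = 1 ∧ w ≠ 1 ∧ w ≠ z ∧ w ≠ u ∧ w ≠ u * z
  simple : IsSimpleGroup G
  hns : ¬ Group.IsSolvable G

namespace Ctx

variable (c : Ctx G)

/-- The centraliser of the four-group in the Sylow subgroup. -/
def T : Subgroup G := (c.S : Subgroup G) ⊓ centralizer ({c.u} : Set G)

theorem mem_T {x : G} : x ∈ c.T ↔ x ∈ (c.S : Subgroup G) ∧ x * c.u = c.u * x := by
  rw [T, mem_inf, mem_centralizer_singleton_iff]

theorem T_le : c.T ≤ (c.S : Subgroup G) := inf_le_left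

theorem zu_comm : c.u * c.z = c.z * c.u := c.zc _ c.uS

theorem uT : c.u ∈ c.T := c.mem_T.2 ⟨c.uS, rfl⟩

theorem zT : c.z ∈ c.T := c.mem_T.2 ⟨c.zS, c.zu_comm.symm⟩

theorem uz_sq : c.u * c.z * (c.u * c.z) = 1 := by
  rw [show c.u * c.z * (c.u * c.z) = c.u * (c.z * c.u) * c.z by group, ← c.zu_comm,
    show c.u * (c.u * c.z) * c.z = (c.u * c.u) * (c.z * c.z) by group, c.uu, c.zz, one_mul]

theorem uz1 : c.u * c.z ≠ 1 := fun h => c.uz ((eq_inv_of_mul_eq_one_left h).trans (inv_of_sq c.zz))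

theorem uz_ne_u : c.u * c.z ≠ c.u := fun h => c.z1 (mul_eq_left.1 h)

theorem uz_ne_z : c.u * c.z ≠ c.z := fun h => c.u1 (mul_eq_right.1 h)

/-- The normal four-group. -/
def U : Subgroup G where
  carrier := {x | x = 1 ∨ x = c.z ∨ x = c.u ∨ x = c.u * c.z}
  one_mem' := Or.inl rfl
  mul_mem' := by
    have h := c.zu_comm
    have hz : ∀ x, c.z * (c.z * x) = x := fun x => by rw [← mul_assoc, c.zz, one_mul]
    have hu : ∀ x, c.u * (c.u * x) = x := fun x => by rw [← mul_assoc, c.uu, one_mul]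
    rintro a b (rfl | rfl | rfl | rfl) (rfl | rfl | rfl | rfl) <;>
      simp [← h, c.zz, c.uu, hz, hu, mul_assoc, show ∀ x, c.z * (c.u * x) = c.u * (c.z * x) from
        fun x => by rw [← mul_assoc, ← mul_assoc, h]]
  inv_mem' := by
    rintro a (rfl | rfl | rfl | rfl)
    · exact Or.inl inv_one
    · exact Or.inr (Or.inl (inv_of_sq c.zz))
    · exact Or.inr (Or.inr (Or.inl (inv_of_sq c.uu)))
    · exact Or.inr (Or.inr (Or.inr (inv_of_sq c.uz_sq)))

theorem mem_U {x : G} : x ∈ c.U ↔ x = 1 ∨ x = c.z ∨ x = c.u ∨ x = c.u * c.z := Iff.rfl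

theorem zU : c.z ∈ c.U := Or.inr (Or.inl rfl)

theorem uU : c.u ∈ c.U := Or.inr (Or.inr (Or.inl rfl))

theorem U_le : c.U ≤ c.T := by
  rintro x (rfl | rfl | rfl | rfl)
  exacts [one_mem _, c.zT, c.uT, mul_mem c.uT c.zT]

theorem U_sq {x : G} (hx : x ∈ c.U) : x * x = 1 := by
  rcases hx with rfl | rfl | rfl | rfl
  exacts [one_mul _, c.zz, c.uu, c.uz_sq]

theorem T_U {x e : G} (hx : x ∈ c.T) (he : e ∈ c.U) : x * e = e * x := by
  obtain ⟨hxS, hxu⟩ := c.mem_T.1 hx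
  rcases he with rfl | rfl | rfl | rfl
  · rw [mul_one, one_mul]
  · exact c.zc x hxS
  · exact hxu
  · exact ((show Commute x c.u from hxu).mul_right (c.zc x hxS)).eq

theorem card_U : Nat.card c.U = 4 := by
  classical
  show Nat.card ({x | x = 1 ∨ x = c.z ∨ x = c.u ∨ x = c.u * c.z} : Set G) = 4
  rw [show {x | x = 1 ∨ x = c.z ∨ x = c.u ∨ x = c.u * c.z} = ({1, c.z, c.u, c.u * c.z} : Set G) from rfl,
    Nat.card_coe_set_eq, Set.ncard_insert_of_notMem, Set.ncard_insert_of_notMem, Set.ncard_insert_of_notMem,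
    Set.ncard_singleton] <;>
    simp [c.uz.symm, c.u1.symm, c.z1.symm, c.uz1.symm, c.uz_ne_u.symm, c.uz_ne_z.symm]

theorem outer {s : G} (hs : s ∈ (c.S : Subgroup G)) (h : s ∉ c.T) : s * c.u * s⁻¹ = c.u * c.z :=
  (c.Uor s hs).resolve_left fun e => h (c.mem_T.2 ⟨hs, mul_inv_eq_iff_eq_mul.1 e⟩)

theorem tT : c.t ∉ c.T := fun h => c.uz_ne_u (by
  rw [← c.tu, (c.mem_T.1 h).2, mul_inv_cancel_right])

theorem mul_outer {s r : G} (hs : s ∈ (c.S : Subgroup G)) (hr : r ∈ (c.S : Subgroup G)) (hs' : s ∉ c.T)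
    (hr' : r ∉ c.T) : s * r ∈ c.T := by
  refine c.mem_T.2 ⟨mul_mem hs hr, mul_inv_eq_iff_eq_mul.1 ?_⟩
  rw [show s * r * c.u * (s * r)⁻¹ = s * (r * c.u * r⁻¹) * s⁻¹ by group, c.outer hr hr',
    show s * (c.u * c.z) * s⁻¹ = (s * c.u * s⁻¹) * (s * c.z * s⁻¹) by group, c.outer hs hs', c.zc s hs,
    mul_inv_cancel_right, mul_assoc, c.zz, mul_one]

theorem sq_mem_T {s : G} (hs : s ∈ (c.S : Subgroup G)) : s * s ∈ c.T := by
  by_cases h : s ∈ c.T
  exacts [mul_mem h h, c.mul_outer hs hs h h]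

theorem U_normal {s e : G} (hs : s ∈ (c.S : Subgroup G)) (he : e ∈ c.U) : s * e * s⁻¹ ∈ c.U := by
  have hz : s * c.z * s⁻¹ = c.z := by rw [c.zc s hs, mul_inv_cancel_right]
  have hu : s * c.u * s⁻¹ ∈ c.U := by
    rcases c.Uor s hs with h | h <;> rw [h]
    exacts [c.uU, mul_mem c.uU c.zU]
  rcases he with rfl | rfl | rfl | rfl
  · rw [mul_one, mul_inv_cancel]; exact one_mem _
  · rw [hz]; exact c.zU
  · exact hu
  · rw [show s * (c.u * c.z) * s⁻¹ = (s * c.u * s⁻¹) * (s * c.z * s⁻¹) by group, hz]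
    exact mul_mem hu c.zU

theorem T_normal {s x : G} (hs : s ∈ (c.S : Subgroup G)) (hx : x ∈ c.T) : s * x * s⁻¹ ∈ c.T := by
  refine c.mem_T.2 ⟨mul_mem (mul_mem hs (c.T_le hx)) (inv_mem hs), ?_⟩
  have := c.T_U hx (c.U_normal (inv_mem hs) c.uU)
  rw [inv_inv] at this
  calc s * x * s⁻¹ * c.u = s * (x * (s⁻¹ * c.u * s)) * s⁻¹ := by group
    _ = c.u * (s * x * s⁻¹) := by rw [this]; group

/-- The central involutions of `T` lie in `U`. -/
theorem central_inv {x : G} (hx : x ∈ c.T) (hxx : x * x = 1) (hc : ∀ y ∈ c.T, y * x = x * y) : x ∈ c.U := by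
  let E : Subgroup G :=
    { carrier := {e | e ∈ c.T ∧ e * e = 1 ∧ ∀ y ∈ c.T, y * e = e * y}
      one_mem' := ⟨one_mem _, one_mul _, fun y _ => by rw [mul_one, one_mul]⟩
      mul_mem' := fun {a b} ha hb => ⟨mul_mem ha.1 hb.1, by
          rw [show a * b * (a * b) = a * (b * a) * b by group, hb.2.2 a ha.1 |>.symm,
            show a * (a * b) * b = (a * a) * (b * b) by group, ha.2.1, hb.2.1, one_mul],
        fun y hy => ((show Commute y a from ha.2.2 y hy).mul_right (hb.2.2 y hy)).eq⟩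
      inv_mem' := fun {a} ha => by rw [inv_of_sq ha.2.1]; exact ha }
  have hUE : c.U ≤ E := fun e he => ⟨c.U_le he, c.U_sq he, fun y hy => c.T_U hy he⟩
  have h4 := c.noEight E (fun e he => c.T_le he.1) (fun s hs e he => ⟨c.T_normal hs he.1, by
      rw [show s * e * s⁻¹ * (s * e * s⁻¹) = s * (e * e) * s⁻¹ by group, he.2.1, mul_one, mul_inv_cancel],
      fun y hy => by
        have := he.2.2 _ (c.T_normal (inv_mem hs) hy)
        rw [inv_inv] at this
        calc y * (s * e * s⁻¹) = s * ((s⁻¹ * y * s) * e) * s⁻¹ := by group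
          _ = s * e * s⁻¹ * y := by rw [this]; group⟩)
    (fun a ha b hb => hb.2.2 a ha.1) fun e he => he.2.1
  exact (eq_of_le_of_card_ge hUE (c.card_U.symm ▸ h4)).symm ▸ (show x ∈ E from ⟨hx, hxx, hc⟩)

/-- An involution of the centre of the Sylow subgroup is `z`. -/
theorem eq_z {x : G} (hx : x ∈ (c.S : Subgroup G)) (hxx : x * x = 1) (hx1 : x ≠ 1)
    (hc : ∀ s ∈ (c.S : Subgroup G), s * x = x * s) : x = c.z := by
  have hxT : x ∈ c.T := c.mem_T.2 ⟨hx, (hc _ c.uS).symm⟩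
  have hfix : c.t * x * c.t⁻¹ = x := by rw [hc _ c.tS, mul_inv_cancel_right]
  exact (c.iso x hx (c.mem_T.1 hxT).2 hxx (hc _ c.tS).symm).resolve_left hx1

/-- A square root of `z` in `T` fixed by `t`. -/
theorem exists_root : ∃ i ∈ c.T, i * c.t = c.t * i ∧ i * i = c.z := by
  classical
  haveI := Fact.mk Nat.prime_two
  by_contra hno
  push Not at hno
  -- the only element of `T` fixed by `t` besides `1` is `z`
  have hR : ∀ x ∈ c.T, x * c.t = c.t * x → x = 1 ∨ x = c.z := by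
    intro x hx hxt
    obtain ⟨k, hk⟩ := c.S.2 ⟨x, c.T_le hx⟩
    have hk' : x ^ 2 ^ k = 1 := congrArg Subtype.val hk
    clear hk
    induction k generalizing x with
    | zero => left; simpa using hk'
    | succ k ih =>
      have := ih (x * x) (mul_mem hx hx) ((show Commute x c.t from hxt).mul_left hxt).eq (by
        rw [← pow_two, ← pow_mul, mul_comm, ← pow_succ]; exact hk')
      rcases this with h | h
      · exact c.iso x (c.T_le hx) (c.mem_T.1 hx).2 h hxt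
      · exact absurd h (hno x hx hxt)
  have hti : c.t⁻¹ = c.t := inv_of_sq c.tt
  let U' : Subgroup ↥c.T := c.U.subgroupOf c.T
  let τ : ↥c.T → ↥c.T := fun x => ⟨c.t * x * c.t⁻¹, c.T_normal c.tS x.2⟩
  let f : ↥c.T ⧸ U' → ↥c.T ⧸ U' := Quotient.map' τ fun a b hab => by
    rw [QuotientGroup.leftRel_apply] at hab ⊢
    show (c.t * (a : G) * c.t⁻¹)⁻¹ * (c.t * (b : G) * c.t⁻¹) ∈ c.U
    rw [show (c.t * (a : G) * c.t⁻¹)⁻¹ * (c.t * (b : G) * c.t⁻¹) = c.t * ((a : G)⁻¹ * b) * c.t⁻¹ by group]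
    exact c.U_normal c.tS hab
  have hmk : ∀ x : ↥c.T, f (x : ↥c.T ⧸ U') = (τ x : ↥c.T ⧸ U') := fun x => rfl
  have hpar := CfsgLib.FpfTwo.fixed_parity f fun q => by
    obtain ⟨x, rfl⟩ := QuotientGroup.mk_surjective q
    rw [hmk, hmk]
    congr 1
    exact Subtype.ext (by
      show c.t * (c.t * (x : G) * c.t⁻¹) * c.t⁻¹ = x
      rw [hti, ← mul_assoc, ← mul_assoc, c.tt, one_mul, mul_assoc, c.tt, mul_one])
  -- the involution fixes one coset only
  have hone : Nat.card {q : ↥c.T ⧸ U' // f q = q} = 1 := by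
    refine Nat.card_eq_one_iff_unique.2 ⟨⟨?_⟩, ⟨(1 : ↥c.T), by
      rw [hmk]
      congr 1
      exact Subtype.ext (by show c.t * 1 * c.t⁻¹ = 1; group)⟩⟩
    suffices h : ∀ x : ↥c.T, f (x : ↥c.T ⧸ U') = x → (x : G) ∈ c.U by
      rintro ⟨p, hp⟩ ⟨q, hq⟩
      obtain ⟨x, rfl⟩ := QuotientGroup.mk_surjective p
      obtain ⟨y, rfl⟩ := QuotientGroup.mk_surjective q
      exact Subtype.ext ((QuotientGroup.eq).2 (mul_mem (inv_mem (h x hp)) (h y hq)))
    intro x hx
    rw [hmk, QuotientGroup.eq] at hx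
    have he : (c.t * (x : G) * c.t⁻¹)⁻¹ * x ∈ c.U := hx
    set e := (c.t * (x : G) * c.t⁻¹)⁻¹ * x with hedef
    have hxe : c.t * x * c.t⁻¹ * e = x := by rw [hedef]; group
    have het : c.t * e * c.t⁻¹ = e := by
      have h1 : (x : G) * (c.t * e * c.t⁻¹) = c.t * x * c.t⁻¹ := by
        conv_rhs => rw [← hxe]
        rw [hti]
        rw [show c.t * (c.t * ↑x * c.t * e) * c.t = (c.t * c.t) * ↑x * (c.t * e * c.t) by group, c.tt, one_mul]
      have h2 : (x : G) * e = c.t * x * c.t⁻¹ := by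
        conv_lhs => rw [← hxe]
        rw [mul_assoc, c.U_sq he, mul_one]
      exact mul_left_cancel (h1.trans h2.symm)
    have hez : e = 1 ∨ e = c.z := c.iso e (c.T_le (c.U_le he)) (c.T_U (c.U_le he) c.uU) (c.U_sq he)
      (mul_inv_eq_iff_eq_mul.1 het).symm
    have hxz : (x : G) * c.t = c.t * x ∨ ((x : G) * c.u) * c.t = c.t * ((x : G) * c.u) := by
      rcases hez with h | h
      · left; rw [h, mul_one] at hxe; exact (mul_inv_eq_iff_eq_mul.1 hxe).symm
      · right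
        rw [h] at hxe
        have h3 : c.t * ((x : G) * c.u) * c.t⁻¹ = (x : G) * c.u := by
          rw [show c.t * ((x : G) * c.u) * c.t⁻¹ = (c.t * x * c.t⁻¹) * (c.t * c.u * c.t⁻¹) by group, c.tu]
          conv_rhs => rw [← hxe]
          rw [c.zu_comm]; group
        exact (mul_inv_eq_iff_eq_mul.1 h3).symm
    rcases hxz with h | h
    · rcases hR x x.2 h with h' | h' <;> rw [h']
      exacts [one_mem _, c.zU]
    · have hm : (x : G) * c.u ∈ c.U := by
        rcases hR _ (mul_mem x.2 c.uT) h with h' | h' <;> rw [h']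
        exacts [one_mem _, c.zU]
      simpa using mul_mem hm (inv_mem c.uU)
  obtain ⟨k, hk⟩ := IsPGroup.iff_card.1 (c.S.2.to_le c.T_le)
  have hdvd : Nat.card (↥c.T ⧸ U') ∣ 2 ^ k := hk ▸ Subgroup.card_quotient_dvd_card U'
  obtain ⟨j, -, hj⟩ := (Nat.dvd_prime_pow Nat.prime_two).1 hdvd
  rw [hone, hj] at hpar
  have hj0 : j = 0 := by
    rcases j with _ | j
    · rfl
    · rw [pow_succ'] at hpar; omega
  obtain ⟨w, hwS, hwu, -, hw1, hwz, hwu', hwuz⟩ := c.big
  haveI : Subsingleton (↥c.T ⧸ U') := (Nat.card_eq_one_iff_unique.1 (by rw [hj, hj0, pow_zero])).1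
  have : (⟨w, c.mem_T.2 ⟨hwS, hwu⟩⟩ : ↥c.T) ∈ U' := by
    have h := (QuotientGroup.eq).1 (Subsingleton.elim ((1 : ↥c.T) : ↥c.T ⧸ U') (⟨w, c.mem_T.2 ⟨hwS, hwu⟩⟩ : ↥c.T))
    simpa using h
  rcases this with h | h | h | h
  exacts [hw1 h, hwz h, hwu' h, hwuz h]

/-- `u z` is a conjugate of `u`. -/
theorem uz_conj : IsConj (c.u * c.z) c.u :=
  (isConj_iff.2 ⟨c.t, c.tu⟩).symm

/-- Extremal conjugation of a conjugate of `z`. -/
theorem extremal {y : G} (hyS : y ∈ (c.S : Subgroup G)) (hy : IsConj y c.z) :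
    ∃ g : G, g * y * g⁻¹ = c.z ∧ ∀ x ∈ (c.S : Subgroup G), x * y = y * x → g * x * g⁻¹ ∈ (c.S : Subgroup G) := by
  obtain ⟨g, hg⟩ := isConj_iff.1 hy
  let K := ((c.S : Subgroup G) ⊓ centralizer ({y} : Set G)).map (MulAut.conj g).toMonoidHom
  obtain ⟨h, hh, hK⟩ := NormalRankTwo.exists_conj_into c.S (H := centralizer ({c.z} : Set G)) (K := K)
    (fun s hs => mem_centralizer_singleton_iff.2 (c.zc s hs)) ((c.S.2.to_le inf_le_left).map _) (by
      rintro _ ⟨x, ⟨-, hx⟩, rfl⟩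
      rw [mem_centralizer_singleton_iff, ← hg]
      show g * x * g⁻¹ * (g * y * g⁻¹) = g * y * g⁻¹ * (g * x * g⁻¹)
      rw [show g * x * g⁻¹ * (g * y * g⁻¹) = g * (x * y) * g⁻¹ by group, mem_centralizer_singleton_iff.1 hx]
      group)
  refine ⟨h * g, ?_, fun x hx hxy => ?_⟩
  · rw [show h * g * y * (h * g)⁻¹ = h * (g * y * g⁻¹) * h⁻¹ by group, hg, mem_centralizer_singleton_iff.1 hh,
      mul_inv_cancel_right]
  · have := hK _ ⟨x, ⟨hx, mem_centralizer_singleton_iff.2 hxy⟩, rfl⟩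
    simpa [mul_assoc] using this

/-- `z` has a second conjugate in the Sylow subgroup. -/
theorem exists_other : ∃ y ∈ (c.S : Subgroup G), y ≠ c.z ∧ IsConj y c.z := by
  haveI := Fact.mk Nat.prime_two
  haveI := c.simple
  have ho : orderOf c.z = 2 := orderOf_eq_prime (by rw [pow_two, c.zz]) c.z1
  by_contra hno
  push Not at hno
  refine AlmostCyclic.no_isolated c.hns c.z ⟨ho, fun g hg => ?_⟩
  set y := g * c.z * g⁻¹ with hy
  by_contra hne
  let K : Subgroup G := closure ({c.z, y} : Set G)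
  have hK : IsPGroup 2 ↥K := by
    haveI : IsMulCommutative ↥K := isMulCommutative_closure (by
      simp only [Set.mem_insert_iff, Set.mem_singleton_iff]
      rintro a (rfl | rfl) b (rfl | rfl)
      exacts [rfl, hg.eq, hg.eq.symm, rfl])
    rintro ⟨a, ha⟩
    refine ⟨1, ?_⟩
    induction ha using closure_induction with
    | mem a ha =>
      refine Subtype.ext ?_
      show a ^ 2 ^ 1 = 1
      rw [pow_one, pow_two]
      rcases ha with rfl | rfl
      · exact c.zz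
      · rw [hy, show g * c.z * g⁻¹ * (g * c.z * g⁻¹) = g * (c.z * c.z) * g⁻¹ by group, c.zz, mul_one,
          mul_inv_cancel]
    | one => exact one_pow _
    | mul a b ha hb iha ihb =>
      rw [show (⟨a * b, mul_mem ha hb⟩ : ↥K) = ⟨a, ha⟩ * ⟨b, hb⟩ from rfl,
        (show Commute (⟨a, ha⟩ : ↥K) ⟨b, hb⟩ from mul_comm' _ _).mul_pow, iha, ihb, one_mul]
    | inv a ha iha => rw [show (⟨a⁻¹, inv_mem ha⟩ : ↥K) = ⟨a, ha⟩⁻¹ from rfl, inv_pow, iha, inv_one]
  obtain ⟨k, -, hk⟩ := NormalRankTwo.exists_conj_into c.S (H := (⊤ : Subgroup G)) (le_top) hK le_top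
  have h1 := hk _ (subset_closure (Or.inl rfl))
  have h2 := hk _ (subset_closure (Or.inr rfl))
  have e1 : k * c.z * k⁻¹ = c.z := by
    by_contra h
    exact hno _ h1 h (isConj_iff.2 ⟨k, rfl⟩).symm
  have e2 : k * y * k⁻¹ = c.z := by
    by_contra h
    exact hno _ h2 h ((isConj_iff.2 ⟨k, rfl⟩).symm.trans (isConj_iff.2 ⟨g, rfl⟩).symm)
  exact hne (mul_left_cancel (mul_right_cancel (e2.trans e1.symm)))

/-- A conjugate of `T` in `S` has the same four-group or one meeting `T` in `⟨z⟩`. -/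
theorem moved_four {g : G} (hg : ∀ x ∈ c.T, g * x * g⁻¹ ∈ (c.S : Subgroup G)) :
    (∀ e ∈ c.U, g * e * g⁻¹ ∈ c.U) ∨ ∀ e ∈ c.U, g * e * g⁻¹ ∈ c.T → g * e * g⁻¹ = 1 ∨ g * e * g⁻¹ = c.z := by
  classical
  haveI := Fact.mk Nat.prime_two
  let T1 := c.T.map (MulAut.conj g).toMonoidHom
  have hT1 : T1 ≤ (c.S : Subgroup G) := by rintro _ ⟨x, hx, rfl⟩; exact hg x hx
  -- index two
  have hidx : c.T.relIndex (c.S : Subgroup G) = 2 := by
    have h : ∃ a : ↥(c.S : Subgroup G), ∀ b : ↥(c.S : Subgroup G),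
        Xor' (b * a ∈ c.T.subgroupOf (c.S : Subgroup G)) (b ∈ c.T.subgroupOf (c.S : Subgroup G)) := by
      refine ⟨⟨c.t, c.tS⟩, fun b => ?_⟩
      simp only [mem_subgroupOf, coe_mul]
      by_cases hb : (b : G) ∈ c.T
      · exact Or.inr ⟨hb, fun h => c.tT (by simpa using mul_mem (inv_mem hb) h)⟩
      · exact Or.inl ⟨c.mul_outer b.2 c.tS hb c.tT, hb⟩
    exact Subgroup.index_eq_two_iff.2 h
  have hT1i : T1.relIndex (c.S : Subgroup G) = 2 := by
    have h1 := card_mul_index (T1.subgroupOf (c.S : Subgroup G))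
    have h2 := card_mul_index (c.T.subgroupOf (c.S : Subgroup G))
    rw [Nat.card_congr (subgroupOfEquivOfLe hT1).toEquiv, card_map_of_injective (MulEquiv.injective _)] at h1
    rw [Nat.card_congr (subgroupOfEquivOfLe c.T_le).toEquiv] at h2
    rw [relIndex] at hidx ⊢
    rw [hidx, ← h1] at h2
    exact (Nat.eq_of_mul_eq_mul_left Nat.card_pos h2).symm
  haveI hn : (T1.subgroupOf (c.S : Subgroup G)).Normal := normal_of_index_eq_two hT1i
  have hzT1 : c.z ∈ T1 := by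
    have h := (mul_mem_iff_of_index_two hT1i (a := (⟨c.t, c.tS⟩ : ↥(c.S : Subgroup G)))
      (b := ⟨c.u, c.uS⟩ * ⟨c.t, c.tS⟩⁻¹ * ⟨c.u, c.uS⟩⁻¹)).2 (by
        rw [mul_mem_iff_of_index_two hT1i, mul_mem_iff_of_index_two hT1i, inv_mem_iff, inv_mem_iff]
        by_cases h1 : (⟨c.t, c.tS⟩ : ↥(c.S : Subgroup G)) ∈ T1.subgroupOf (c.S : Subgroup G) <;>
          by_cases h2 : (⟨c.u, c.uS⟩ : ↥(c.S : Subgroup G)) ∈ T1.subgroupOf (c.S : Subgroup G) <;> simp [h1, h2])
    rw [mem_subgroupOf] at h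
    simp only [coe_mul, coe_inv] at h
    rw [show c.t * (c.u * c.t⁻¹ * c.u⁻¹) = (c.t * c.u * c.t⁻¹) * c.u⁻¹ by group, c.tu, c.zu_comm,
      mul_inv_cancel_right] at h
    exact h
  have mV : ∀ {x}, x ∈ T1 → x * x = 1 → (∀ y ∈ T1, y * x = x * y) → ∃ e ∈ c.U, g * e * g⁻¹ = x := by
    rintro _ ⟨e, he, rfl⟩ h1 h2
    refine ⟨e, c.central_inv he ?_ fun y hy => ?_, rfl⟩
    · apply (MulAut.conj g).injective
      rw [map_mul, map_one]; exact h1
    · apply (MulAut.conj g).injective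
      rw [map_mul, map_mul]; exact h2 _ ⟨y, hy, rfl⟩
  let V := c.U.map (MulAut.conj g).toMonoidHom
  have hVT1 : V ≤ T1 := map_mono c.U_le
  have hVnorm : ∀ s ∈ (c.S : Subgroup G), ∀ v ∈ V, s * v * s⁻¹ ∈ V := by
    rintro s hs _ ⟨e, he, rfl⟩
    have hmem : ∀ {y}, y ∈ T1 → ∀ {r}, r ∈ (c.S : Subgroup G) → r * y * r⁻¹ ∈ T1 := fun {y} hy {r} hr =>
      hn.conj_mem ⟨y, hT1 hy⟩ hy ⟨r, hr⟩
    obtain ⟨e', he', h⟩ := mV (hmem (hVT1 ⟨e, he, rfl⟩) hs) (by
        show s * (g * e * g⁻¹) * s⁻¹ * (s * (g * e * g⁻¹) * s⁻¹) = 1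
        rw [show s * (g * e * g⁻¹) * s⁻¹ * (s * (g * e * g⁻¹) * s⁻¹) = s * g * (e * e) * g⁻¹ * s⁻¹ by group,
          c.U_sq he]; group) fun y hy => by
        obtain ⟨y', hy', e'⟩ := hmem hy (inv_mem hs)
        have e'' : g * y' * g⁻¹ = s⁻¹ * y * s := by
          have : g * y' * g⁻¹ = s⁻¹ * y * s⁻¹⁻¹ := e'
          rwa [inv_inv] at this
        show y * (s * (g * e * g⁻¹) * s⁻¹) = s * (g * e * g⁻¹) * s⁻¹ * y
        rw [show y = s * (g * y' * g⁻¹) * s⁻¹ by rw [e'']; group]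
        rw [show s * (g * y' * g⁻¹) * s⁻¹ * (s * (g * e * g⁻¹) * s⁻¹) = s * g * (y' * e) * g⁻¹ * s⁻¹ by group,
          c.T_U hy' he]; group
    exact ⟨e', he', h⟩
  by_cases hcase : ∃ e ∈ c.U, g * e * g⁻¹ ∈ c.T ∧ g * e * g⁻¹ ≠ 1 ∧ g * e * g⁻¹ ≠ c.z
  · left
    obtain ⟨e, he, hvT, hv1, hvz⟩ := hcase
    obtain ⟨e₀, he₀, hez⟩ := mV hzT1 c.zz fun y hy => c.zc y (hT1 hy)
    -- `V` is generated inside `T`
    have hVT : V ≤ c.T := by
      have hsub : ({1, c.z, g * e * g⁻¹, c.z * (g * e * g⁻¹)} : Set G) ⊆ (V : Set G) := by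
        have hv : g * e * g⁻¹ ∈ V := ⟨e, he, rfl⟩
        have hz : c.z ∈ V := ⟨e₀, he₀, hez⟩
        intro x hx
        rcases hx with rfl | rfl | rfl | rfl
        exacts [one_mem _, hz, hv, mul_mem hz hv]
      have hvv : g * e * g⁻¹ * (g * e * g⁻¹) = 1 := by
        rw [show g * e * g⁻¹ * (g * e * g⁻¹) = g * (e * e) * g⁻¹ by group, c.U_sq he, mul_one, mul_inv_cancel]
      have h4 : ({1, c.z, g * e * g⁻¹, c.z * (g * e * g⁻¹)} : Set G).ncard = 4 := by
        rw [Set.ncard_insert_of_notMem, Set.ncard_insert_of_notMem, Set.ncard_insert_of_notMem,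
          Set.ncard_singleton] <;> simp [Ne.symm hv1, Ne.symm hvz, c.z1, c.z1.symm]
        · rintro rfl; exact hv1 (by simp)
        · intro h; exact hvz ((eq_inv_of_mul_eq_one_right h.symm).trans (inv_of_sq c.zz))
      have heq := Set.eq_of_subset_of_ncard_le hsub (by
        rw [h4, ← Nat.card_coe_set_eq]
        exact ((card_map_of_injective (MulEquiv.injective _)).trans c.card_U).le) (Set.toFinite _)
      intro x hx
      have : x ∈ ({1, c.z, g * e * g⁻¹, c.z * (g * e * g⁻¹)} : Set G) := by rw [heq]; exact hx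
      rcases this with rfl | rfl | rfl | rfl
      exacts [one_mem _, c.zT, hvT, mul_mem c.zT hvT]
    let W := c.U ⊔ V
    have hcomm : IsMulCommutative ↥W := by
      show IsMulCommutative ↥(c.U ⊔ V)
      rw [sup_eq_closure]
      exact isMulCommutative_closure (by
        have hVV : ∀ a ∈ V, ∀ b ∈ V, a * b = b * a := by
          rintro _ ⟨a, ha, rfl⟩ _ ⟨b, hb, rfl⟩
          rw [← map_mul, ← map_mul, c.T_U (c.U_le ha) hb]
        rintro a (ha | ha) b (hb | hb)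
        exacts [c.T_U (c.U_le ha) hb, (c.T_U (hVT hb) ha).symm, c.T_U (hVT ha) hb, hVV a ha b hb])
    have hW : W ≤ (c.S : Subgroup G) := sup_le (c.U_le.trans c.T_le) (hVT.trans c.T_le)
    have hW4 := c.noEight W hW (fun s hs w hw => by
        have hle : W.map (MulAut.conj s).toMonoidHom ≤ W := by
          rw [Subgroup.map_sup]
          refine sup_le ?_ ?_
          · rintro _ ⟨x, hx, rfl⟩; exact mem_sup_left (c.U_normal hs hx)
          · rintro _ ⟨x, hx, rfl⟩; exact mem_sup_right (hVnorm s hs x hx)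
        exact hle ⟨w, hw, rfl⟩)
      (fun a ha b hb => congrArg Subtype.val (mul_comm' (⟨a, ha⟩ : ↥W) ⟨b, hb⟩))
      (fun w hw => by
        have hle : W ≤ {
          carrier := {x | x ∈ W ∧ x * x = 1}
          one_mem' := ⟨one_mem _, one_mul _⟩
          mul_mem' := fun {a b} ha hb => ⟨mul_mem ha.1 hb.1, by
            have hab : a * b = b * a := congrArg Subtype.val (mul_comm' (⟨a, ha.1⟩ : ↥W) ⟨b, hb.1⟩)
            rw [show a * b * (a * b) = a * (b * a) * b by group, ← hab,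
              show a * (a * b) * b = (a * a) * (b * b) by group, ha.2, hb.2, one_mul]⟩
          inv_mem' := fun {a} ha => by rw [inv_of_sq ha.2]; exact ha : Subgroup G } := by
          refine sup_le (fun x hx => ⟨mem_sup_left hx, c.U_sq hx⟩) ?_
          rintro _ ⟨x, hx, rfl⟩
          exact ⟨mem_sup_right ⟨x, hx, rfl⟩, by rw [← map_mul, c.U_sq hx, map_one]⟩
        exact (hle hw).2)
    have hUW : c.U = W := eq_of_le_of_card_ge le_sup_left (c.card_U.symm ▸ hW4)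
    intro x hx
    rw [hUW]
    exact mem_sup_right ⟨x, hx, rfl⟩
  · right
    push Not at hcase
    intro e he hT
    by_cases h1 : g * e * g⁻¹ = 1
    · exact Or.inl h1
    · exact Or.inr (hcase e he hT h1)

end Ctx

end CfsgLib.Nonconn
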