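import Cfsg.Agent.Lib.Nonconn.Index
import Cfsg.Agent.Lib.MacWilliams.Central

/-!
The case in which every normal abelian subgroup of exponent four over `U` has one square.

Blueprint: `blueprint/S0503.md`, case A8.
-/

set_option autoImplicit false
set_option linter.unusedSectionVars false

namespace CfsgLib.Nonconn

open Subgroup

variable {G : Type*} [Group G] [Finite G]

/-- A fourth power as a square of a square. -/
theorem pow_four {M : Type*} [Monoid M] (x : M) : x ^ 4 = x * x * (x * x) := by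
  simp [pow_succ, mul_assoc]

/-- The data of the small case. -/
structure SmallCase (c : Ctx G) where
  a : G
  aT : a ∈ c.T
  aa : a * a = c.z
  conj_a : ∀ s ∈ (c.S : Subgroup G), ∃ e ∈ c.U, s * a * s⁻¹ = a * e
  order_four : ∀ x ∈ c.T, x * a = a * x → x ^ 4 = 1 → ∃ e ∈ c.U, x = e ∨ x = a * e
  one_square : ∀ B : Subgroup G, B ≤ (c.S : Subgroup G) → c.U ≤ B →
    (∀ s ∈ (c.S : Subgroup G), ∀ b ∈ B, s * b * s⁻¹ ∈ B) → (∀ p ∈ B, ∀ q ∈ B, p * q = q * p) →
    (∀ b ∈ B, b ^ 4 = 1) → ∀ b ∈ B, b * b = 1 ∨ b * b = c.z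
  noMove : ¬ IsConj c.u c.z

namespace SmallCase

variable {c : Ctx G} (h : SmallCase c)
include h

/-- The centraliser of the abelian subgroup. -/
def D : Subgroup G := c.T ⊓ centralizer ({h.a} : Set G)

theorem mem_D {x : G} : x ∈ h.D ↔ x ∈ c.T ∧ x * h.a = h.a * x := by
  rw [D, mem_inf, mem_centralizer_singleton_iff]

theorem a_U {e : G} (he : e ∈ c.U) : h.a * e = e * h.a := c.T_U h.aT he

theorem aD : h.a ∈ h.D := h.mem_D.2 ⟨h.aT, rfl⟩

theorem U_le_D : c.U ≤ h.D := fun _ he => h.mem_D.2 ⟨c.U_le he, (h.a_U he).symm⟩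

theorem a4 : h.a ^ 4 = 1 := by
  rw [show h.a ^ 4 = (h.a * h.a) * (h.a * h.a) from pow_four _, h.aa, c.zz]

theorem ae_sq {e : G} (he : e ∈ c.U) : h.a * e * (h.a * e) = c.z := by
  rw [show h.a * e * (h.a * e) = h.a * (e * h.a) * e by group, ← h.a_U he,
    show h.a * (h.a * e) * e = (h.a * h.a) * (e * e) by group, h.aa, c.U_sq he, mul_one]

/-- An involution of `D` lies in `U`. -/
theorem D_inv {x : G} (hx : x ∈ h.D) (hxx : x * x = 1) : x ∈ c.U := by
  obtain ⟨hxT, hxa⟩ := h.mem_D.1 hx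
  obtain ⟨e, he, rfl | rfl⟩ := h.order_four x hxT hxa (by
    rw [show x ^ 4 = (x * x) * (x * x) from pow_four _, hxx, one_mul])
  · exact he
  · exact absurd ((h.ae_sq he).symm.trans hxx) c.z1

theorem fourCentral_D : MacWilliams.FourCentral ↥h.D := fun x hx y => by
  obtain ⟨hxT, hxa⟩ := h.mem_D.1 x.2
  obtain ⟨hyT, hya⟩ := h.mem_D.1 y.2
  refine Subtype.ext ?_
  show (x : G) * y = y * x
  obtain ⟨e, he, h' | h'⟩ := h.order_four x hxT hxa (by simpa using congrArg Subtype.val hx) <;> rw [h']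
  · exact (c.T_U hyT he).symm
  · exact ((show Commute (y : G) h.a from hya).mul_right (c.T_U hyT he)).eq.symm

/-- Elements of `D` with one square differ by an element of `U`. -/
theorem sq_eq {x y : G} (hx : x ∈ h.D) (hy : y ∈ h.D) (hxy : x * x = y * y) : x⁻¹ * y ∈ c.U := by
  refine h.D_inv (mul_mem (inv_mem hx) hy) ?_
  have := MacWilliams.sq_inj ((c.S.2.to_le (inf_le_left.trans c.T_le) : IsPGroup 2 ↥h.D)) h.fourCentral_D
    (x := ⟨x, hx⟩) (y := ⟨y, hy⟩) (Subtype.ext (by simpa [pow_two] using hxy))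
  simpa [pow_two] using congrArg Subtype.val this

/-- Commutators in `D` of elements with central square lie in `U`. -/
theorem D_comm {x y : G} (hx : x ∈ h.D) (hy : y ∈ h.D) (hxy : y * (x * x) = x * x * y) :
    ∃ f ∈ c.U, y * x * y⁻¹ = x * f := by
  refine ⟨x⁻¹ * (y * x * y⁻¹), h.sq_eq hx (mul_mem (mul_mem hy hx) (inv_mem hy)) ?_, by group⟩
  rw [show y * x * y⁻¹ * (y * x * y⁻¹) = y * (x * x) * y⁻¹ by group, hxy, mul_inv_cancel_right]

/-- The displacement of `a`. -/
def phi (x : G) : G := h.a⁻¹ * (x * h.a * x⁻¹)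

theorem phi_U {x : G} (hx : x ∈ (c.S : Subgroup G)) : h.phi x ∈ c.U := by
  obtain ⟨e, he, h'⟩ := h.conj_a x hx
  rw [phi, h', inv_mul_cancel_left]; exact he

theorem conj_eq (x : G) : x * h.a * x⁻¹ = h.a * h.phi x := by simp [phi]

theorem phi_mul {x y : G} (hx : x ∈ c.T) (hy : y ∈ c.T) : h.phi (x * y) = h.phi x * h.phi y := by
  have e : x * h.phi y * x⁻¹ = h.phi y := by
    rw [c.T_U hx (h.phi_U (c.T_le hy)), mul_inv_cancel_right]
  rw [phi, show x * y * h.a * (x * y)⁻¹ = x * (y * h.a * y⁻¹) * x⁻¹ by group, h.conj_eq y,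
    show x * (h.a * h.phi y) * x⁻¹ = (x * h.a * x⁻¹) * (x * h.phi y * x⁻¹) by group, e, h.conj_eq x]
  group

theorem phi_eq_one {x : G} (hx : x ∈ c.T) : h.phi x = 1 ↔ x ∈ h.D := by
  rw [h.mem_D, phi, inv_mul_eq_one, eq_comm, mul_inv_eq_iff_eq_mul]
  exact ⟨fun e => ⟨hx, e⟩, fun e => e.2⟩

theorem phi_inv {x : G} (hx : x ∈ c.T) : h.phi x⁻¹ = h.phi x := by
  have h1 := h.phi_mul hx (inv_mem hx)
  rw [mul_inv_cancel, (h.phi_eq_one (one_mem _)).2 (one_mem _)] at h1
  rw [eq_inv_of_mul_eq_one_right h1.symm, inv_of_sq (c.U_sq (h.phi_U (c.T_le hx)))]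

theorem phi_conj_t {x : G} (hx : x ∈ c.T) : h.phi (c.t * x * c.t⁻¹) = c.t * h.phi x * c.t⁻¹ := by
  obtain ⟨e, he, hte⟩ := h.conj_a _ (inv_mem c.tS)
  rw [inv_inv] at hte
  have ha' : c.t * x * c.t⁻¹ * h.a * (c.t * x * c.t⁻¹)⁻¹ =
      c.t * (x * h.a * x⁻¹ * e) * c.t⁻¹ := by
    rw [show c.t * x * c.t⁻¹ * h.a * (c.t * x * c.t⁻¹)⁻¹ = c.t * (x * (c.t⁻¹ * h.a * c.t) * x⁻¹) * c.t⁻¹ by group, hte,
      show x * (h.a * e) * x⁻¹ = (x * h.a * x⁻¹) * (x * e * x⁻¹) by group, c.T_U hx he, mul_inv_cancel_right]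
  have ha : c.t * h.a * e * c.t⁻¹ = h.a := by
    rw [mul_assoc c.t, ← hte]; group
  rw [phi, ha', h.conj_eq x, show h.a * h.phi x * e = h.a * (h.phi x * e) by group,
    show h.phi x * e = e * h.phi x from c.T_U (c.U_le (h.phi_U (c.T_le hx))) he]
  calc h.a⁻¹ * (c.t * (h.a * (e * h.phi x)) * c.t⁻¹)
      = h.a⁻¹ * (c.t * h.a * e * c.t⁻¹) * (c.t * h.phi x * c.t⁻¹) := by group
    _ = _ := by rw [ha]; group

theorem phi_two {x : G} (hx : x ∈ c.T) : x * x ∈ h.D :=
  (h.phi_eq_one (mul_mem hx hx)).1 (by rw [h.phi_mul hx hx, c.U_sq (h.phi_U (c.T_le hx))])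

/-- If all of `U` occurs, `D` is the abelian subgroup. -/
theorem D_small {x : G} (hx : x ∈ c.T) (hxu : h.phi x = c.u) {d : G} (hd : d ∈ h.D) :
    ∃ e ∈ c.U, d = e ∨ d = h.a * e := by
  classical
  obtain ⟨hdT, hda⟩ := h.mem_D.1 hd
  refine h.order_four d hdT hda ?_
  obtain ⟨k, hk⟩ := c.S.2 ⟨d, c.T_le hdT⟩
  have hk' : d ^ 2 ^ k = 1 := congrArg Subtype.val hk
  clear hk hda hdT
  induction k generalizing d with
  | zero => rw [pow_zero, pow_one] at hk'; rw [hk', one_pow]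
  | succ k ih =>
    have h4 := ih (mul_mem hd hd) (by rw [← pow_two, ← pow_mul, ← pow_succ']; exact hk')
    by_contra hne
    obtain ⟨e, he, hde | hde⟩ := h.order_four _ (mul_mem (h.mem_D.1 hd).1 (h.mem_D.1 hd).1)
      (h.mem_D.1 (mul_mem hd hd)).2 h4
    · exact hne (by rw [show d ^ 4 = (d * d) * (d * d) from pow_four _, hde, c.U_sq he])
    set d' := x * d * x⁻¹ with hd'def
    have hd' : d' ∈ h.D := (h.phi_eq_one (mul_mem (mul_mem hx (h.mem_D.1 hd).1) (inv_mem hx))).1 (by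
      rw [h.phi_mul (mul_mem hx (h.mem_D.1 hd).1) (inv_mem hx), h.phi_mul hx (h.mem_D.1 hd).1,
        (h.phi_eq_one (h.mem_D.1 hd).1).2 hd, mul_one, h.phi_inv hx, c.U_sq (h.phi_U (c.T_le hx))])
    have hd'2 : d' * d' = h.a * c.u * e := by
      rw [hd'def, show x * d * x⁻¹ * (x * d * x⁻¹) = x * (d * d) * x⁻¹ by group, hde,
        show x * (h.a * e) * x⁻¹ = (x * h.a * x⁻¹) * (x * e * x⁻¹) by group, c.T_U hx he, mul_inv_cancel_right,
        h.conj_eq, hxu]
    obtain ⟨f, hf, hfd⟩ := h.D_comm hd hd' (by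
      rw [hde]; exact (((show Commute d' h.a from (h.mem_D.1 hd').2)).mul_right (c.T_U (h.mem_D.1 hd').1 he)).eq)
    have hdd : d' * d = d * f * d' := by rw [← hfd]; group
    have hprod : d * d' * (d * d') = c.u * c.z * f := by
      rw [show d * d' * (d * d') = d * (d' * d) * d' by group, hdd,
        show d * (d * f * d') * d' = (d * d) * f * (d' * d') by group, hde, hd'2,
        show h.a * e * f * (h.a * c.u * e) = h.a * (e * f * h.a) * (c.u * e) by group,
        show e * f * h.a = h.a * (e * f) from (h.a_U (mul_mem he hf)).symm,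
        show h.a * (h.a * (e * f)) * (c.u * e) = h.a * h.a * (e * f * (c.u * e)) by group, h.aa,
        c.T_U (c.U_le (mul_mem he hf)) (mul_mem c.uU he),
        show c.u * e * (e * f) = c.u * (e * e) * f by group, c.U_sq he, mul_one, ← mul_assoc, ← c.zu_comm]
    have hU : c.u * c.z * f ∈ c.U := mul_mem (mul_mem c.uU c.zU) hf
    obtain ⟨hddT, hdda⟩ := h.mem_D.1 (mul_mem hd hd')
    obtain ⟨e', he', h' | h'⟩ := h.order_four (d * d') hddT hdda
      (by rw [show (d * d') ^ 4 = (d * d' * (d * d')) * (d * d' * (d * d')) from pow_four _, hprod, c.U_sq hU])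
    · have hcomm : d' * d = d * d' := by
        have e1 : d' = d⁻¹ * e' := by rw [← h']; group
        rw [e1]
        have := c.T_U (h.mem_D.1 hd).1 he'
        rw [mul_inv_cancel_left, mul_assoc, ← this, inv_mul_cancel_left]
      rw [hdd] at hcomm
      have hf1 : f = 1 := by
        have : d * f * d' = d * 1 * d' := by rw [mul_one]; exact hcomm
        exact mul_left_cancel (mul_right_cancel this)
      rw [h', c.U_sq he', hf1, mul_one] at hprod
      exact c.uz1 hprod.symm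
    · have hcomm : d' * d = d * d' := by
        have hc : Commute d (h.a * e') := (show Commute d h.a from (h.mem_D.1 hd).2).mul_right
          (c.T_U (h.mem_D.1 hd).1 he')
        have e1 : d' = d⁻¹ * (h.a * e') := by rw [← h']; group
        rw [e1, mul_inv_cancel_left, mul_assoc, ← hc.eq, inv_mul_cancel_left]
      rw [hdd] at hcomm
      have hf1 : f = 1 := by
        have : d * f * d' = d * 1 * d' := by rw [mul_one]; exact hcomm
        exact mul_left_cancel (mul_right_cancel this)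
      rw [h', h.ae_sq he', hf1, mul_one] at hprod
      exact c.u1 (mul_eq_right.1 hprod.symm)

/-- The displacement takes the values `1` and `z` only. -/
theorem phi_cases {x : G} (hx : x ∈ c.T) : h.phi x = 1 ∨ h.phi x = c.z := by
  by_contra hne
  push Not at hne
  obtain ⟨x, hx, hxu⟩ : ∃ x ∈ c.T, h.phi x = c.u := by
    rcases h.phi_U (c.T_le hx) with h' | h' | h' | h'
    · exact absurd h' hne.1
    · exact absurd h' hne.2
    · exact ⟨x, hx, h'⟩
    · refine ⟨c.t * x * c.t⁻¹, c.T_normal c.tS hx, ?_⟩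
      rw [h.phi_conj_t hx, h', show c.t * (c.u * c.z) * c.t⁻¹ = (c.t * c.u * c.t⁻¹) * (c.t * c.z * c.t⁻¹) by group,
        c.tu, c.zc _ c.tS, mul_inv_cancel_right, mul_assoc, c.zz, mul_one]
  clear hne
  have hti : c.t⁻¹ = c.t := inv_of_sq c.tt
  -- squares and commutators
  have hsq : ∀ {x}, x ∈ c.T → h.phi x ≠ 1 → x * x ∈ c.U := by
    intro y hy hy1
    obtain ⟨e, he, h' | h'⟩ := h.D_small hx hxu (h.phi_two hy)
    · rw [h']; exact he
    · exfalso
      apply hy1
      have hc : Commute y h.a := by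
        have h2 : Commute y (h.a * e) := by rw [← h']; exact (Commute.refl y).mul_right (Commute.refl y)
        have h3 : Commute y e := c.T_U hy he
        simpa [mul_assoc, c.U_sq he] using h2.mul_right h3
      exact (h.phi_eq_one hy).2 (h.mem_D.2 ⟨hy, hc⟩)
  have hcom : ∀ {x r}, x ∈ c.T → r ∈ c.T → h.phi x ≠ 1 → h.phi x ≠ c.z →
      ∃ w ∈ c.U, x * r * x⁻¹ = r * w := by
    intro y r hy hr hy1 hyz
    set w := r⁻¹ * (y * r * y⁻¹) with hw
    have hwT : w ∈ c.T := mul_mem (inv_mem hr) (mul_mem (mul_mem hy hr) (inv_mem hy))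
    have hwD : w ∈ h.D := (h.phi_eq_one hwT).1 (by
      rw [hw, h.phi_mul (inv_mem hr) (mul_mem (mul_mem hy hr) (inv_mem hy)), h.phi_mul (mul_mem hy hr) (inv_mem hy),
        h.phi_mul hy hr, h.phi_inv hr, h.phi_inv hy]
      have hU := fun {p} (hp : p ∈ c.T) => h.phi_U (c.T_le hp)
      rw [c.T_U (c.U_le (hU hy)) (hU hr), mul_assoc (h.phi r) (h.phi y), c.U_sq (hU hy), mul_one, c.U_sq (hU hr)])
    obtain ⟨e, he, h' | h'⟩ := h.D_small hx hxu hwD
    · exact ⟨e, he, by rw [← h', hw, mul_inv_cancel_left]⟩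
    · exfalso
      have hq := hsq hy hy1
      have e1 : y * r * y⁻¹ = r * w := by rw [hw, mul_inv_cancel_left]
      have e2 : r = r * w * (y * w * y⁻¹) := by
        conv_lhs => rw [show r = (y * y) * r * (y * y)⁻¹ by rw [← c.T_U hr hq, mul_inv_cancel_right]]
        rw [show y * y * r * (y * y)⁻¹ = y * (y * r * y⁻¹) * y⁻¹ by group, e1,
          show y * (r * w) * y⁻¹ = (y * r * y⁻¹) * (y * w * y⁻¹) by group, e1]
      rw [mul_assoc, left_eq_mul, h', show y * (h.a * e) * y⁻¹ = (y * h.a * y⁻¹) * (y * e * y⁻¹) by group,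
        c.T_U hy he, mul_inv_cancel_right, h.conj_eq,
        show h.a * e * (h.a * h.phi y * e) = h.a * (e * h.a) * (h.phi y * e) by group, ← h.a_U he,
        show h.a * (h.a * e) * (h.phi y * e) = (h.a * h.a) * (e * (h.phi y * e)) by group, h.aa,
        c.T_U (c.U_le (h.phi_U (c.T_le hy))) he, ← mul_assoc e, c.U_sq he, one_mul] at e2
      exact hyz ((eq_inv_of_mul_eq_one_right e2).trans (inv_of_sq c.zz))
  have hu1 : ∀ {p}, h.phi p = c.u → h.phi p ≠ 1 ∧ h.phi p ≠ c.z := fun hp => ⟨hp ▸ c.u1, hp ▸ c.uz⟩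
  -- one of the two lifts commutes with its conjugate
  have hx' : ∀ {p}, p ∈ c.T → h.phi p = c.u → h.phi (c.t * p * c.t⁻¹) = c.u * c.z := fun {p} hp hpu => by
    rw [h.phi_conj_t hp, hpu, c.tu]
  obtain ⟨x, hx, hxu, hxc⟩ : ∃ p ∈ c.T, h.phi p = c.u ∧
      p * (c.t * p * c.t⁻¹) = c.t * p * c.t⁻¹ * p := by
    obtain ⟨w, hw, hwe⟩ := hcom hx (c.T_normal c.tS hx) (hu1 hxu).1 (hu1 hxu).2
    set x' := c.t * x * c.t⁻¹ with hx'def
    have hx'T : x' ∈ c.T := c.T_normal c.tS hx
    have hxx' : x * x' = x' * x * w := by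
      rw [show x * x' = (x * x' * x⁻¹) * x by group, hwe, mul_assoc, ← c.T_U hx hw, ← mul_assoc]
    have htw : c.t * w * c.t⁻¹ = w := by
      have e1 : c.t * x' * c.t⁻¹ = x := by
        rw [hx'def, hti, ← mul_assoc, ← mul_assoc, c.tt, one_mul, mul_assoc, c.tt, mul_one]
      have e2 : x' * x = x * x' * (c.t * w * c.t⁻¹) := by
        have := congrArg (fun p => c.t * p * c.t⁻¹) hxx'
        rw [show c.t * (x * x') * c.t⁻¹ = (c.t * x * c.t⁻¹) * (c.t * x' * c.t⁻¹) by group, ← hx'def, e1,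
          show c.t * (x' * x * w) * c.t⁻¹ = (c.t * x' * c.t⁻¹) * (c.t * x * c.t⁻¹) * (c.t * w * c.t⁻¹) by group,
          ← hx'def, e1] at this
        exact this
      rw [hxx', mul_assoc (x' * x), left_eq_mul] at e2
      exact (eq_inv_of_mul_eq_one_right e2).trans (inv_of_sq (c.U_sq hw))
    rcases c.iso w (c.T_le (c.U_le hw)) (c.mem_T.1 (c.U_le hw)).2 (c.U_sq hw)
      (mul_inv_eq_iff_eq_mul.1 htw).symm with h1 | h1
    · exact ⟨x, hx, hxu, by rw [hxx', h1, mul_one]⟩
    · refine ⟨x * h.a, mul_mem hx h.aT, by rw [h.phi_mul hx h.aT, (h.phi_eq_one h.aT).2 h.aD, mul_one, hxu], ?_⟩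
      obtain ⟨e, he, hte⟩ := h.conj_a _ c.tS
      rw [show c.t * (x * h.a) * c.t⁻¹ = (c.t * x * c.t⁻¹) * (c.t * h.a * c.t⁻¹) by group, ← hx'def, hte]
      have ax : ∀ {p}, p ∈ c.T → h.a * p = p * h.a * h.phi p := fun {p} hp => by
        rw [← h.phi_inv hp, phi, inv_inv]; group
      have hpx' : h.phi x' = c.u * c.z := hx' hx hxu
      have lhs : x * h.a * (x' * (h.a * e)) = x * x' * (c.u * c.z) * (c.z * e) := by
        rw [show x * h.a * (x' * (h.a * e)) = x * (h.a * x') * h.a * e by group, ax hx'T, hpx',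
          show x * (x' * h.a * (c.u * c.z)) * h.a * e = x * x' * h.a * ((c.u * c.z) * h.a) * e by group,
          ← h.a_U (mul_mem c.uU c.zU),
          show x * x' * h.a * (h.a * (c.u * c.z)) * e = x * x' * (h.a * h.a) * ((c.u * c.z) * e) by group, h.aa]
        rw [mul_assoc (x * x'), ← mul_assoc c.z, show c.z * (c.u * c.z) = c.u * c.z * c.z from
          c.T_U c.zT (mul_mem c.uU c.zU)]
        group
      have rhs : x' * (h.a * e) * (x * h.a) = x' * x * c.u * (c.z * e) := by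
        rw [show x' * (h.a * e) * (x * h.a) = x' * h.a * (e * x) * h.a by group, ← c.T_U hx he,
          show x' * h.a * (x * e) * h.a = x' * (h.a * x) * (e * h.a) by group, ax hx, hxu, ← h.a_U he,
          show x' * (x * h.a * c.u) * (h.a * e) = x' * x * h.a * (c.u * h.a) * e by group, ← h.a_U c.uU,
          show x' * x * h.a * (h.a * c.u) * e = x' * x * (h.a * h.a) * (c.u * e) by group, h.aa]
        rw [mul_assoc (x' * x), ← mul_assoc c.z, ← c.zu_comm]
        group
      rw [lhs, rhs, hxx', h1, show x' * x * c.z * (c.u * c.z) = x' * x * (c.z * c.u * c.z) by group, ← c.zu_comm,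
        mul_assoc c.u, c.zz, mul_one]
  set x' := c.t * x * c.t⁻¹ with hx'def
  have hx'T : x' ∈ c.T := c.T_normal c.tS hx
  have hxq := hsq hx (hu1 hxu).1
  have hx'1 : h.phi x' ≠ 1 ∧ h.phi x' ≠ c.z := by rw [hx' hx hxu]; exact ⟨c.uz1, c.uz_ne_z⟩
  -- the homocyclic subgroup
  let gens : Set G := {p | p ∈ c.U ∨ p = x ∨ p = x'}
  let B : Subgroup G := closure gens
  have hgT : gens ⊆ c.T := by
    rintro p (hp | rfl | rfl)
    exacts [c.U_le hp, hx, hx'T]
  have hBT : B ≤ c.T := (closure_le _).2 hgT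
  have hgc : ∀ p ∈ gens, ∀ q ∈ gens, p * q = q * p := by
    rintro p (hp | rfl | rfl) q (hq | rfl | rfl)
    exacts [c.T_U (c.U_le hp) hq, (c.T_U hx hp).symm, (c.T_U hx'T hp).symm, c.T_U hx hq, rfl, hxc,
      c.T_U hx'T hq, hxc.symm, rfl]
  haveI : IsMulCommutative ↥B := isMulCommutative_closure hgc
  have hBc : ∀ p ∈ B, ∀ q ∈ B, p * q = q * p := fun p hp q hq =>
    congrArg Subtype.val (mul_comm' (⟨p, hp⟩ : ↥B) ⟨q, hq⟩)
  have hUB : c.U ≤ B := fun e he => subset_closure (Or.inl he)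
  have hxB : x ∈ B := subset_closure (Or.inr (Or.inl rfl))
  have hx'B : x' ∈ B := subset_closure (Or.inr (Or.inr rfl))
  have hB4 : ∀ b ∈ B, b ^ 4 = 1 := by
    intro b hb
    have hle : ∀ p ∈ B, p * p ∈ c.U := fun p hp => by
      induction hp using closure_induction with
      | mem p hp =>
        rcases hp with hp | rfl | rfl
        exacts [mul_mem hp hp, hxq, hsq hx'T hx'1.1]
      | one => rw [mul_one]; exact one_mem _
      | mul p q hp hq ihp ihq =>
        rw [show p * q * (p * q) = p * (q * p) * q by group, hBc q hq p hp,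
          show p * (p * q) * q = (p * p) * (q * q) by group]
        exact mul_mem ihp ihq
      | inv p hp ihp =>
        rw [← mul_inv_rev]; exact inv_mem ihp
    rw [show b ^ 4 = (b * b) * (b * b) from pow_four _, c.U_sq (hle b hb)]
  have hBn : ∀ s ∈ (c.S : Subgroup G), ∀ b ∈ B, s * b * s⁻¹ ∈ B := by
    have hTn : ∀ r ∈ c.T, ∀ b ∈ gens, r * b * r⁻¹ ∈ B := by
      intro r hr b hb
      have key : ∀ p, p ∈ c.T → p ∈ B → h.phi p ≠ 1 → h.phi p ≠ c.z → r * p * r⁻¹ ∈ B := by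
        intro p hp hpB h1 h2
        obtain ⟨w, hw, e⟩ := hcom hp hr h1 h2
        have e1 : r * p * r⁻¹ = w⁻¹ * p := by
          calc r * p * r⁻¹ = r * p * (r * w)⁻¹ * (r * w * r⁻¹) := by group
            _ = r * p * (p * r * p⁻¹)⁻¹ * (r * w * r⁻¹) := by rw [e]
            _ = r * (p * p) * r⁻¹ * p⁻¹ * (r * w * r⁻¹) := by group
            _ = p * p * p⁻¹ * w := by
              rw [c.T_U hr (hsq hp h1), mul_inv_cancel_right, c.T_U hr hw]; group
            _ = w⁻¹ * p := by rw [mul_inv_cancel_right, inv_of_sq (c.U_sq hw), c.T_U hp hw]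
        rw [e1]; exact mul_mem (inv_mem (hUB hw)) hpB
      rcases hb with hb | rfl | rfl
      · exact hUB (c.U_normal (c.T_le hr) hb)
      · exact key _ hx hxB (hu1 hxu).1 (hu1 hxu).2
      · exact key _ hx'T hx'B hx'1.1 hx'1.2
    have hTB : ∀ r ∈ c.T, ∀ b ∈ B, r * b * r⁻¹ ∈ B := by
      intro r hr b hb
      have : B ≤ B.comap (MulAut.conj r).toMonoidHom := (closure_le _).2 fun p hp => hTn r hr p hp
      exact this hb
    have htB : ∀ b ∈ B, c.t * b * c.t⁻¹ ∈ B := by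
      intro b hb
      have : B ≤ B.comap (MulAut.conj c.t).toMonoidHom := (closure_le _).2 fun p hp => by
        show c.t * p * c.t⁻¹ ∈ B
        rcases hp with hp | rfl | rfl
        · exact hUB (c.U_normal c.tS hp)
        · rw [← hx'def]; exact hx'B
        · rw [hx'def, hti, ← mul_assoc, ← mul_assoc, c.tt, one_mul, mul_assoc, c.tt, mul_one]; exact hxB
      exact this hb
    intro s hs b hb
    by_cases hsT : s ∈ c.T
    · exact hTB s hsT b hb
    · have := hTB _ (c.mul_outer hs c.tS hsT c.tT) _ (htB b hb)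
      rw [hti] at this
      rwa [show s * c.t * (c.t * b * c.t) * (s * c.t)⁻¹ = s * ((c.t * c.t) * b * (c.t * c.t⁻¹)) * s⁻¹ by group,
        c.tt, one_mul, mul_inv_cancel, mul_one] at this
  -- its squares
  set y := x * x' with hy
  have hyt : c.t * y * c.t⁻¹ = y := by
    rw [hy, show c.t * (x * x') * c.t⁻¹ = (c.t * x * c.t⁻¹) * (c.t * x' * c.t⁻¹) by group, ← hx'def,
      show c.t * x' * c.t⁻¹ = x by rw [hx'def, hti, ← mul_assoc, ← mul_assoc, c.tt, one_mul, mul_assoc, c.tt, mul_one]]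
    exact hxc.symm
  have hphy : h.phi y = c.z := by
    rw [hy, h.phi_mul hx hx'T, hxu, hx' hx hxu, ← mul_assoc, c.uu, one_mul]
  have hyy : y * y = c.z := by
    have hyB : y ∈ B := mul_mem hxB hx'B
    rcases h.one_square B (hBT.trans c.T_le) hUB hBn hBc hB4 y hyB with h1 | h1
    · exfalso
      rcases c.iso y (c.T_le (hBT hyB)) (c.mem_T.1 (hBT hyB)).2 h1 (mul_inv_eq_iff_eq_mul.1 hyt).symm with e | e <;>
        rw [e] at hphy
      · exact c.z1 (hphy.symm.trans ((h.phi_eq_one (one_mem _)).2 (one_mem _)))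
      · exact c.z1 (hphy.symm.trans ((h.phi_eq_one c.zT).2 (h.U_le_D c.zU)))
    · exact h1
  have hfix : c.t * (x * x) * c.t⁻¹ = x * x := by
    rcases h.one_square B (hBT.trans c.T_le) hUB hBn hBc hB4 x hxB with h1 | h1 <;> rw [h1]
    · group
    · rw [c.zc _ c.tS, mul_inv_cancel_right]
  have : y * y = 1 := by
    rw [hy, show x * x' * (x * x') = x * (x' * x) * x' by group, ← hxc,
      show x * (x * x') * x' = (x * x) * (x' * x') by group, hx'def,
      show c.t * x * c.t⁻¹ * (c.t * x * c.t⁻¹) = c.t * (x * x) * c.t⁻¹ by group, hfix, c.U_sq hxq]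
  exact c.z1 (hyy.symm.trans this)

end SmallCase

end CfsgLib.Nonconn
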