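import Mathlib

/-!
An involution of a Sylow 2-subgroup with nontrivial image in an abelian quotient of it has, in a simple group,
a conjugate with another image whose Sylow centraliser is as large.

Blueprint: `blueprint/S0503.md`, lemma L1.
-/

set_option autoImplicit false

namespace CfsgLib.Nonconn

open Subgroup

variable {G : Type*} [Group G] [Finite G]

/-- The transfer form of L1. -/
theorem exists_other_image [IsSimpleGroup G] (hna : ∃ a b : G, a * b ≠ b * a) (S : Sylow 2 G) {A : Type*}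
    [CommGroup A] (ψ : ↥(S : Subgroup G) →* A) {T : Subgroup G} (hTS : T ≤ (S : Subgroup G)) {u : G}
    (huS : u ∈ (S : Subgroup G)) (hu : u * u = 1) (hTu : ∀ x ∈ T, x * u = u * x)
    (hψ : ψ ⟨u, huS⟩ ≠ 1) :
    ∃ g : G, (∀ x ∈ T, g * x * g⁻¹ ∈ (S : Subgroup G)) ∧
      ∀ h : g * u * g⁻¹ ∈ (S : Subgroup G), ψ ⟨g * u * g⁻¹, h⟩ ≠ ψ ⟨u, huS⟩ := by
  classical
  haveI := Fact.mk Nat.prime_two
  by_contra hcon
  push Not at hcon
  haveI := Fintype.ofFinite (G ⧸ (S : Subgroup G))
  -- the value at a coset fixed by `u`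
  let f : G ⧸ (S : Subgroup G) → A := fun q => if h : q.out⁻¹ * u * q.out ∈ (S : Subgroup G) then ψ ⟨_, h⟩ else 1
  have hfix : ∀ g : G, u • (g : G ⧸ (S : Subgroup G)) = g ↔ g⁻¹ * u * g ∈ (S : Subgroup G) := fun g => by
    rw [MulAction.Quotient.smul_mk, smul_eq_mul, QuotientGroup.eq,
      show (u * g)⁻¹ * g = (g⁻¹ * u * g)⁻¹ by group, inv_mem_iff]
  have hval : ∀ (g : G) (h : g⁻¹ * u * g ∈ (S : Subgroup G)), f (g : G ⧸ (S : Subgroup G)) = ψ ⟨_, h⟩ := by
    intro g h
    obtain ⟨s, hs⟩ := QuotientGroup.mk_out_eq_mul (S : Subgroup G) g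
    have e : (g : G ⧸ (S : Subgroup G)).out⁻¹ * u * (g : G ⧸ (S : Subgroup G)).out = (s : G)⁻¹ * (g⁻¹ * u * g) * s := by rw [hs]; group
    have hm : (g : G ⧸ (S : Subgroup G)).out⁻¹ * u * (g : G ⧸ (S : Subgroup G)).out ∈ (S : Subgroup G) :=
      e ▸ mul_mem (mul_mem (inv_mem s.2) h) s.2
    show (if h : _ then ψ ⟨_, h⟩ else 1) = _
    rw [dif_pos hm, show (⟨_, hm⟩ : ↥(S : Subgroup G)) = s⁻¹ * ⟨_, h⟩ * s from Subtype.ext e, map_mul, map_mul, map_inv,
      mul_comm, ← mul_assoc, mul_inv_cancel, one_mul]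
  have hout : ∀ q : G ⧸ (S : Subgroup G), u • q ≠ q → f q = 1 := fun q hq => by
    refine dif_neg fun h => hq ?_
    rw [← QuotientGroup.out_eq' q]
    exact (hfix _).2 h
  have hsq : ∀ (g : G) (h : g⁻¹ * u * g ∈ (S : Subgroup G)), ψ ⟨_, h⟩ * ψ ⟨_, h⟩ = 1 := fun g h => by
    rw [← map_mul, show (⟨_, h⟩ : ↥(S : Subgroup G)) * ⟨_, h⟩ = 1 from Subtype.ext (by
      show g⁻¹ * u * g * (g⁻¹ * u * g) = 1
      rw [show g⁻¹ * u * g * (g⁻¹ * u * g) = g⁻¹ * (u * u) * g by group, hu]; group), map_one]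
  have hf2 : ∀ q, f q * f q = 1 := fun q => by
    by_cases h : q.out⁻¹ * u * q.out ∈ (S : Subgroup G)
    · show (if h : _ then ψ ⟨_, h⟩ else 1) * (if h : _ then ψ ⟨_, h⟩ else 1) = 1
      rw [dif_pos h]; exact hsq _ h
    · show (if h : _ then ψ ⟨_, h⟩ else 1) * (if h : _ then ψ ⟨_, h⟩ else 1) = 1
      rw [dif_neg h, one_mul]
  -- the orbits of `T`
  have hinv : ∀ (x : ↥T) (q : G ⧸ (S : Subgroup G)), f (x • q) = f q := by
    intro x q
    obtain ⟨g, rfl⟩ := QuotientGroup.mk_surjective q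
    show f (((x : G) * g : G) : G ⧸ (S : Subgroup G)) = f (g : G ⧸ (S : Subgroup G))
    have e : ((x : G) * g)⁻¹ * u * ((x : G) * g) = g⁻¹ * u * g := by
      rw [show ((x : G) * g)⁻¹ * u * ((x : G) * g) = g⁻¹ * ((x : G)⁻¹ * (u * x)) * g by group, ← hTu x x.2]
      group
    by_cases h : g⁻¹ * u * g ∈ (S : Subgroup G)
    · rw [hval _ (e.symm ▸ h), hval _ h]
      congr 1
      exact Subtype.ext e
    · have h' : u • (((x : G) * g : G) : G ⧸ (S : Subgroup G)) ≠ (((x : G) * g : G) : G ⧸ (S : Subgroup G)) := fun hh =>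
        h (e ▸ (hfix _).1 hh)
      rw [hout _ h', hout _ fun hh => h ((hfix _).1 hh)]
  haveI : Fintype (MulAction.orbitRel.Quotient ↥T (G ⧸ (S : Subgroup G))) := Fintype.ofFinite _
  have hprod : ∏ q, f q = ψ ⟨u, huS⟩ := by
    haveI : ∀ o : MulAction.orbitRel.Quotient ↥T (G ⧸ (S : Subgroup G)), Fintype ↥(MulAction.orbit ↥T o.out) :=
      fun o => Fintype.ofFinite _
    rw [← (MulAction.selfEquivSigmaOrbits ↥T (G ⧸ (S : Subgroup G))).symm.prod_comp f, Fintype.prod_sigma]
    have horb : ∀ (q : G ⧸ (S : Subgroup G)) [Fintype ↥(MulAction.orbit ↥T q)],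
        (∏ y : ↥(MulAction.orbit ↥T q), f y) = ψ ⟨u, huS⟩ ^ Nat.card ↥(MulAction.orbit ↥T q) := by
      intro q _
      have hc : ∀ y : ↥(MulAction.orbit ↥T q), f y = f q := fun ⟨_, x, rfl⟩ => hinv x q
      rw [Finset.prod_congr rfl fun y _ => hc y, Finset.prod_const, Finset.card_univ, Nat.card_eq_fintype_card]
      obtain ⟨k, hk⟩ := (S.2.to_le hTS).card_orbit q
      rw [Nat.card_eq_fintype_card] at hk
      rw [hk]
      rcases Nat.eq_zero_or_pos k with rfl | hk0
      · -- a fixed point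
        rw [pow_zero, pow_one, pow_one]
        obtain ⟨g, rfl⟩ := QuotientGroup.mk_surjective q
        have hfx : ∀ x ∈ T, g⁻¹ * x * g ∈ (S : Subgroup G) := fun x hx => by
          haveI : Subsingleton ↥(MulAction.orbit ↥T (g : G ⧸ (S : Subgroup G))) :=
            Fintype.card_le_one_iff_subsingleton.1 (by rw [hk, pow_zero])
          have : ((x * g : G) : G ⧸ (S : Subgroup G)) = (g : G ⧸ (S : Subgroup G)) := congrArg Subtype.val
            (Subsingleton.elim (⟨_, ⟨⟨x, hx⟩, rfl⟩⟩ : ↥(MulAction.orbit ↥T (g : G ⧸ (S : Subgroup G))))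
              ⟨_, MulAction.mem_orbit_self _⟩)
          rw [QuotientGroup.eq] at this
          simpa [mul_assoc] using inv_mem this
        obtain ⟨h, hh⟩ := hcon g⁻¹ (fun x hx => by simpa using hfx x hx)
        have h' : g⁻¹ * u * g ∈ (S : Subgroup G) := by simpa using h
        rw [hval g h', ← hh]
        congr 1
        exact Subtype.ext (by simp)
      · obtain ⟨m, hm⟩ : 2 ∣ 2 ^ k := dvd_pow_self 2 hk0.ne'
        have h1 : f q ^ 2 = 1 := by rw [pow_two, hf2]
        have h2 : ψ ⟨u, huS⟩ ^ 2 = 1 := by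
          rw [← map_pow, show (⟨u, huS⟩ : ↥(S : Subgroup G)) ^ 2 = 1 from Subtype.ext (by simp [pow_two, hu]), map_one]
        rw [hm, pow_mul, pow_mul, h1, h2]
    show ∏ o : MulAction.orbitRel.Quotient ↥T (G ⧸ (S : Subgroup G)), ∏ y : ↥(MulAction.orbit ↥T o.out), f y = _
    rw [Finset.prod_congr rfl fun o _ => horb o.out, Finset.prod_pow_eq_pow_sum]
    have hsum : ∑ o : MulAction.orbitRel.Quotient ↥T (G ⧸ (S : Subgroup G)), Nat.card ↥(MulAction.orbit ↥T o.out) = (S : Subgroup G).index := by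
      rw [← Nat.card_sigma, ← Nat.card_congr (MulAction.selfEquivSigmaOrbits ↥T (G ⧸ (S : Subgroup G)))]
      rfl
    rw [hsum]
    have h2 : ψ ⟨u, huS⟩ ^ 2 = 1 := by
      rw [← map_pow, show (⟨u, huS⟩ : ↥(S : Subgroup G)) ^ 2 = 1 from Subtype.ext (by simp [pow_two, hu]), map_one]
    obtain ⟨m, hm⟩ : Odd (S : Subgroup G).index := Nat.odd_iff.2 (Nat.two_dvd_ne_zero.1 S.not_dvd_index)
    rw [hm, pow_succ, pow_mul, h2, one_pow, one_mul]
  -- the transfer
  let V : G →* A := MonoidHom.transfer ψ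
  haveI : Fintype (Quotient (MulAction.orbitRel (Subgroup.zpowers u) (G ⧸ (S : Subgroup G)))) := Fintype.ofFinite _
  have hm : ∀ q : G ⧸ (S : Subgroup G), Function.minimalPeriod (u • ·) q = 1 ∨ Function.minimalPeriod (u • ·) q = 2 := by
    intro q
    refine (Nat.dvd_prime Nat.prime_two).mp (Function.IsPeriodicPt.minimalPeriod_dvd ?_)
    show (fun x : G ⧸ (S : Subgroup G) => u • x)^[2] q = q
    rw [smul_iterate, pow_two, hu]
    exact one_smul G q
  have hV : V u = ∏ q, f q := by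
    show MonoidHom.transfer ψ u = _
    rw [MonoidHom.transfer_eq_prod_quotient_orbitRel_zpowers_quot]
    have e : ∏ q, f q = ∏ o : Quotient (MulAction.orbitRel (Subgroup.zpowers u) (G ⧸ (S : Subgroup G))), f o.out := by
      rw [← Finset.prod_subset (Finset.subset_univ (Finset.univ.filter fun q : G ⧸ (S : Subgroup G) => u • q = q))
        fun q _ hq => hout q fun h => hq (Finset.mem_filter.2 ⟨Finset.mem_univ _, h⟩)]
      rw [← Finset.prod_subset (Finset.subset_univ (Finset.univ.filter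
        fun o : Quotient (MulAction.orbitRel (Subgroup.zpowers u) (G ⧸ (S : Subgroup G))) => u • o.out = o.out))
        fun o _ hq => hout _ fun h => hq (Finset.mem_filter.2 ⟨Finset.mem_univ _, h⟩)]
      have hsame : ∀ q : G ⧸ (S : Subgroup G), u • q = q →
          (Quotient.mk (MulAction.orbitRel (Subgroup.zpowers u) (G ⧸ (S : Subgroup G))) q).out = q := by
        intro q hq
        obtain ⟨⟨w, k, rfl⟩, hw⟩ := MulAction.orbitRel_apply.mp
          (Quotient.mk_out (s := MulAction.orbitRel (Subgroup.zpowers u) (G ⧸ (S : Subgroup G))) q)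
        rw [← hw]
        show (u ^ k) • q = q
        have h1 : u ∈ MulAction.stabilizer G q := hq
        exact zpow_mem h1 k
      refine Finset.prod_bij' (fun q _ => Quotient.mk _ q) (fun o _ => o.out) ?_ ?_ ?_ ?_ ?_
      · intro q hq
        rw [Finset.mem_filter] at hq ⊢
        exact ⟨Finset.mem_univ _, by rw [hsame q hq.2]; exact hq.2⟩
      · intro o ho
        rw [Finset.mem_filter] at ho ⊢
        exact ⟨Finset.mem_univ _, ho.2⟩
      · intro q hq
        exact hsame q (Finset.mem_filter.1 hq).2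
      · intro o _
        exact Quotient.out_eq o
      · intro q hq
        rw [hsame q (Finset.mem_filter.1 hq).2]
    rw [e]
    refine Finset.prod_congr rfl fun o _ => ?_
    have key : ∀ (m : ℕ) (g₀ : G) (hmem : g₀⁻¹ * u ^ m * g₀ ∈ (S : Subgroup G)), m = 1 ∨ m = 2 →
        (g₀ : G ⧸ (S : Subgroup G)) = o.out → Function.minimalPeriod (u • ·) o.out = m →
        ψ ⟨g₀⁻¹ * u ^ m * g₀, hmem⟩ = f o.out := by
      rintro m g₀ hmem (rfl | rfl) hg hper
      · simp only [pow_one] at hmem ⊢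
        rw [← hg, hval g₀ hmem]
      · rw [hout o.out fun h => by
          have h1 : Function.minimalPeriod (fun x : G ⧸ (S : Subgroup G) => u • x) o.out = 1 :=
            Function.minimalPeriod_eq_one_iff_isFixedPt.mpr h
          rw [h1] at hper; omega]
        rw [show (⟨g₀⁻¹ * u ^ 2 * g₀, hmem⟩ : ↥(S : Subgroup G)) = 1 from Subtype.ext (by simp [pow_two, hu]), map_one]
    exact key _ _ _ (hm o.out) (QuotientGroup.out_eq' _) rfl
  rw [hprod] at hV
  rcases (inferInstance : V.ker.Normal).eq_bot_or_eq_top with hb | ht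
  · obtain ⟨a, b, hab⟩ := hna
    exact hab ((MonoidHom.ker_eq_bot_iff V).1 hb (by rw [map_mul, map_mul, mul_comm]))
  · exact hψ (hV.symm.trans (MonoidHom.mem_ker.1 (ht ▸ mem_top u : u ∈ V.ker)))

end CfsgLib.Nonconn
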